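import Cfsg.Agent.PushingUp44.Weights

/-!
The structure of the Sylow subgroup in the pushing up situation of rank one.
-/

set_option autoImplicit false

open Cfsg
open scoped MatrixGroups commutatorElement

namespace CfsgLib.PushingUp44

open CfsgLib.PushingUp (Hyp)

section Tools

variable {G : Type*} [Group G]

theorem lcs_mono {A B : Subgroup G} (h : A ≤ B) (i : ℕ) :
    A.lowerCentralSeries i ≤ B.lowerCentralSeries i := by
  induction i with
  | zero => exact h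
  | succ i ih => exact Subgroup.commutator_mono ih h

theorem lcs_le_self (A : Subgroup G) (i : ℕ) : A.lowerCentralSeries i ≤ A :=
  Subgroup.lowerCentralSeries_antitone A (Nat.zero_le i)

/-- Commutators in a product of two subgroups commuting up to central elements. -/
theorem lcs_split {S A D Z : Subgroup G} (hdec : ∀ s ∈ S, ∃ a ∈ A, ∃ d ∈ D, a * d = s) (hA : A ≤ S)
    (hD : D ≤ S) (hZS : Z ≤ S) (hZ : Z ≤ Subgroup.centralizer (S : Set G))
    (hAD : ∀ a ∈ A, ∀ d ∈ D, ⁅a, d⁆ ∈ Z) (i : ℕ) :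
    S.lowerCentralSeries (i + 2) ≤ A.lowerCentralSeries (i + 2) ⊔ D.lowerCentralSeries (i + 2) := by
  have hzc : ∀ z ∈ Z, ∀ s ∈ S, Commute z s := fun z hz s hs =>
    (Subgroup.mem_centralizer_iff.1 (hZ hz) s hs).symm
  have hinv : ∀ (T : Subgroup G), T ≤ S → ∀ (U : Subgroup G), U ≤ S → (∀ a ∈ T, ∀ d ∈ U, ⁅a, d⁆ ∈ Z) →
      ∀ x ∈ T.lowerCentralSeries 1, ∀ d ∈ U, Commute x d := by
    intro T hT U hU hTU x hx d hd
    have hle : T.lowerCentralSeries 1 ≤ Subgroup.centralizer ({d} : Set G) := by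
      show ⁅T.lowerCentralSeries 0, T⁆ ≤ _
      rw [Subgroup.lowerCentralSeries_zero, Subgroup.commutator_le]
      intro a ha a' ha'
      rw [Subgroup.mem_centralizer_singleton_iff]
      set z := ⁅d, a⁆ with hz
      set z' := ⁅d, a'⁆ with hz'
      have hzZ : z ∈ Z := comm_symm_mem (hTU a ha d hd)
      have hzZ' : z' ∈ Z := comm_symm_mem (hTU a' ha' d hd)
      have e1 : d * a * d⁻¹ = z * a := by rw [hz, commutatorElement_def]; group
      have e2 : d * a' * d⁻¹ = z' * a' := by rw [hz', commutatorElement_def]; group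
      have e : d * ⁅a, a'⁆ * d⁻¹ = ⁅a, a'⁆ := by
        calc d * ⁅a, a'⁆ * d⁻¹ = ⁅d * a * d⁻¹, d * a' * d⁻¹⁆ := by simp [commutatorElement_def, mul_assoc]
          _ = ⁅z * a, z' * a'⁆ := by rw [e1, e2]
          _ = ⁅a, a'⁆ := by
            have hc : ⁅a, a'⁆ ∈ S := hT (by
              rw [commutatorElement_def]
              exact mul_mem (mul_mem (mul_mem ha ha') (inv_mem ha)) (inv_mem ha'))
            rw [comm_mul_left, commute_comm_one (hzc z hzZ _ (mul_mem (hZS hzZ') (hT ha'))), mul_one,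
              comm_mul_right, commute_comm_one (hzc z' hzZ' a (hT ha)).symm, one_mul,
              (hzc z' hzZ' _ hc).eq, mul_inv_cancel_right, (hzc z hzZ _ hc).eq, mul_inv_cancel_right]
      exact (mul_inv_eq_iff_eq_mul.1 e).symm
    exact Subgroup.mem_centralizer_singleton_iff.1 (hle hx)
  have hA1 := hinv A hA D hD hAD
  have hD1 := hinv D hD A hA fun d hd a ha => comm_symm_mem (hAD a ha d hd)
  have hup : ∀ (j : ℕ) (T : Subgroup G), T.lowerCentralSeries (j + 1) ≤ T.lowerCentralSeries 1 :=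
    fun j T => Subgroup.lowerCentralSeries_antitone T (by omega)
  have step : ∀ j, ∀ al ∈ A.lowerCentralSeries (j + 1), ∀ dl ∈ D.lowerCentralSeries (j + 1), ∀ a ∈ A, ∀ d ∈ D,
      ⁅al * dl, a * d⁆ ∈ A.lowerCentralSeries (j + 2) ⊔ D.lowerCentralSeries (j + 2) := by
    intro j al hal dl hdl a ha d hd
    have c1 : Commute dl a := hD1 dl (hup j D hdl) a ha
    have c2 : Commute al⁻¹ d⁻¹ := (hA1 al (hup j A hal) d hd).inv_inv
    have hdd : ⁅dl, d⁆ ∈ D.lowerCentralSeries 1 :=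
      hup (j + 1) D (Subgroup.commutator_mem_commutator hdl hd)
    have c3 : Commute ⁅dl, d⁆ (al⁻¹ * a⁻¹) :=
      (hD1 _ hdd _ (inv_mem (lcs_le_self A _ hal))).mul_right (hD1 _ hdd _ (inv_mem ha))
    have e : ⁅al * dl, a * d⁆ = ⁅al, a⁆ * ⁅dl, d⁆ := by
      calc ⁅al * dl, a * d⁆ = al * (dl * a) * (d * dl⁻¹) * (al⁻¹ * d⁻¹) * a⁻¹ := by
            simp [commutatorElement_def, mul_assoc]
        _ = al * (a * dl) * (d * dl⁻¹) * (d⁻¹ * al⁻¹) * a⁻¹ := by rw [c1.eq, c2.eq]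
        _ = al * a * (⁅dl, d⁆ * (al⁻¹ * a⁻¹)) := by simp [commutatorElement_def, mul_assoc]
        _ = al * a * (al⁻¹ * a⁻¹ * ⁅dl, d⁆) := by rw [c3.eq]
        _ = ⁅al, a⁆ * ⁅dl, d⁆ := by simp [commutatorElement_def, mul_assoc]
    rw [e]
    exact mul_mem (Subgroup.mem_sup_left (Subgroup.commutator_mem_commutator hal ha))
      (Subgroup.mem_sup_right (Subgroup.commutator_mem_commutator hdl hd))
  have hall : ∀ j, S.lowerCentralSeries (j + 1) ≤
      (A.lowerCentralSeries (j + 1) ⊔ D.lowerCentralSeries (j + 1)) ⊔ Z → S.lowerCentralSeries (j + 2) ≤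
        A.lowerCentralSeries (j + 2) ⊔ D.lowerCentralSeries (j + 2) := by
    intro j hj
    refine Subgroup.commutator_le.2 fun x hx s hs => ?_
    obtain ⟨m, hm, z, hz, rfl⟩ := exists_mul_of_mem_sup (by
      refine le_trans ?_ (Subgroup.centralizer_le_normalizer (Z : Set G))
      rw [Subgroup.le_centralizer_iff]
      refine hZ.trans (Subgroup.centralizer_le ?_)
      exact SetLike.coe_subset_coe.2 (sup_le ((lcs_le_self A _).trans hA) ((lcs_le_self D _).trans hD))) (hj hx)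
    obtain ⟨al, hal, dl, hdl, rfl⟩ := exists_mul_of_mem_sup (by
      refine le_trans ?_ (Subgroup.centralizer_le_normalizer (D.lowerCentralSeries (j + 1) : Set G))
      intro a ha
      rw [Subgroup.mem_centralizer_iff]
      intro d hd
      exact (hA1 a (hup j A ha) d (lcs_le_self D _ hd)).symm.eq) hm
    obtain ⟨a, ha, d, hd, rfl⟩ := hdec s hs
    rw [comm_mul_left (al * dl) z, commute_comm_one (hzc z hz _ (mul_mem (hA ha) (hD hd))), mul_one,
      mul_inv_cancel, one_mul]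
    exact step j al hal dl hdl a ha d hd
  induction i with
  | zero =>
    refine hall 0 (Subgroup.commutator_le.2 fun x hx s hs => ?_)
    rw [Subgroup.lowerCentralSeries_zero] at hx
    obtain ⟨a, ha, d, hd, rfl⟩ := hdec x hx
    obtain ⟨a', ha', d', hd', rfl⟩ := hdec s hs
    set J := (A.lowerCentralSeries 1 ⊔ D.lowerCentralSeries 1) ⊔ Z with hJ
    have h1 : ⁅a, a' * d'⁆ ∈ J := by
      rw [comm_mul_right]
      refine mul_mem (Subgroup.mem_sup_left (Subgroup.mem_sup_left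
        (Subgroup.commutator_mem_commutator (H₁ := A.lowerCentralSeries 0) ha ha'))) ?_
      rw [(hzc _ (hAD a ha d' hd') a' (hA ha')).symm.eq, mul_inv_cancel_right]
      exact Subgroup.mem_sup_right (hAD a ha d' hd')
    have hdd : ⁅d, d'⁆ ∈ D.lowerCentralSeries 1 :=
      Subgroup.commutator_mem_commutator (H₁ := D.lowerCentralSeries 0) hd hd'
    have h2 : a * ⁅d, a' * d'⁆ * a⁻¹ ∈ J := by
      have hz := comm_symm_mem (hAD a' ha' d hd)
      rw [comm_mul_right, (hD1 _ hdd a' ha').symm.eq, mul_inv_cancel_right,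
        ((hzc _ hz a (hA ha)).mul_left (hD1 _ hdd a ha)).symm.eq, mul_inv_cancel_right]
      exact mul_mem (Subgroup.mem_sup_right hz) (Subgroup.mem_sup_left (Subgroup.mem_sup_right hdd))
    rw [comm_mul_left]
    exact mul_mem h2 h1
  | succ i ih => exact hall (i + 1) (ih.trans le_sup_left)

theorem pow_mul_central {a b z : G} (hz : ⁅b, a⁆ = z) (ha : Commute z a) (hb : Commute z b) (m : ℕ) :
    (a * b) ^ m = a ^ m * b ^ m * z ^ m.choose 2 := by
  have hba : ∀ j : ℕ, b ^ j * a = z ^ j * a * b ^ j := by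
    intro j
    induction j with
    | zero => simp
    | succ j ih =>
      have e : b * a = z * a * b := by rw [← hz, commutatorElement_def]; group
      calc b ^ (j + 1) * a = b * (b ^ j * a) := by rw [pow_succ', mul_assoc]
        _ = b * z ^ j * a * b ^ j := by rw [ih]; simp [mul_assoc]
        _ = z ^ j * (b * a) * b ^ j := by rw [((hb.pow_left j).symm).eq]; simp [mul_assoc]
        _ = z ^ j * z * a * (b * b ^ j) := by rw [e]; simp [mul_assoc]
        _ = z ^ (j + 1) * a * b ^ (j + 1) := by rw [← pow_succ, ← pow_succ']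
  induction m with
  | zero => simp
  | succ m ih =>
    have hzc : ∀ j : ℕ, Commute (z ^ j) (a * b) := fun j => (ha.pow_left j).mul_right (hb.pow_left j)
    have hzb : Commute (z ^ m) (b ^ m * b) := ((hb.pow_left m).pow_right m).mul_right (hb.pow_left m)
    calc (a * b) ^ (m + 1) = a ^ m * b ^ m * (z ^ m.choose 2 * (a * b)) := by rw [pow_succ, ih, mul_assoc]
      _ = a ^ m * (b ^ m * a) * b * z ^ m.choose 2 := by rw [(hzc _).eq]; simp [mul_assoc]
      _ = a ^ m * (z ^ m * a) * (b ^ m * b) * z ^ m.choose 2 := by rw [hba]; simp [mul_assoc]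
      _ = a ^ m * a * (z ^ m * (b ^ m * b)) * z ^ m.choose 2 := by rw [(ha.pow_left m).eq]; simp [mul_assoc]
      _ = a ^ m * a * (b ^ m * b) * (z ^ m * z ^ m.choose 2) := by rw [hzb.eq]; simp [mul_assoc]
      _ = a ^ (m + 1) * b ^ (m + 1) * z ^ (m + 1).choose 2 := by
        rw [← pow_succ, ← pow_succ, ← pow_add, Nat.choose_succ_succ, Nat.choose_one_right]

theorem engel_three {x y : G} (h1 : (x * y) ^ 3 = 1) (h2 : (x * y⁻¹) ^ 3 = 1) (h3 : y ^ 3 = 1) :
    Commute x ⁅x, y⁆ := by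
  have hyy : y⁻¹ * y⁻¹ = y := by
    have e : y * y * y = 1 := by rw [← h3]; simp [pow_succ, mul_assoc]
    calc y⁻¹ * y⁻¹ = y⁻¹ * y⁻¹ * (y * y * y) := by rw [e, mul_one]
      _ = y := by group
  have hyy' : y * y = y⁻¹ := by rw [← inv_inj, mul_inv_rev, inv_inv, hyy]
  have e1 : x * y * x = y⁻¹ * x⁻¹ * y⁻¹ := by
    have e : x * y * x * (y * (x * y)) = 1 := by rw [← h1]; simp [pow_succ, mul_assoc]
    rw [eq_inv_of_mul_eq_one_left e]; group
  have e2 : x * y⁻¹ * x = y * x⁻¹ * y := by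
    have e : x * y⁻¹ * x * (y⁻¹ * (x * y⁻¹)) = 1 := by rw [← h2]; simp [pow_succ, mul_assoc]
    rw [eq_inv_of_mul_eq_one_left e]; group
  have hc : Commute x (y * x * y⁻¹) := by
    show x * (y * x * y⁻¹) = y * x * y⁻¹ * x
    calc x * (y * x * y⁻¹) = (x * y * x) * y⁻¹ := by group
      _ = y⁻¹ * x⁻¹ * (y⁻¹ * y⁻¹) := by rw [e1]; group
      _ = y⁻¹ * x⁻¹ * y := by rw [hyy]
      _ = y * y * x⁻¹ * y := by rw [hyy']
      _ = y * (y * x⁻¹ * y) := by group
      _ = y * (x * y⁻¹ * x) := by rw [e2]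
      _ = y * x * y⁻¹ * x := by group
  rw [show ⁅x, y⁆ = x * (y * x * y⁻¹)⁻¹ by rw [commutatorElement_def]; group]
  exact (Commute.refl x).mul_right hc.inv_right

end Tools

namespace Conf.Bad

variable {Γ : Type*} [Group Γ] {ι : Type*} {c : Conf Γ ι} [Finite Γ] {P : ℕ → c.Vtx} {E : ℕ → Subgroup Γ}
  {h : Γ} (b : c.Bad P E h)
include b

theorem comm_V2_Q1 {y q : Γ} (hy : y ∈ c.Vx (P 2)) (hq : q ∈ c.Qx (P 1)) :
    ⁅y, q⁆ ∈ c.Vx (P 1) ⊓ c.Cx (P 1) := by
  have hqE : q ∈ c.Vx (P 0) ⊔ c.Qx (P 2) := b.sup2'.ge (c.Qx_le_syl b.step1.syl_left hq)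
  obtain ⟨w, hw, z, hz, rfl⟩ := exists_mul_of_mem_sup
    ((le_sup_left.trans_eq b.sup2').trans ((c.syl_le_Gx b.step1.syl_right).trans (c.Gx_le_normalizer_Qx _))) hqE
  rw [comm_mul_right, commute_comm_one (c.commute_Vx hy hz), mul_one, mul_inv_cancel, mul_one]
  exact b.isB.commutator_le_Cx b.isOpen b.crit b.good (j := 0) (by omega)
    ((Subgroup.commutator_comm _ _).le (Subgroup.commutator_mem_commutator hy hw))

theorem double_comm_mem_Zc {x y : Γ} (hx : x ∈ c.Vx (c.act h (P 1))) (hy : y ∈ c.Vx (P 2)) :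
    ⁅x, ⁅x, y⁆⁆ ∈ Zc (E 0) := by
  obtain ⟨l, hl, d, hd, hld⟩ := b.decomp (b.comm_mem_Fix hx hy)
  rw [← b.comm_V1_eq hx hy hl hd hld]
  have h1 := b.moved_comm (Subgroup.commutator_mem_commutator hx hl)
  exact ⟨c.Qx_le_syl b.step0.syl_left (c.Vx_le_Qx _ h1.1),
    Subgroup.centralizer_le (SetLike.coe_subset_coe.2 b.E0_le) h1.2⟩

theorem exists_double_comm_ne :
    ∃ x ∈ c.Vx (c.act h (P 1)), ∃ y ∈ c.Vx (P 2), ⁅x, ⁅x, y⁆⁆ ≠ 1 := by
  by_contra hcon
  push Not at hcon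
  exact b.false_of_forall fun x hx y hy => by rw [hcon x hx y hy]; exact one_mem _

theorem exists_core_decomp {q : Γ} (hq : q ∈ c.Qx (P 0)) :
    ∃ u ∈ c.Umod (P 0) (P 1), ∃ d ∈ c.Qx (c.act h (P 1)) ⊓ c.Qx (P 0) ⊓ c.Qx (P 1) ⊓ c.Qx (P 2),
      u * d = q := by
  have hV0Q1 : c.Vx (P 0) ≤ c.Qx (P 1) := b.isB.small (by omega)
    (b.crit.1.near (a := 0) (b := 1) (by omega) (by omega)).symm
  have hV1Q2 : c.Vx (P 1) ≤ c.Qx (P 2) := b.isB.small (by omega)
    (b.crit.1.near (a := 1) (b := 2) (by omega) le_rfl).symm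
  obtain ⟨v, hv, q₁, hq₁, rfl⟩ := exists_mul_of_mem_sup
    ((b.V'_le_E0.trans (c.syl_le_Gx b.step0.syl_right)).trans (c.Gx_le_normalizer_Qx _))
    (b.sup1'.ge (c.Qx_le_syl b.step0.syl_left hq))
  have hq₁0 : q₁ ∈ c.Qx (P 0) := by
    have := mul_mem (inv_mem (b.V'_le_Q0 hv)) hq; rwa [inv_mul_cancel_left] at this
  obtain ⟨w, hw, q₂, hq₂, rfl⟩ := exists_mul_of_mem_sup
    ((le_sup_left.trans_eq b.sup2').trans ((c.syl_le_Gx b.step1.syl_right).trans (c.Gx_le_normalizer_Qx _)))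
    (b.sup2'.ge (c.Qx_le_syl b.step1.syl_left hq₁))
  have hq₂0 : q₂ ∈ c.Qx (P 0) := by
    have := mul_mem (inv_mem (c.Vx_le_Qx _ hw)) hq₁0; rwa [inv_mul_cancel_left] at this
  have hq₂1 : q₂ ∈ c.Qx (P 1) := by
    have := mul_mem (inv_mem (hV0Q1 hw)) hq₁; rwa [inv_mul_cancel_left] at this
  have hF : c.Vx (P 1) ⊔ c.Qx (c.act h (P 1)) = cj h (E 0) := by
    have := b.isB.sup_eq b.moved.1
    simpa only [pre_zero, pre_two] using this
  have hVF : c.Vx (P 1) ≤ c.Gx (c.act h (P 1)) := by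
    refine (le_sup_left.trans_eq hF).trans ?_
    exact c.syl_le_Gx ((b.moved.1.1 0 (by omega)).syl_left)
  obtain ⟨w₁, hw₁, d, hd, rfl⟩ := exists_mul_of_mem_sup (hVF.trans (c.Gx_le_normalizer_Qx _))
    (hF.ge (c.Qx_le_syl b.sylF hq₂0))
  have hd0 : d ∈ c.Qx (P 0) := by
    have := mul_mem (inv_mem (b.V1_le_Q0 hw₁)) hq₂0; rwa [inv_mul_cancel_left] at this
  have hd1 : d ∈ c.Qx (P 1) := by
    have := mul_mem (inv_mem (c.Vx_le_Qx _ hw₁)) hq₂1; rwa [inv_mul_cancel_left] at this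
  have hd2 : d ∈ c.Qx (P 2) := by
    have := mul_mem (inv_mem (hV1Q2 hw₁)) hq₂; rwa [inv_mul_cancel_left] at this
  exact ⟨v * w * w₁, mul_mem (mul_mem (b.V'_le_Umod hv) (c.Vx_le_Umod _ _ hw)) (c.Vx_le_Umod' _ _ hw₁), d,
    ⟨⟨⟨hd, hd0⟩, hd1⟩, hd2⟩, by simp [mul_assoc]⟩

theorem Umod_pow (hp : c.p.Prime) (hodd : c.p ≠ 2) : ∀ u ∈ c.Umod (P 0) (P 1), u ^ c.p = 1 := by
  let T : Subgroup Γ :=
    { carrier := {u | u ∈ c.Umod (P 0) (P 1) ∧ u ^ c.p = 1}
      one_mem' := ⟨one_mem _, one_pow _⟩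
      mul_mem' := fun {u v} hu hv => ⟨mul_mem hu.1 hv.1, by
        have hz := b.Umod_comm_C0 hv.1 (b.Umod_le_Q0 hu.1)
        have hc : ∀ t ∈ c.Umod (P 0) (P 1), Commute ⁅v, u⁆ t := fun t ht =>
          (b.commute_C0 (b.Umod_le_G0 ht) hz).symm
        rw [pow_mul_central rfl (hc u hu.1) (hc v hv.1), hu.2, hv.2, one_mul, one_mul]
        obtain ⟨j, hj⟩ : c.p ∣ c.p.choose 2 :=
          hp.dvd_choose_self two_ne_zero (lt_of_le_of_ne hp.two_le (Ne.symm hodd))
        rw [hj, pow_mul, c.Vx_elem hz.1, one_pow]⟩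
      inv_mem' := fun {u} hu => ⟨inv_mem hu.1, by rw [inv_pow, hu.2, inv_one]⟩ }
  intro u hu
  have hle : c.Umod (P 0) (P 1) ≤ T := sup_le (fun v hv => ⟨c.Vx_le_Umod _ _ hv, c.Vx_elem hv⟩)
    (iSup_le fun g z hz => ⟨c.cj_le_Umod _ _ g.2 hz, by
      have h1 := c.Vx_elem (mem_cj.1 hz)
      have e : z = (g : Γ) * ((g : Γ)⁻¹ * z * g) * (g : Γ)⁻¹ := by group
      rw [e, conj_pow, h1, mul_one, mul_inv_cancel]⟩)
  exact (hle hu).2

end Conf.Bad

variable {G : Type*} [Group G] [Finite G] {p : ℕ} [hp : Fact p.Prime] {F : Type*} [Field F] [Fintype F]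
  {S : Sylow p G} {π : G →* Matrix.ProjectiveSpecialLinearGroup (Fin 2) F} {n : ℕ}
  {h : Hyp S π n} {hel : ∀ z ∈ zSyl S, z ^ p = 1} {hnc : ¬ zSyl S ≤ Subgroup.center G}

theorem Frame.exists_syl {f : G →* Equiv.Perm G} {v : (conf h hel hnc).Vtx} {E : Subgroup (Equiv.Perm G)}
    (fr : Frame h hel hnc f v E) {y : Equiv.Perm G} (hy : y ∈ E) : ∃ x ∈ (S : Subgroup G), f x = y := by
  rw [← fr.syl] at hy
  obtain ⟨x, hx, rfl⟩ := hy
  exact ⟨x, hx, rfl⟩

/-- A decomposition of `S` found by pushing up. -/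
structure Split (S : Sylow p G) (V Y D : Subgroup G) : Prop where
  le : Y ≤ (S : Subgroup G)
  le_core : D ≤ pCore p G
  elem : ∀ y ∈ Y, y ^ p = 1
  commY : ∀ y ∈ Y, ∀ y' ∈ Y, Commute y y'
  commYD : ∀ y ∈ Y, ∀ d ∈ D, Commute y d
  dec : ∀ s ∈ (S : Subgroup G), ∃ y ∈ Y, ∃ v ∈ V, ∃ d ∈ D, y * v * d = s

theorem split_one (hk : (conf h hel hnc).IsB 1) (ho : (conf h hel hnc).Open) :
    ∃ Y D, Split S (vSyl S) Y D := by
  obtain ⟨P, E, hc, -⟩ := hk.exists_good ho
  have hs := hc.1 0 hk.pos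
  obtain ⟨f, fr⟩ := exists_frame hs.syl_left
  have hYE := hk.le_syl hc.1
  refine ⟨((conf h hel hnc).Vx (P 1)).comap f, ((conf h hel hnc).Qx (P 0) ⊓ (conf h hel hnc).Qx (P 1)).comap f,
    fun x hx => fr.mem_syl.1 (hYE hx), fun x hx => fr.mem_core.1 hx.1, fun y hy => fr.inj ?_,
    fun y hy y' hy' => ?_, fun y hy d hd => ?_, fun s hs' => ?_⟩
  · rw [map_pow, map_one]; exact Conf.Vx_elem _ hy
  · refine fr.inj ?_
    rw [map_mul, map_mul]
    exact (commute_of_le_centralizer (Conf.Vx_comm _ _) hy hy').eq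
  · refine fr.inj ?_
    rw [map_mul, map_mul]
    exact (Conf.commute_Vx _ hy hd.2).eq
  · have h1 : f s ∈ (conf h hel hnc).Vx (P 1) ⊔ (conf h hel hnc).Qx (P 0) := (hk.sup_eq hc).ge (fr.mem_syl.2 hs')
    obtain ⟨y, hy, q, hq, hyq⟩ := exists_mul_of_mem_sup
      (hYE.trans ((Conf.syl_le_Gx _ hs.syl_left).trans (Conf.Gx_le_normalizer_Qx _ _))) h1
    have hsup := hk.sup_eq' hc
    rw [show (1 : ℕ) - 1 = 0 from rfl] at hsup
    have hqE := hsup.ge (Conf.Qx_le_syl _ hs.syl_left hq)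
    obtain ⟨v, hv, d, hd, hvd⟩ := exists_mul_of_mem_sup
      ((le_sup_left.trans_eq hsup).trans ((Conf.syl_le_Gx _ hs.syl_right).trans (Conf.Gx_le_normalizer_Qx _ _))) hqE
    have hd0 : d ∈ (conf h hel hnc).Qx (P 0) := by
      have h2 := mul_mem (inv_mem (Conf.Vx_le_Qx _ _ hv)) hq
      rwa [← hvd, inv_mul_cancel_left] at h2
    obtain ⟨y, hyS, rfl⟩ := fr.exists_syl (hYE hy)
    obtain ⟨v, hvS, rfl⟩ := fr.exists_syl (Conf.Vx_le_syl _ hs.syl_left hv)
    obtain ⟨d, hdS, rfl⟩ := fr.exists_syl (Conf.Qx_le_syl _ hs.syl_left hd0)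
    exact ⟨y, hy, v, fr.mem_module.1 hv, d, ⟨hd0, hd⟩,
      fr.inj (by rw [map_mul, map_mul, mul_assoc, hvd, hyq])⟩

theorem split_two (hk : (conf h hel hnc).IsB 2) (ho : (conf h hel hnc).Open) :
    ∃ U N Y D : Subgroup G, Layer2 S n U N ∧ Split S U Y D ∧ (p ≠ 2 → ∀ u ∈ U, u ^ p = 1) ∧
      ∃ x ∈ U, ∃ y ∈ Y, ⁅x, ⁅x, y⁆⁆ ≠ 1 := by
  obtain ⟨P, E, t, b⟩ := hk.exists_bad ho
  obtain ⟨f, fr⟩ := exists_frame b.step0.syl_left
  refine ⟨_, _, ((conf h hel hnc).Vx (P 2)).comap f,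
    ((conf h hel hnc).Qx ((conf h hel hnc).act t (P 1)) ⊓ (conf h hel hnc).Qx (P 0) ⊓ (conf h hel hnc).Qx (P 1) ⊓
      (conf h hel hnc).Qx (P 2)).comap f, fr.layer_two b,
    ⟨fun x hx => fr.mem_syl.1 (b.V2_le_E0 hx), fun x hx => fr.mem_core.1 hx.1.1.2, fun y hy => fr.inj ?_,
    fun y hy y' hy' => ?_, fun y hy d hd => ?_, fun s hs' => ?_⟩, fun hodd u hu => fr.inj ?_, ?_⟩
  · rw [map_pow, map_one]; exact Conf.Vx_elem _ hy
  · refine fr.inj ?_
    rw [map_mul, map_mul]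
    exact (commute_of_le_centralizer (Conf.Vx_comm _ _) hy hy').eq
  · refine fr.inj ?_
    rw [map_mul, map_mul]
    exact (Conf.commute_Vx _ hy hd.2).eq
  · have h1 : f s ∈ (conf h hel hnc).Vx (P 2) ⊔ (conf h hel hnc).Qx (P 0) := b.sup2.ge (fr.mem_syl.2 hs')
    obtain ⟨y, hy, q, hq, hyq⟩ := exists_mul_of_mem_sup
      ((b.V2_le_E0.trans b.E0_le).trans (Conf.Gx_le_normalizer_Qx _ _)) h1
    obtain ⟨u, hu, d, hd, hud⟩ := b.exists_core_decomp hq
    obtain ⟨y, -, rfl⟩ := fr.exists_syl (b.V2_le_E0 hy)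
    obtain ⟨u, -, rfl⟩ := fr.exists_syl (Conf.Qx_le_syl _ b.step0.syl_left (b.Umod_le_Q0 hu))
    obtain ⟨d, -, rfl⟩ := fr.exists_syl (Conf.Qx_le_syl _ b.step0.syl_left hd.1.1.2)
    exact ⟨y, hy, u, hu, d, hd, fr.inj (by rw [map_mul, map_mul, mul_assoc, hud, hyq])⟩
  · rw [map_pow, map_one]
    exact b.Umod_pow hp.out hodd _ hu
  · obtain ⟨x, hx, y, hy, hne⟩ := b.exists_double_comm_ne
    obtain ⟨x, -, rfl⟩ := fr.exists_syl (b.V'_le_E0 hx)
    obtain ⟨y, -, rfl⟩ := fr.exists_syl (b.V2_le_E0 hy)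
    exact ⟨x, b.V'_le_Umod hx, y, hy, fun e => hne (by rw [← map_commutatorElement, ← map_commutatorElement, e, map_one])⟩

theorem not_two_of_five_le (hU : (S : Subgroup G).map π = upperSub F) (hk : (conf h hel hnc).IsB 2)
    (ho : (conf h hel hnc).Open) (h5 : 5 ≤ p) : False := by
  obtain ⟨U, N, L⟩ := exists_layer_two hk ho
  obtain ⟨ρ, χ₁, χ₂, T⟩ := exists_ctx hU hk ho L
  obtain ⟨P, E, t, b⟩ := hk.exists_bad ho
  obtain ⟨f, fr⟩ := exists_frame b.step0.syl_right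
  refine b.false_of_forall fun x hx y hy => ?_
  obtain ⟨x, hxS, rfl⟩ := fr.exists_syl (b.V'_le_E0 hx)
  obtain ⟨y, -, rfl⟩ := fr.exists_syl (b.V2_le_E0 hy)
  have hc : ⁅x, ⁅x, y⁆⁆ ∈ zSyl S := fr.mem_Zc.1 (by
    rw [map_commutatorElement, map_commutatorElement]; exact b.double_comm_mem_Zc hx hy)
  have hC := T.weight_core h5 hxS (fr.mem_core.1 (b.V2_le_Q1 hy)) (fun q hq => fr.mem_central (by
    rw [map_commutatorElement]; exact b.comm_V2_Q1 hy (fr.mem_core.2 hq))) hc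
  rw [← map_commutatorElement, ← map_commutatorElement]
  refine Subgroup.mem_centralizer_iff.2 fun z hz => ?_
  obtain ⟨g, rfl⟩ := fr.exists_preimage hz
  rw [← map_mul, ← map_mul, Subgroup.mem_center_iff.1 hC.2 g]

/-- A term of the lower central series of the core equal to that of `S` is trivial. -/
theorem lcs_eq_bot
    (hno : ∀ W : Subgroup G, W ≤ (S : Subgroup G) → W.Normal → W ≠ ⊥ →
      ¬ (W.subgroupOf (S : Subgroup G)).Characteristic) (i : ℕ)
    (he : (S : Subgroup G).lowerCentralSeries i = (pCore p G).lowerCentralSeries i) :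
    (S : Subgroup G).lowerCentralSeries i = ⊥ := by
  haveI hQn := pCore_normal p G
  by_contra hne
  refine hno _ (lcs_le_self _ _) ⟨fun x hx g => ?_⟩ hne ?_
  · rw [he] at hx ⊢
    have h1 := Subgroup.mem_map_of_mem (MulAut.conj g).toMonoidHom hx
    rw [Subgroup.map_lowerCentralSeries, show (pCore p G).map (MulAut.conj g).toMonoidHom = pCore p G from
      cj_eq_of_le_normalizer (by rw [Subgroup.normalizer_eq_top_iff.2 hQn]; trivial)] at h1
    exact h1
  · rw [← Subgroup.top_subtype_lowerCentralSeries, Subgroup.subgroupOf,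
      Subgroup.comap_map_eq_self_of_injective (S : Subgroup G).subtype_injective]
    infer_instance

theorem powers_eq_bot
    (hno : ∀ W : Subgroup G, W ≤ (S : Subgroup G) → W.Normal → W ≠ ⊥ →
      ¬ (W.subgroupOf (S : Subgroup G)).Characteristic) (hQS : pCore p G ≤ (S : Subgroup G)) (j : ℕ)
    (he : ∀ s ∈ (S : Subgroup G), ∃ d ∈ pCore p G, s ^ p ^ j = d ^ p ^ j) :
    ∀ s ∈ (S : Subgroup G), s ^ p ^ j = 1 := by
  haveI hQn := pCore_normal p G
  have e : powerClosure p j (S : Subgroup G) = powerClosure p j (pCore p G) := by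
    refine le_antisymm ((Subgroup.closure_le _).2 ?_) ((Subgroup.closure_le _).2 ?_)
    · rintro _ ⟨s, hs, rfl⟩
      obtain ⟨d, hd, hsd⟩ := he s hs
      exact Subgroup.subset_closure ⟨d, hd, hsd⟩
    · rintro _ ⟨d, hd, rfl⟩
      exact Subgroup.subset_closure ⟨d, hQS hd, rfl⟩
  intro s hs
  by_contra hne
  refine hno (powerClosure p j (S : Subgroup G)) ?_ ⟨fun x hx g => ?_⟩
    (fun h0 => hne (Subgroup.mem_bot.1 (h0 ▸ Subgroup.subset_closure ⟨s, hs, rfl⟩))) ?_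
  · refine (Subgroup.closure_le _).2 ?_
    rintro _ ⟨x, hx, rfl⟩
    exact pow_mem hx _
  · rw [e] at hx ⊢
    have h1 := Subgroup.mem_map_of_mem (MulAut.conj g).toMonoidHom hx
    rw [← powerClosure_map, show (pCore p G).map (MulAut.conj g).toMonoidHom = pCore p G from
      cj_eq_of_le_normalizer (by rw [Subgroup.normalizer_eq_top_iff.2 hQn]; trivial)] at h1
    exact h1
  · have e1 : powerClosure p j (S : Subgroup G) =
        (powerClosure p j (⊤ : Subgroup ↥(S : Subgroup G))).map (S : Subgroup G).subtype := by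
      rw [← powerClosure_map, ← MonoidHom.range_eq_map, Subgroup.range_subtype]
    rw [e1, Subgroup.subgroupOf, Subgroup.comap_map_eq_self_of_injective (S : Subgroup G).subtype_injective]
    exact characteristic_powerClosure p j _

theorem lcs_one_ne_bot (h : Hyp S π n) : (S : Subgroup G).lowerCentralSeries 1 ≠ ⊥ := fun h0 => by
  refine h.not_sylow_le_pCore fun s hs => h.cent (Subgroup.mem_centralizer_iff.2 fun q hq => ?_)
  have h1 : ⁅q, s⁆ ∈ (S : Subgroup G).lowerCentralSeries 1 :=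
    Subgroup.commutator_mem_commutator (H₁ := (S : Subgroup G).lowerCentralSeries 0) (h.pCore_le_sylow hq) hs
  rw [h0, Subgroup.mem_bot] at h1
  exact (commute_of_comm_one h1).eq

omit hp in
theorem iterCommutator_top_le {R U : Subgroup G} [U.Normal] {Q : Subgroup G} [hQn : Q.Normal]
    (htop : R ⊔ (S : Subgroup G) = ⊤) (hQR : ∀ q ∈ Q, ∀ x ∈ R, ⁅q, x⁆ ∈ U) (k : ℕ) :
    iterCommutator Q ⊤ k ≤ U ⊔ iterCommutator Q (S : Subgroup G) k := by
  induction k with
  | zero => exact le_sup_right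
  | succ k ih =>
    have hsub : ∀ i, iterCommutator Q (S : Subgroup G) i ≤ Q := by
      intro i
      induction i with
      | zero => exact le_rfl
      | succ i ih => exact (Subgroup.commutator_mono ih le_rfl).trans (Subgroup.commutator_le_left Q _)
    set X := U ⊔ iterCommutator Q (S : Subgroup G) (k + 1) with hX
    have hconjR : R ≤ Subgroup.normalizer (X : Set G) := by
      refine le_normalizer_of_conj_le fun x hx => ?_
      rw [hX, cj_sup]
      refine sup_le ((cj_eq_of_le_normalizer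
        (by rw [Subgroup.normalizer_eq_top_iff.2 inferInstance]; trivial)).trans_le le_sup_left) ?_
      rintro _ ⟨z, hz, rfl⟩
      show x * z * x⁻¹ ∈ X
      rw [show x * z * x⁻¹ = ⁅z, x⁆⁻¹ * z by simp [commutatorElement_def, mul_assoc]]
      exact mul_mem (Subgroup.mem_sup_left (inv_mem (hQR z (hsub _ hz) x hx))) (Subgroup.mem_sup_right hz)
    have hconjS : (S : Subgroup G) ≤ Subgroup.normalizer (X : Set G) := by
      refine le_normalizer_of_conj_le fun x hx => ?_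
      rw [hX, cj_sup]
      refine sup_le_sup (cj_eq_of_le_normalizer
        (by rw [Subgroup.normalizer_eq_top_iff.2 inferInstance]; trivial)).le ?_
      rintro _ ⟨z, hz, rfl⟩
      show x * z * x⁻¹ ∈ _
      rw [show x * z * x⁻¹ = z * ⁅z⁻¹, x⁆ by simp [commutatorElement_def, mul_assoc]]
      refine mul_mem hz ?_
      have hanti : ∀ i, iterCommutator Q (S : Subgroup G) (i + 1) ≤ iterCommutator Q (S : Subgroup G) i := by
        intro i
        induction i with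
        | zero => exact Subgroup.commutator_le_left Q _
        | succ i ih => exact Subgroup.commutator_mono ih le_rfl
      exact hanti _ (Subgroup.commutator_mem_commutator (inv_mem hz) hx)
    have hn : ∀ g : G, g ∈ Subgroup.normalizer (X : Set G) := fun g =>
      (sup_le hconjR hconjS : R ⊔ (S : Subgroup G) ≤ _) (htop.ge (Subgroup.mem_top g))
    refine (Subgroup.commutator_mono ih le_rfl).trans (Subgroup.commutator_le.2 fun a ha g _ => ?_)
    have hle : U ⊔ iterCommutator Q (S : Subgroup G) k ≤ fixMod ⊤ X (Set.univ : Set G) := by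
      refine sup_le (fun u hu => ⟨trivial, hn u, fun y _ => Subgroup.mem_sup_left ?_⟩)
        fun z hz => ⟨trivial, hn z, fun y _ => ?_⟩
      · rw [show ⁅u, y⁆ = u * (y * u⁻¹ * y⁻¹) by simp [commutatorElement_def, mul_assoc]]
        exact mul_mem hu ((inferInstance : U.Normal).conj_mem _ (inv_mem hu) y)
      · have hle' : R ⊔ (S : Subgroup G) ≤ fixMod ⊤ X {z} := sup_le
          (fun x hx => ⟨trivial, hn x, fun w hw => by
            rw [Set.mem_singleton_iff.1 hw]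
            exact comm_symm_mem (Subgroup.mem_sup_left (hQR z (hsub _ hz) x hx))⟩)
          (fun x hx => ⟨trivial, hn x, fun w hw => by
            rw [Set.mem_singleton_iff.1 hw]
            exact comm_symm_mem (Subgroup.mem_sup_right (Subgroup.commutator_mem_commutator hz hx))⟩)
        exact comm_symm_mem ((hle' (htop.ge (Subgroup.mem_top y))).2.2 z rfl)
    exact (hle ha).2.2 g trivial

omit [Finite G] hp in
theorem isChiefFactor_of_pair {M N : Subgroup G} (P : QuadPair S n M N)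
    (hirr : ∀ L : Subgroup G, L.Normal → N ≤ L → L ≤ M → L = N ∨ L = M) :
    IsChiefFactor M N ∧ ¬ ⁅M, (⊤ : Subgroup G)⁆ ≤ N :=
  ⟨⟨lt_of_le_not_ge P.le P.nontrivial, P.norM, P.norN, hirr⟩, fun hle => P.nontrivial fun u hu =>
    P.noFix u hu fun g => hle (Subgroup.commutator_mem_commutator hu (Subgroup.mem_top g))⟩

theorem iterCommutator_one_of_fixed {W U : Subgroup G} (hfix : ∀ x ∈ W, ∀ g : G, ⁅x, g⁆ ∈ U) :
    iterCommutator W ⊤ 1 ≤ U := Subgroup.commutator_le.2 fun x hx g _ => hfix x hx g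

theorem exists_iter_core_le (h : Hyp S π n) {U : Subgroup G} [U.Normal]
    (hlay : ∀ q ∈ pCore p G, ∀ x ∈ pResidual p G, ⁅q, x⁆ ∈ U) :
    ∃ k, iterCommutator (pCore p G) ⊤ k ≤ U := by
  haveI := pCore_normal p G
  haveI := normal_pResidual (G := G) (p := p)
  obtain ⟨k, hk⟩ := exists_iterCommutator_eq_bot S h.pCore_le_sylow
  exact ⟨k, (iterCommutator_top_le (sup_sylow_eq_top_of_pPower S _ exists_pow_mem_pResidual) hlay k).trans_eq
    (by rw [hk, sup_bot_eq])⟩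

theorem fixed_center {x : G} (hx : x ∈ vSyl S ⊓ Subgroup.center G) (g : G) : ⁅x, g⁆ ∈ (⊥ : Subgroup G) := by
  rw [commute_comm_one (Subgroup.mem_center_iff.1 hx.2 g).symm]; exact one_mem _

theorem case_one (hU : (S : Subgroup G).map π = upperSub F)
    (hno : ∀ W : Subgroup G, W ≤ (S : Subgroup G) → W.Normal → W ≠ ⊥ →
      ¬ (W.subgroupOf (S : Subgroup G)).Characteristic)
    (hk : (conf h hel hnc).IsB 1) (ho : (conf h hel hnc).Open) :
    (S : Subgroup G).lowerCentralSeries 2 = ⊥ ∧ (S : Subgroup G).lowerCentralSeries 1 ≠ ⊥ ∧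
      (p = 2 → Monoid.exponent ↥(S : Subgroup G) = 4) ∧ (p ≠ 2 → Monoid.exponent ↥(S : Subgroup G) = p) ∧
      ∃ U W : Subgroup G, W ≤ U ∧ U ≤ pCore p G ∧ IsChiefFactor U W ∧ ¬ ⁅U, (⊤ : Subgroup G)⁆ ≤ W ∧
        (∃ k : ℕ, iterCommutator W ⊤ k = ⊥) ∧ ∃ k : ℕ, iterCommutator (pCore p G) ⊤ k ≤ U := by
  have P₁ := quadPair_vSyl hk ho
  obtain ⟨ρ, -, -, -, -, hirr, -⟩ := P₁.exists_rho h hU
  have hVQ : vSyl S ≤ pCore p G := (vSyl_le h).trans inf_le_left
  have hVS : vSyl S ≤ (S : Subgroup G) := hVQ.trans h.pCore_le_sylow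
  have hVc : ∀ v ∈ vSyl S, ∀ q ∈ pCore p G, Commute v q := fun v hv q hq =>
    (Subgroup.mem_centralizer_iff.1 ((vSyl_le h) hv).2 q hq).symm
  obtain ⟨Y, D, sp⟩ := split_one hk ho
  set A := Y ⊔ vSyl S with hA
  have hAS : A ≤ (S : Subgroup G) := sup_le sp.le hVS
  have hYn : Y ≤ Subgroup.normalizer (vSyl S : Set G) := by
    rw [Subgroup.normalizer_eq_top_iff.2 inferInstance]; exact le_top
  have hzc : ∀ {z s : G}, z ∈ zSyl S → s ∈ (S : Subgroup G) → Commute z s := fun hz hs =>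
    (Subgroup.mem_centralizer_iff.1 hz.2 _ hs).symm
  have hA2 : A.lowerCentralSeries 2 = ⊥ := by
    have h1 : A.lowerCentralSeries 1 ≤ zSyl S := by
      show ⁅A.lowerCentralSeries 0, A⁆ ≤ _
      rw [Subgroup.lowerCentralSeries_zero, Subgroup.commutator_le]
      intro a ha a' ha'
      obtain ⟨y, hy, v, hv, rfl⟩ := exists_mul_of_mem_sup hYn ha
      obtain ⟨y', hy', v', hv', rfl⟩ := exists_mul_of_mem_sup hYn ha'
      have hw := comm_vSyl_sylow hk ho hv (mul_mem (sp.le hy') (hVS hv'))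
      have hw' := comm_symm_mem (comm_vSyl_sylow hk ho hv' (sp.le hy))
      rw [comm_mul_left, (hzc hw (sp.le hy)).symm.eq, mul_inv_cancel_right]
      refine mul_mem hw ?_
      rw [comm_mul_right, commute_comm_one (sp.commY y hy y' hy'), one_mul, (hzc hw' (sp.le hy')).symm.eq,
        mul_inv_cancel_right]
      exact hw'
    refine le_bot_iff.1 (Subgroup.commutator_le.2 fun z hz a ha => ?_)
    rw [commute_comm_one (hzc (h1 hz) (hAS ha))]
    exact one_mem _
  have hdec : ∀ s ∈ (S : Subgroup G), ∃ a ∈ A, ∃ d ∈ D, a * d = s := fun s hs => by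
    obtain ⟨y, hy, v, hv, d, hd, e⟩ := sp.dec s hs
    exact ⟨y * v, mul_mem (Subgroup.mem_sup_left hy) (Subgroup.mem_sup_right hv), d, hd, e⟩
  have hAD : ∀ a ∈ A, ∀ d ∈ D, ⁅a, d⁆ ∈ (⊥ : Subgroup G) := fun a ha d hd => by
    obtain ⟨y, hy, v, hv, rfl⟩ := exists_mul_of_mem_sup hYn ha
    rw [commute_comm_one ((sp.commYD y hy d hd).mul_left (hVc v hv d (sp.le_core hd)))]
    exact one_mem _
  have hl2 : (S : Subgroup G).lowerCentralSeries 2 = ⊥ := by
    refine lcs_eq_bot hno 2 (le_antisymm ?_ (lcs_mono h.pCore_le_sylow 2))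
    refine (lcs_split hdec hAS (sp.le_core.trans h.pCore_le_sylow) bot_le bot_le hAD 0).trans ?_
    rw [hA2, bot_sup_eq]
    exact lcs_mono sp.le_core 2
  refine ⟨hl2, lcs_one_ne_bot h, ?_⟩
  obtain ⟨N, hN, hNodd, hN2, hch⟩ : ∃ N : ℕ, (∃ j, N = p ^ j) ∧ (p ≠ 2 → N = p) ∧ (p = 2 → N = 4) ∧
      p ∣ N.choose 2 := by
    by_cases h2 : p = 2
    · subst h2
      exact ⟨4, ⟨2, by norm_num⟩, fun h' => absurd rfl h', fun _ => rfl, by decide⟩
    · exact ⟨p, ⟨1, (pow_one p).symm⟩, fun _ => rfl, fun h' => absurd h' h2,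
        hp.out.dvd_choose_self two_ne_zero (lt_of_le_of_ne hp.out.two_le (Ne.symm h2))⟩
  obtain ⟨j, hj⟩ := hN
  have hpN : p ∣ N := by
    by_cases h2 : p = 2
    · rw [hN2 h2, h2]; norm_num
    · rw [hNodd h2]
  have hone : ∀ s ∈ (S : Subgroup G), s ^ N = 1 := by
    rw [hj]
    refine powers_eq_bot hno h.pCore_le_sylow j fun s hs => ?_
    obtain ⟨y, hy, v, hv, d, hd, rfl⟩ := sp.dec s hs
    refine ⟨d, sp.le_core hd, ?_⟩
    have hw := comm_vSyl_sylow hk ho hv (sp.le hy)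
    have h1 : (y * v) ^ N = 1 := by
      obtain ⟨i, hi⟩ := hpN
      obtain ⟨i', hi'⟩ := hch
      rw [pow_mul_central rfl (hzc hw (sp.le hy)) (hzc hw (hVS hv))]
      nth_rewrite 1 2 [hi]
      rw [pow_mul, pow_mul, sp.elem y hy, one_pow, vSyl_pow h hel v hv, one_pow, one_mul, one_mul, hi',
        pow_mul, hel _ hw, one_pow]
    rw [← hj, ((sp.commYD y hy d hd).mul_left (hVc v hv d (sp.le_core hd))).mul_pow, h1, one_mul]
  have hdvd : Monoid.exponent ↥(S : Subgroup G) ∣ N :=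
    Monoid.exponent_dvd_of_forall_pow_eq_one fun s => Subtype.ext (hone s s.2)
  haveI : Nontrivial ↥(S : Subgroup G) :=
    (Subgroup.nontrivial_iff_ne_bot _).2 fun h0 => h.not_sylow_le_pCore (h0.le.trans bot_le)
  refine ⟨fun h2 => ?_, fun h2 => ?_, ?_⟩
  · rw [hN2 h2] at hdvd
    obtain ⟨i, hi, he⟩ := (Nat.dvd_prime_pow Nat.prime_two).1 (show Monoid.exponent ↥(S : Subgroup G) ∣ 2 ^ 2 from hdvd)
    rcases i with _ | _ | i
    · exact absurd (Monoid.exp_eq_one_iff.1 he) (not_subsingleton _)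
    · exfalso
      refine lcs_one_ne_bot h (le_bot_iff.1 ?_)
      show ⁅(S : Subgroup G).lowerCentralSeries 0, (S : Subgroup G)⁆ ≤ ⊥
      rw [Subgroup.lowerCentralSeries_zero, Subgroup.commutator_le]
      intro a ha c hc
      have h2' : ∀ z ∈ (S : Subgroup G), z⁻¹ = z := fun z hz => inv_eq_self_of_sq (by
        have := Monoid.pow_exponent_eq_one (⟨z, hz⟩ : ↥(S : Subgroup G))
        rw [he] at this
        simpa using congrArg Subtype.val this)
      rw [commutatorElement_def, h2' a ha, h2' c hc, Subgroup.mem_bot, mul_assoc (a * c)]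
      conv_lhs => arg 2; rw [← h2' _ (mul_mem ha hc)]
      exact mul_inv_cancel _
    · obtain rfl : i = 0 := by omega
      rw [he]; norm_num
  · rw [hNodd h2] at hdvd
    rcases (Nat.dvd_prime hp.out).1 hdvd with he | he
    · exact absurd (Monoid.exp_eq_one_iff.1 he) (not_subsingleton _)
    · exact he
  · obtain ⟨hcf, hnc'⟩ := isChiefFactor_of_pair P₁ hirr
    exact ⟨_, _, P₁.le, hVQ, hcf, hnc', ⟨1, le_bot_iff.1 (iterCommutator_one_of_fixed fun x hx => fixed_center hx)⟩,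
      exists_iter_core_le h (layer_one hk ho)⟩

theorem case_two (hU : (S : Subgroup G).map π = upperSub F)
    (hno : ∀ W : Subgroup G, W ≤ (S : Subgroup G) → W.Normal → W ≠ ⊥ →
      ¬ (W.subgroupOf (S : Subgroup G)).Characteristic)
    (hk : (conf h hel hnc).IsB 2) (ho : (conf h hel hnc).Open) :
    p = 3 ∧ (S : Subgroup G).lowerCentralSeries 3 = ⊥ ∧ (S : Subgroup G).lowerCentralSeries 2 ≠ ⊥ ∧
      Monoid.exponent ↥(S : Subgroup G) = 9 ∧
      ∃ U₁ W₁ U₂ W₂ : Subgroup G, W₁ ≤ U₁ ∧ U₁ ≤ W₂ ∧ W₂ ≤ U₂ ∧ U₂ ≤ pCore p G ∧ IsChiefFactor U₁ W₁ ∧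
        IsChiefFactor U₂ W₂ ∧ ¬ ⁅U₁, (⊤ : Subgroup G)⁆ ≤ W₁ ∧ ¬ ⁅U₂, (⊤ : Subgroup G)⁆ ≤ W₂ ∧
        (∃ k : ℕ, iterCommutator W₁ ⊤ k = ⊥) ∧ (∃ k : ℕ, iterCommutator W₂ ⊤ k ≤ U₁) ∧
        ∃ k : ℕ, iterCommutator (pCore p G) ⊤ k ≤ U₂ := by
  have hp2 : p ≠ 2 := fun h2 => by have := hk.eq_one ho h2; omega
  have hp3 : p = 3 := by
    by_contra h3
    refine not_two_of_five_le hU hk ho ?_
    have h1 := hp.out.two_le
    have h4 : p ≠ 4 := fun h4 => by subst h4; exact absurd hp.out (by norm_num)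
    omega
  obtain ⟨U, N, Y, D, L, sp, hUp, x, hx, y, hy, hne⟩ := split_two hk ho
  obtain ⟨ρ, χ₁, χ₂, T⟩ := exists_ctx hU hk ho L
  obtain ⟨-, -, -, -, -, hirr₁, -⟩ := (quadPair_vSyl hk ho).exists_rho h hU
  obtain ⟨-, -, -, -, -, hirr₂, -⟩ := L.pair.exists_rho h hU
  haveI := L.pair.norM
  haveI hNn := L.pair.norN
  have hUS : U ≤ (S : Subgroup G) := L.le_core.trans h.pCore_le_sylow
  have hNU : N ≤ U := L.pair.le
  set A := Y ⊔ U with hA
  have hAS : A ≤ (S : Subgroup G) := sup_le sp.le hUS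
  have hYn : Y ≤ Subgroup.normalizer (U : Set G) := by
    rw [Subgroup.normalizer_eq_top_iff.2 L.pair.norM]; exact le_top
  have hnN : ∀ g : G, g ∈ Subgroup.normalizer (N : Set G) := fun g => by
    rw [Subgroup.normalizer_eq_top_iff.2 hNn]; trivial
  set T₁ := fixMod U N ((S : Subgroup G) : Set G) with hT₁
  have hNT : N ≤ T₁ := fun z hz => ⟨hNU hz, hnN z, fun s _ => by
    rw [show ⁅z, s⁆ = z * (s * z⁻¹ * s⁻¹) by simp [commutatorElement_def, mul_assoc]]
    exact mul_mem hz (hNn.conj_mem _ (inv_mem hz) s)⟩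
  have hT1c : ∀ s ∈ (S : Subgroup G), ∀ z ∈ T₁, s * z * s⁻¹ ∈ T₁ := fun s hs z hz => by
    rw [show s * z * s⁻¹ = ⁅z, s⁆⁻¹ * z by simp [commutatorElement_def, mul_assoc]]
    exact mul_mem (inv_mem (hNT (hz.2.2 s hs))) hz
  have hUT : ∀ u ∈ U, ∀ s ∈ (S : Subgroup G), ⁅u, s⁆ ∈ T₁ := fun u hu s hs => ⟨by
    rw [show ⁅u, s⁆ = u * (s * u⁻¹ * s⁻¹) by simp [commutatorElement_def, mul_assoc]]
    exact mul_mem hu (L.pair.norM.conj_mem _ (inv_mem hu) s), hnN _, fun s' hs' => L.pair.quad u hu s hs s' hs'⟩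
  have hA3 : A.lowerCentralSeries 3 = ⊥ := by
    have h1 : A.lowerCentralSeries 1 ≤ T₁ := by
      show ⁅A.lowerCentralSeries 0, A⁆ ≤ _
      rw [Subgroup.lowerCentralSeries_zero, Subgroup.commutator_le]
      intro a ha a' ha'
      obtain ⟨y, hy, u, hu, rfl⟩ := exists_mul_of_mem_sup hYn ha
      obtain ⟨y', hy', u', hu', rfl⟩ := exists_mul_of_mem_sup hYn ha'
      rw [comm_mul_left]
      refine mul_mem (hT1c y (sp.le hy) _ (hUT u hu _ (mul_mem (sp.le hy') (hUS hu')))) ?_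
      rw [comm_mul_right, commute_comm_one (sp.commY y hy y' hy'), one_mul]
      exact hT1c y' (sp.le hy') _ (comm_symm_mem (hUT u' hu' y (sp.le hy)))
    have h2 : A.lowerCentralSeries 2 ≤ zSyl S := Subgroup.commutator_le.2 fun z hz a ha =>
      comm_symm_mem (T.comm_top hp2 (h1 hz).1 (h1 hz).2.2 (hAS ha))
    refine le_bot_iff.1 (Subgroup.commutator_le.2 fun z hz a ha => ?_)
    rw [commute_comm_one (Subgroup.mem_centralizer_iff.1 (h2 hz).2 a (hAS ha)).symm]
    exact one_mem _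
  have hdec : ∀ s ∈ (S : Subgroup G), ∃ a ∈ A, ∃ d ∈ D, a * d = s := fun s hs => by
    obtain ⟨y, hy, v, hv, d, hd, e⟩ := sp.dec s hs
    exact ⟨y * v, mul_mem (Subgroup.mem_sup_left hy) (Subgroup.mem_sup_right hv), d, hd, e⟩
  have hZS : vSyl S ⊓ Subgroup.center G ≤ (S : Subgroup G) := T.center_le_zSyl.trans inf_le_left
  have hZc : vSyl S ⊓ Subgroup.center G ≤ Subgroup.centralizer ((S : Subgroup G) : Set G) :=
    T.center_le_zSyl.trans inf_le_right
  have hAD : ∀ a ∈ A, ∀ d ∈ D, ⁅a, d⁆ ∈ vSyl S ⊓ Subgroup.center G := fun a ha d hd => by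
    obtain ⟨y, hy, u, hu, rfl⟩ := exists_mul_of_mem_sup hYn ha
    rw [comm_mul_left, commute_comm_one (sp.commYD y hy d hd), mul_one]
    exact (inferInstance : (vSyl S ⊓ Subgroup.center G).Normal).conj_mem _ (L.central u hu d (sp.le_core hd)) y
  have hl3 : (S : Subgroup G).lowerCentralSeries 3 = ⊥ := by
    refine lcs_eq_bot hno 3 (le_antisymm ?_ (lcs_mono h.pCore_le_sylow 3))
    refine (lcs_split hdec hAS (sp.le_core.trans h.pCore_le_sylow) hZS hZc hAD 1).trans ?_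
    rw [hA3, bot_sup_eq]
    exact lcs_mono sp.le_core 3
  have hA9 : ∀ a ∈ A, a ^ p ^ 2 = 1 := fun a ha => by
    obtain ⟨y, hy, u, hu, rfl⟩ := exists_mul_of_mem_sup hYn ha
    have h1 : (y * u) ^ p ∈ U := (QuotientGroup.eq_one_iff _).1 (by
      show QuotientGroup.mk' U ((y * u) ^ p) = 1
      rw [map_pow, map_mul, show QuotientGroup.mk' U u = 1 from (QuotientGroup.eq_one_iff u).2 hu, mul_one,
        ← map_pow, sp.elem y hy, map_one])
    rw [sq, pow_mul, hUp hp2 _ h1]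
  have hch2 : p ∣ (p ^ 2).choose 2 := hp.out.dvd_choose_pow two_ne_zero (by rw [hp3]; norm_num)
  have hone : ∀ s ∈ (S : Subgroup G), s ^ p ^ 2 = 1 := by
    refine powers_eq_bot hno h.pCore_le_sylow 2 fun s hs => ?_
    obtain ⟨a, ha, d, hd, rfl⟩ := hdec s hs
    refine ⟨d, sp.le_core hd, ?_⟩
    have hz := comm_symm_mem (hAD a ha d hd)
    obtain ⟨i, hi⟩ := hch2
    rw [pow_mul_central rfl (Subgroup.mem_center_iff.1 hz.2 a).symm (Subgroup.mem_center_iff.1 hz.2 d).symm,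
      hA9 a ha, one_mul, hi, pow_mul, T.elem _ (T.center_le_zSyl hz), one_pow, mul_one]
  refine ⟨hp3, hl3, fun h0 => hne ?_, ?_, ?_⟩
  · have hxS := hUS hx
    have h1 : ⁅⁅y, x⁆, x⁆ ∈ (S : Subgroup G).lowerCentralSeries 2 := Subgroup.commutator_mem_commutator
      (Subgroup.commutator_mem_commutator (H₁ := (S : Subgroup G).lowerCentralSeries 0) (sp.le hy) hxS) hxS
    rw [h0, Subgroup.mem_bot] at h1
    have hc := commute_of_comm_one h1
    rw [← commutatorElement_inv y x]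
    exact commute_comm_one hc.symm.inv_right
  · have hdvd : Monoid.exponent ↥(S : Subgroup G) ∣ p ^ 2 :=
      Monoid.exponent_dvd_of_forall_pow_eq_one fun s => Subtype.ext (hone s s.2)
    haveI : Nontrivial ↥(S : Subgroup G) :=
      (Subgroup.nontrivial_iff_ne_bot _).2 fun h0 => h.not_sylow_le_pCore (h0.le.trans bot_le)
    obtain ⟨i, hi, he⟩ := (Nat.dvd_prime_pow hp.out).1 hdvd
    rcases i with _ | _ | i
    · exact absurd (Monoid.exp_eq_one_iff.1 (by simpa using he)) (not_subsingleton _)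
    · exfalso
      have h3 : ∀ z ∈ (S : Subgroup G), z ^ 3 = 1 := fun z hz => by
        have := Monoid.pow_exponent_eq_one (⟨z, hz⟩ : ↥(S : Subgroup G))
        rw [he] at this
        have h' : z ^ p = 1 := by simpa using congrArg Subtype.val this
        obtain rfl := hp3
        exact h'
      exact hne (commute_comm_one (engel_three (h3 _ (mul_mem (hUS hx) (sp.le hy)))
        (h3 _ (mul_mem (hUS hx) (inv_mem (sp.le hy)))) (h3 _ (sp.le hy))))
    · obtain rfl : i = 0 := by omega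
      rw [he, hp3]; norm_num
  · obtain ⟨hcf₁, hnc₁⟩ := isChiefFactor_of_pair (quadPair_vSyl hk ho) hirr₁
    obtain ⟨hcf₂, hnc₂⟩ := isChiefFactor_of_pair L.pair hirr₂
    exact ⟨_, _, _, _, inf_le_left, L.module_le, hNU, L.le_core, hcf₁, hcf₂, hnc₁, hnc₂,
      ⟨1, le_bot_iff.1 (iterCommutator_one_of_fixed fun x hx => fixed_center hx)⟩,
      ⟨1, iterCommutator_one_of_fixed L.fixed⟩, exists_iter_core_le h L.residual⟩

end CfsgLib.PushingUp44
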