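import Cfsg.Agent.PushingUp44.Ambient
import Cfsg.Agent.PushingUp44.MinimalCL
import Cfsg.Agent.WeakClosureJ.Factor
import Cfsg.Agent.PGroup.Omega
import Cfsg.Agent.FStarQuot.Basic

/-!
Minimal centrally large subgroups of a Sylow subgroup in the pushing up situation.
-/

set_option autoImplicit false
set_option linter.style.haveILetI false

open Cfsg
open scoped Pointwise commutatorElement MatrixGroups

namespace CfsgLib.PushingUp44

open CfsgLib.PushingUp (Hyp)
open CfsgLib.CentrallyLarge

/-! ### Transport along isomorphisms of subgroups -/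

section Transport

variable {P : Type*} [Group P]

theorem map_equiv_subgroupOf_iso {R R' : Subgroup P} (e : R ≃* R') {K : Subgroup P} (hK : K ≤ R') :
    ∃ K₀ : Subgroup P, K₀ ≤ R ∧ Nonempty (K ≃* K₀) := by
  refine ⟨((K.subgroupOf R').map e.symm.toMonoidHom).map R.subtype, Subgroup.map_subtype_le _, ⟨?_⟩⟩
  exact ((Subgroup.subgroupOfEquivOfLe hK).symm.trans
    (Subgroup.equivMapOfInjective _ _ e.symm.injective)).trans
    (Subgroup.equivMapOfInjective _ _ R.subtype_injective)

theorem isCentrallyLarge_of_equiv {R R' : Subgroup P} (e : R ≃* R') (hR : IsCentrallyLarge R) :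
    IsCentrallyLarge R' := by
  show _ * _ = _
  rw [← Nat.card_congr e.toEquiv, ← Nat.card_congr (Subgroup.centerCongr e).toEquiv]
  exact hR

theorem isMinimalCentrallyLarge_of_equiv [Finite P] {R R' : Subgroup P} (e : R ≃* R')
    (hR : IsMinimalCentrallyLarge R) : IsMinimalCentrallyLarge R' := by
  refine ⟨isCentrallyLarge_of_equiv e hR.1, fun K hK hKc => ?_⟩
  obtain ⟨K₀, hK₀, ⟨e'⟩⟩ := map_equiv_subgroupOf_iso e hK
  refine Subgroup.eq_of_le_of_card_ge hK ?_
  rw [← Nat.card_congr e.toEquiv, Nat.card_congr e'.toEquiv, hR.2 K₀ hK₀ (isCentrallyLarge_of_equiv e' hKc)]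

theorem card_omegaOneCenter_of_equiv [Finite P] {p : ℕ} {R R' : Subgroup P} (e : R ≃* R') :
    Nat.card ↥(omegaOneCenter p R) = Nat.card ↥(omegaOneCenter p R') := by
  have hmem : ∀ (R R' : Subgroup P) (e : R ≃* R') (x : omegaOneCenter p R),
      ((e ⟨(x : P), (mem_omegaOneCenter.1 x.2).1.1⟩ : R') : P) ∈ omegaOneCenter p R' := by
    intro R R' e x
    obtain ⟨⟨hxR, hxc⟩, hxp⟩ := mem_omegaOneCenter.1 x.2
    refine mem_omegaOneCenter.2 ⟨⟨SetLike.coe_mem _, fun y hy => ?_⟩, ?_⟩
    · obtain ⟨z, hz⟩ := e.surjective ⟨y, hy⟩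
      have h1 : z * ⟨(x : P), hxR⟩ = ⟨(x : P), hxR⟩ * z := Subtype.ext (hxc z z.2)
      have h2 := congrArg e h1
      rw [map_mul, map_mul, hz] at h2
      exact congrArg Subtype.val h2
    · rw [← Subgroup.coe_pow, ← map_pow, show (⟨(x : P), hxR⟩ : R) ^ p = 1 from Subtype.ext hxp, map_one,
        Subgroup.coe_one]
  refine le_antisymm
    (Nat.card_le_card_of_injective (fun x => (⟨_, hmem R R' e x⟩ : omegaOneCenter p R')) ?_)
    (Nat.card_le_card_of_injective (fun x => (⟨_, hmem R' R e.symm x⟩ : omegaOneCenter p R)) ?_)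
  · intro a b hab
    simp only [Subtype.mk.injEq] at hab
    have h1 := e.injective (Subtype.ext hab :
      e ⟨(a : P), (mem_omegaOneCenter.1 a.2).1.1⟩ = e ⟨(b : P), (mem_omegaOneCenter.1 b.2).1.1⟩)
    simp only [Subtype.mk.injEq] at h1
    exact Subtype.ext h1
  · intro a b hab
    simp only [Subtype.mk.injEq] at hab
    have h1 := e.symm.injective (Subtype.ext hab :
      e.symm ⟨(a : P), (mem_omegaOneCenter.1 a.2).1.1⟩ = e.symm ⟨(b : P), (mem_omegaOneCenter.1 b.2).1.1⟩)
    simp only [Subtype.mk.injEq] at h1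
    exact Subtype.ext h1

/-- All minimal centrally large subgroups share their derived subgroup, which is thus characteristic. -/
theorem characteristic_commutator [Finite P] {p : ℕ} [Fact p.Prime] (hP : IsPGroup p P)
    {Q : Subgroup P} (hQ : IsMinimalCentrallyLarge Q) : (⁅Q, Q⁆).Characteristic := by
  rw [Subgroup.characteristic_iff_map_eq]
  intro φ
  rw [Subgroup.map_commutator]
  exact ((Cfsg.Agent.S3007.result P hP Q _ hQ (isMinimalCentrallyLarge_of_equiv
    (Q.equivMapOfInjective φ.toMonoidHom φ.injective) hQ)).2.1).symm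

end Transport

/-! ### In the group -/

variable {G : Type*} [Group G] [Finite G] {p : ℕ} [hp : Fact p.Prime]

omit [Finite G] hp in
theorem exists_hyp_of_situation {S : Subgroup G} (hE : IsPushingUpSituation p S) :
    ∃ (P : Sylow p G) (F : Type) (_ : Field F) (_ : Fintype F)
      (π : G →* Matrix.ProjectiveSpecialLinearGroup (Fin 2) F) (n : ℕ),
      (P : Subgroup G) = S ∧ Hyp P π n := by
  obtain ⟨-, ⟨P, hPS⟩, hcent, hu, K, hK, F, hF, hFt, n, hn, ⟨e⟩⟩ := hE
  refine ⟨P, F, hF, hFt, e.toMonoidHom.comp (QuotientGroup.mk' K), n, hPS, hcent, hPS ▸ hu, ?_, hn,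
    e.surjective.comp (QuotientGroup.mk'_surjective K)⟩
  rcases Nat.eq_zero_or_pos n with rfl | hpos
  · have h1 := Fintype.one_lt_card (α := F)
    rw [hn, pow_zero] at h1
    exact absurd h1 (lt_irrefl 1)
  · exact hpos

variable {F : Type*} [Field F] [Fintype F] {S : Sylow p G}
  {π : G →* Matrix.ProjectiveSpecialLinearGroup (Fin 2) F} {n : ℕ}

theorem relIndex_pCore_le (h : Hyp S π n) {X : Subgroup G} (hX : X ≤ (S : Subgroup G)) :
    (pCore p G).relIndex X ≤ p ^ n := by
  have h1 : pCore p G ⊓ X = π.ker ⊓ X := by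
    rw [← h.inf_ker, inf_comm (S : Subgroup G), inf_assoc, inf_eq_right.2 hX]
  rw [← Subgroup.inf_relIndex_right, h1, Subgroup.inf_relIndex_right, Subgroup.relIndex_ker]
  exact h.card_map_le hX

/-- Elements of order `p` in the module. -/
def omegaSyl (S : Sylow p G) : Subgroup G := omegaOne p (vSyl S)

instance omegaSyl_normal : (omegaSyl S).Normal := CfsgLib.PGroup.omegaOne_normal

omit [Finite G] hp in
theorem omegaSyl_le : omegaSyl S ≤ vSyl S := (Subgroup.closure_le _).2 fun _ hx => hx.1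

theorem vSyl_comm (h : Hyp S π n) : IsMulCommutative (vSyl S) :=
  comm_of_le_cen ((vSyl_le h).trans (inf_le_right.trans
    (Subgroup.centralizer_le ((vSyl_le h).trans inf_le_left))))

theorem omegaSyl_pow (h : Hyp S π n) : ∀ u ∈ omegaSyl S, u ^ p = 1 := by
  haveI := vSyl_comm h
  let Ω : Subgroup G :=
    { carrier := {x | x ∈ vSyl S ∧ x ^ p = 1}
      one_mem' := ⟨one_mem _, one_pow _⟩
      mul_mem' := fun {a b} ha hb => ⟨mul_mem ha.1 hb.1, by
        rw [(show Commute a b from le_cen_of_comm (vSyl_comm h) hb.1 a ha.1).mul_pow, ha.2, hb.2, one_mul]⟩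
      inv_mem' := fun {a} ha => ⟨inv_mem ha.1, by rw [inv_pow, ha.2, inv_one]⟩ }
  intro u hu
  exact ((show omegaSyl S ≤ Ω from (Subgroup.closure_le _).2 fun x hx => hx) hu).2

theorem centralizer_omegaSyl_ne (h : Hyp S π n) (hnc : ¬ zSyl S ≤ Subgroup.center G) :
    Subgroup.centralizer (omegaSyl S : Set G) ⊔ (S : Subgroup G) ≠ ⊤ := by
  intro htop
  apply centralizer_vSyl_ne h hnc
  set C := Subgroup.centralizer (vSyl S : Set G) with hC
  set T := Subgroup.centralizer (omegaSyl S : Set G) with hT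
  haveI : C.Normal := Subgroup.normal_centralizer
  haveI : T.Normal := Subgroup.normal_centralizer
  have hCT : C ≤ T := Subgroup.centralizer_le omegaSyl_le
  have hquot : IsPGroup p (T ⧸ C.subgroupOf T) := by
    intro q
    induction q using QuotientGroup.induction_on with
    | H t =>
      obtain ⟨k, m, hm, hkm⟩ := Nat.exists_eq_pow_mul_and_not_dvd (orderOf_pos t).ne' p hp.out.ne_one
      refine ⟨k, ?_⟩
      rw [← QuotientGroup.mk_pow, QuotientGroup.eq_one_iff, Subgroup.mem_subgroupOf]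
      refine Subgroup.mem_centralizer_iff.2 fun w hw =>
        ((CfsgLib.WeakClosureJ.commute_of_omega (vSyl_comm h) (isPGroup_vSyl h) hp.out
          (t := ((t ^ p ^ k : T) : G)) (fun v hv => vSyl_normal.conj_mem v hv _) ?_ (fun v hv hvp =>
            (Subgroup.mem_centralizer_iff.1 (t ^ p ^ k : T).2 v
              (Subgroup.subset_closure ⟨hv, hvp⟩)).symm)) w hw).symm
      rw [Subgroup.orderOf_coe, orderOf_pow' _ (pow_ne_zero _ hp.out.ne_zero), hkm, Nat.gcd_mul_right_left,
        Nat.mul_div_cancel_left _ (pow_pos hp.out.pos _)]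
      exact (hp.out.coprime_iff_not_dvd.2 hm).symm
  refine top_le_iff.1 (htop.ge.trans (sup_le (fun t ht => ?_) le_sup_right))
  obtain ⟨c, hc, s, hsS, -, rfl⟩ :=
    CfsgLib.GlaubermanZJ.exists_mul_of_relIndex_pow S hCT (IsPGroup.iff_card.1 hquot) ht
  exact Subgroup.mul_mem_sup hc hsS

theorem le_relIndex_subgroupOf (h : Hyp S π n) {U : Subgroup G} [U.Normal] (hU : U ≤ vSyl S)
    (hne : Subgroup.centralizer (U : Set G) ⊔ (S : Subgroup G) ≠ ⊤)
    (a : (S : Subgroup G)) (ha : a ∉ (pCore p G).subgroupOf (S : Subgroup G)) :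
    p ^ n ≤ ((U.subgroupOf (S : Subgroup G)) ⊓ Subgroup.centralizer ({a} : Set (S : Subgroup G))).relIndex
      (U.subgroupOf (S : Subgroup G)) := by
  have hUS : U ≤ (S : Subgroup G) := hU.trans ((vSyl_le h).trans (inf_le_left.trans h.pCore_le_sylow))
  have h1 := h.le_relIndex U ((isPGroup_vSyl h).to_le hU) hne a.2 ha
  rw [← Subgroup.relIndex_subgroupOf hUS] at h1
  have h2 : (U ⊓ Subgroup.centralizer ({(a : G)} : Set G)).subgroupOf (S : Subgroup G) =
      U.subgroupOf (S : Subgroup G) ⊓ Subgroup.centralizer ({a} : Set (S : Subgroup G)) := by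
    ext x
    simp only [Subgroup.mem_subgroupOf, Subgroup.mem_inf, Subgroup.mem_centralizer_singleton_iff,
      Subtype.ext_iff, Subgroup.coe_mul]
  rwa [h2] at h1

theorem exchData (h : Hyp S π n) (hnc : ¬ zSyl S ≤ Subgroup.center G) :
    ExchData ((pCore p G).subgroupOf (S : Subgroup G)) ((vSyl S).subgroupOf (S : Subgroup G)) (p ^ n) where
  normal := inferInstance
  le := fun _ hx => (vSyl_le h hx).1
  cent := fun x hx y hy => Subtype.ext ((vSyl_le h hx).2 y hy)
  index_le := fun X => by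
    rw [← show (X.map (S : Subgroup G).subtype).subgroupOf (S : Subgroup G) = X from
        Subgroup.comap_map_eq_self_of_injective (S : Subgroup G).subtype_injective X,
      Subgroup.relIndex_subgroupOf (Subgroup.map_subtype_le X)]
    exact relIndex_pCore_le h (Subgroup.map_subtype_le X)
  le_index := fun a ha => le_relIndex_subgroupOf h le_rfl (centralizer_vSyl_ne h hnc) a ha

/-- Conjugates of minimal centrally large subgroups inside `O_p(G)` are of the same kind. -/
theorem exists_conj_equiv (h : Hyp S π n) {R : Subgroup (S : Subgroup G)}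
    (hRO : R ≤ (pCore p G).subgroupOf (S : Subgroup G)) (g : G) :
    ∃ (R' : Subgroup (S : Subgroup G)) (e : R ≃* R'),
      R' ≤ (pCore p G).subgroupOf (S : Subgroup G) ∧
        (∀ x : R, (((e x : R') : (S : Subgroup G)) : G) = g * ((x : (S : Subgroup G)) : G) * g⁻¹) ∧
        R'.map (S : Subgroup G).subtype =
          (R.map (S : Subgroup G).subtype).map (MulAut.conj g).toMonoidHom := by
  haveI := pCore_normal p G
  let φ : R →* (S : Subgroup G) :=
    { toFun := fun x => ⟨g * ((x : (S : Subgroup G)) : G) * g⁻¹,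
        h.pCore_le_sylow ((inferInstance : (pCore p G).Normal).conj_mem _ (hRO x.2) g)⟩
      map_one' := Subtype.ext (by simp)
      map_mul' := fun x y => Subtype.ext (by simp [mul_assoc]) }
  have hφ : Function.Injective φ := fun x y hxy => by
    have h1 : g * ((x : (S : Subgroup G)) : G) * g⁻¹ = g * ((y : (S : Subgroup G)) : G) * g⁻¹ :=
      congrArg Subtype.val hxy
    exact Subtype.ext (Subtype.ext (mul_left_cancel (mul_right_cancel h1)))
  refine ⟨φ.range, MonoidHom.ofInjective hφ, ?_, fun x => rfl, ?_⟩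
  · rintro _ ⟨x, rfl⟩
    exact (inferInstance : (pCore p G).Normal).conj_mem _ (hRO x.2) g
  · ext y
    constructor
    · rintro ⟨_, ⟨x, rfl⟩, rfl⟩
      exact ⟨_, ⟨x, x.2, rfl⟩, rfl⟩
    · rintro ⟨_, ⟨x, hx, rfl⟩, rfl⟩
      exact ⟨_, ⟨⟨x, hx⟩, rfl⟩, rfl⟩

omit [Finite G] in
theorem normal_of_conj_le {N : Subgroup G}
    (hN : ∀ g : G, N.map (MulAut.conj g).toMonoidHom ≤ N) : N.Normal :=
  ⟨fun x hx g => hN g ⟨x, hx, rfl⟩⟩

/-- Unless `Z(S)` is central, the common derived subgroup is normal in `G`. -/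
theorem normal_commutator (h : Hyp S π n) (hnc : ¬ zSyl S ≤ Subgroup.center G)
    {Q : Subgroup (S : Subgroup G)} (hQ : IsMinimalCentrallyLarge Q) :
    ((⁅Q, Q⁆).map (S : Subgroup G).subtype).Normal := by
  have hP := S.isPGroup'
  have hex : ∃ R : Subgroup (S : Subgroup G), R ≤ (pCore p G).subgroupOf (S : Subgroup G) ∧
      IsMinimalCentrallyLarge R := by
    by_cases hQO : Q ≤ (pCore p G).subgroupOf (S : Subgroup G)
    · exact ⟨Q, hQO, hQ⟩
    · exact ⟨_, sup_le inf_le_right (exchData h hnc).le, (exch hP (exchData h hnc) hQ hQO).1⟩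
  obtain ⟨R, hRO, hR⟩ := hex
  rw [(Cfsg.Agent.S3007.result _ hP Q R hQ hR).2.1]
  refine normal_of_conj_le fun g => le_of_eq ?_
  obtain ⟨R', e, -, -, hR'⟩ := exists_conj_equiv h hRO g
  rw [(Cfsg.Agent.S3007.result _ hP R R' hR (isMinimalCentrallyLarge_of_equiv e hR)).2.1]
  conv_lhs => rw [← (Cfsg.Agent.S3007.result _ hP R R' hR (isMinimalCentrallyLarge_of_equiv e hR)).2.1]
  rw [Subgroup.map_commutator, Subgroup.map_commutator, Subgroup.map_commutator, hR']

/-- The part of `Z(S)` in the derived subgroup, or the join of the minimal centrally large subgroups, is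
normal in `G`. -/
theorem center_inf_commutator_or_join (h : Hyp S π n)
    {Q : Subgroup (S : Subgroup G)} (hQ : IsMinimalCentrallyLarge Q) :
    (zSyl S ⊓ (⁅Q, Q⁆).map (S : Subgroup G).subtype).Normal ∨
      ((minimalCentrallyLargeJoin (S : Subgroup G)).map (S : Subgroup G).subtype).Normal := by
  by_cases hnc : zSyl S ≤ Subgroup.center G
  · exact Or.inl (CfsgLib.PushingUp.normal_of_le_center (inf_le_left.trans hnc))
  have hP := S.isPGroup'
  set O' := (pCore p G).subgroupOf (S : Subgroup G) with hO'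
  by_cases hall : ∀ R : Subgroup (S : Subgroup G), IsMinimalCentrallyLarge R → R ≤ O'
  · refine Or.inr (normal_of_conj_le fun g => ?_)
    rw [minimalCentrallyLargeJoin, sSup_eq_iSup, Subgroup.map_iSup, Subgroup.map_iSup]
    refine iSup_le fun R => ?_
    rw [Subgroup.map_iSup, Subgroup.map_iSup]
    refine iSup_le fun hR => ?_
    obtain ⟨R', e, -, -, hR'⟩ := exists_conj_equiv h (hall R hR) g
    rw [← hR']
    exact le_iSup_of_le R'
      (Subgroup.map_mono (le_iSup_of_le (isMinimalCentrallyLarge_of_equiv e hR : _) le_rfl))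
  · push Not at hall
    obtain ⟨R, hR, hRO⟩ := hall
    refine Or.inl (CfsgLib.PushingUp.normal_of_le_center ?_)
    set D := (⁅Q, Q⁆).map (S : Subgroup G).subtype with hD
    haveI : D.Normal := normal_commutator h hnc hQ
    have hDR : D ≤ R.map (S : Subgroup G).subtype := by
      rw [hD, (Cfsg.Agent.S3007.result _ hP Q R hQ hR).2.1]
      exact Subgroup.map_mono ((Subgroup.commutator_le_self R))
    obtain ⟨-, -, a, haR, haO⟩ := exch hP (exchData h hnc) hR hRO
    set W := Subgroup.normalClosure ((zSyl S ⊓ D : Subgroup G) : Set G) with hW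
    have hWD : W ≤ D := Subgroup.normalClosure_le_normal fun x hx => hx.2
    have hWV : W ≤ vSyl S := Subgroup.normalClosure_mono fun x hx => hx.1
    by_contra hcen
    have hne : Subgroup.centralizer (W : Set G) ⊔ (S : Subgroup G) ≠ ⊤ := fun htop =>
      hcen (CfsgLib.PushingUp.Hyp.le_center_of_sup htop (fun x hx => Subgroup.subset_normalClosure hx)
        (inf_le_left.trans inf_le_right))
    have h1 := h.le_relIndex W ((isPGroup_vSyl h).to_le hWV) hne a.2 haO
    rw [Subgroup.relIndex_eq_one.2 (le_inf le_rfl fun x hx => ?_)] at h1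
    · exact absurd h1 (not_le.2 (Nat.one_lt_pow (by have := h.one_le; omega) hp.out.one_lt))
    · obtain ⟨y, hy, rfl⟩ := hDR (hWD hx)
      exact Subgroup.mem_centralizer_singleton_iff.2 (congrArg Subtype.val (haR y hy))

/-- `Z(S)` or the join of the Frattini subgroups of the selected minimal centrally large subgroups is
normal in `G`. -/
theorem center_or_frattiniJoin (h : Hyp S π n) :
    (zSyl S).Normal ∨
      ((frattiniOfMinimalCLJoin p (S : Subgroup G)).map (S : Subgroup G).subtype).Normal := by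
  by_cases hnc : zSyl S ≤ Subgroup.center G
  · exact Or.inl (CfsgLib.PushingUp.normal_of_le_center hnc)
  refine Or.inr (normal_of_conj_le fun g => ?_)
  have hP := S.isPGroup'
  have hd := exchData h hnc
  set P' := (S : Subgroup G) with hP'
  rw [frattiniOfMinimalCLJoin, Subgroup.map_iSup, Subgroup.map_iSup]
  refine iSup_le fun ⟨Q, hQ, hsel⟩ => ?_
  obtain ⟨R, hRO, hR, hRsel, hQR⟩ : ∃ R : Subgroup P', R ≤ (pCore p G).subgroupOf P' ∧
      IsMinimalCentrallyLarge R ∧
      Nat.card ↥(omegaOneCenter p R) = maxOmegaCenterOfMinimalCL p P' ∧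
      (frattini ↥Q).map Q.subtype ≤ (frattini ↥R).map R.subtype := by
    by_cases hQO : Q ≤ (pCore p G).subgroupOf P'
    · exact ⟨Q, hQO, hQ, hsel, le_rfl⟩
    · exact exch_omega hP hd (U := (omegaSyl S).subgroupOf P') (Subgroup.comap_mono omegaSyl_le)
        (fun u hu => Subtype.ext (omegaSyl_pow h _ hu))
        (le_relIndex_subgroupOf h omegaSyl_le (centralizer_omegaSyl_ne h hnc)) hQ hQO hsel
  obtain ⟨R', e, -, he, -⟩ := exists_conj_equiv h hRO g
  refine le_iSup_of_le ⟨R', isMinimalCentrallyLarge_of_equiv e hR,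
    (card_omegaOneCenter_of_equiv e).symm.trans hRsel⟩ ?_
  refine le_trans (Subgroup.map_mono (Subgroup.map_mono hQR)) ?_
  rintro _ ⟨_, ⟨_, ⟨x, hx, rfl⟩, rfl⟩, rfl⟩
  refine ⟨((e x : R') : P'), ⟨e x, ?_, rfl⟩, he x⟩
  exact CfsgLib.FStarQuot.map_frattini_le e.toMonoidHom e.surjective ⟨x, hx, rfl⟩

end CfsgLib.PushingUp44
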