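import Cfsg.Agent.PushingUp44.Factors

/-!
Weights of a torus element against the square of a unipotent element, for distance two in odd characteristic.
-/

set_option autoImplicit false

open Cfsg
open scoped MatrixGroups commutatorElement
open CfsgLib.PushingUp (upperT upperT_coe)

namespace CfsgLib.PushingUp44

open CfsgLib.PushingUp (Hyp)

/-- If conjugation by `H` carries `A` to `A ^ m`, a double difference of weight `m ^ 2 * kap` that must have
weight `lam` vanishes. -/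
theorem weight_kill {W : Type*} [AddCommGroup W] {p : ℕ} [Fact p.Prime] (A H : AddMonoid.End W) (m : ℕ)
    (hconj : ∀ w, H (A w) = (A ^ m) (H w)) (y : W) (h3 : (A - 1) ((A - 1) ((A - 1) (H y))) = 0) (lam kap : ℕ)
    (hlam : H ((A - 1) ((A - 1) y)) = lam • (A - 1) ((A - 1) y))
    (hkap : (A - 1) ((A - 1) (H y)) = kap • (A - 1) ((A - 1) y))
    (hord : p • (A - 1) ((A - 1) y) = 0) (hne : (lam : ZMod p) ≠ (m : ZMod p) ^ 2 * (kap : ZMod p)) :
    (A - 1) ((A - 1) y) = 0 := by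
  set X := A - 1 with hX
  have hXapp : ∀ v, X v = A v - v := fun v => rfl
  have hA : ∀ v, A v = v + X v := fun v => by rw [hXapp]; abel
  have hexp : ∀ (j : ℕ) v, X (X (X v)) = 0 →
      (A ^ j) v = v + j • X v + (j.choose 2) • X (X v) := by
    intro j v hv
    induction j with
    | zero => rw [pow_zero, Nat.choose_zero_succ, zero_nsmul, zero_nsmul, add_zero, add_zero]; rfl
    | succ j ih =>
      show (A ^ (j + 1)) v = _
      rw [pow_succ']
      show A ((A ^ j) v) = _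
      rw [ih, map_add, map_add, map_nsmul, map_nsmul, hA v, hA (X v), hA (X (X v)), hv, add_zero,
        Nat.choose_succ_succ, Nat.choose_one_right, succ_nsmul, nsmul_add, add_nsmul]
      abel
  have hHX : ∀ w, H (X w) = (A ^ m) (H w) - H w := fun w => by rw [hXapp, map_sub, hconj]
  have e : H (X (X y)) = (m * m) • X (X (H y)) := by
    have h4 : (A ^ m) (X (H y)) - X (H y) = m • X (X (H y)) := by
      rw [hexp m _ (by rw [h3, map_zero]), h3, smul_zero, add_zero, add_sub_cancel_left]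
    have h5 : (A ^ m) (X (X (H y))) - X (X (H y)) = 0 := by
      rw [hexp m _ (by rw [h3, map_zero, map_zero]), h3, map_zero, smul_zero, smul_zero, add_zero, add_zero, sub_self]
    rw [hHX, hHX]
    have h6 : (A ^ m) (H y) - H y = m • X (H y) + m.choose 2 • X (X (H y)) := by
      rw [hexp m _ h3]; abel
    rw [h6, map_add, map_nsmul, map_nsmul, add_sub_add_comm, ← nsmul_sub, ← nsmul_sub, h4, h5, smul_zero,
      add_zero, ← mul_nsmul]
  rw [hlam, hkap, ← mul_nsmul] at e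
  set c := X (X y) with hc
  by_contra hc0
  have hord' : addOrderOf c = p := addOrderOf_eq_prime hord hc0
  have hmod : lam ≡ kap * (m * m) [MOD p] := hord' ▸ (nsmul_eq_nsmul_iff_modEq.1 e)
  apply hne
  have := (ZMod.natCast_eq_natCast_iff lam (kap * (m * m)) p).2 hmod
  rw [this]
  push_cast
  ring

variable {G : Type*} [Group G] [Finite G] {p : ℕ} [hp : Fact p.Prime] {S : Sylow p G}

/-- The same statement for an element of a normal section. -/
theorem weight_zero (M C : Subgroup G) [hMn : M.Normal] [hCn : C.Normal]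
    (hab : ∀ u ∈ M, ∀ v ∈ M, ⁅u, v⁆ ∈ C) {g x : G} (m : ℕ)
    (hconj : ∀ u ∈ M, ⁅(x ^ m)⁻¹ * (g * x * g⁻¹), u⁆ ∈ C)
    {y : G} (hy : y ∈ M) (h3 : ⁅x, ⁅x, ⁅x, g * y * g⁻¹⁆⁆⁆ ∈ C) (lam kap : ℕ)
    (hlam : QuotientGroup.mk' C (g * ⁅x, ⁅x, y⁆⁆ * g⁻¹) = QuotientGroup.mk' C (⁅x, ⁅x, y⁆⁆ ^ lam))
    (hkap : QuotientGroup.mk' C ⁅x, ⁅x, g * y * g⁻¹⁆⁆ = QuotientGroup.mk' C (⁅x, ⁅x, y⁆⁆ ^ kap))
    (hord : ⁅x, ⁅x, y⁆⁆ ^ p ∈ C) (hne : (lam : ZMod p) ≠ (m : ZMod p) ^ 2 * (kap : ZMod p)) :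
    ⁅x, ⁅x, y⁆⁆ ∈ C := by
  set φ := QuotientGroup.mk' C with hφ
  set V := M.map φ with hV
  haveI : V.Normal := Subgroup.Normal.map hMn φ (QuotientGroup.mk'_surjective C)
  have hcomm : ∀ a b : Additive V, a + b = b + a := fun a b => by
    obtain ⟨u, hu, hua⟩ := a.toMul.2
    obtain ⟨v, hv, hvb⟩ := b.toMul.2
    refine Additive.toMul.injective (Subtype.ext ?_)
    show (a.toMul : G ⧸ C) * (b.toMul : G ⧸ C) = (b.toMul : G ⧸ C) * (a.toMul : G ⧸ C)
    rw [← hua, ← hvb, ← commutatorElement_eq_one_iff_mul_comm, ← map_commutatorElement]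
    exact (QuotientGroup.eq_one_iff _).2 (hab u hu v hv)
  letI : AddCommGroup (Additive V) := { (inferInstance : AddGroup (Additive V)) with add_comm := hcomm }
  let θ : G →* AddMonoid.End (Additive V) := (conjEnd V).comp φ
  let ι : ∀ u, u ∈ M → Additive V := fun u hu => Additive.ofMul ⟨φ u, Subgroup.mem_map_of_mem φ hu⟩
  have hMc : ∀ u ∈ M, ∀ z : G, ⁅z, u⁆ ∈ M := fun u hu z => by
    rw [commutatorElement_def]
    exact mul_mem (hMn.conj_mem u hu z) (inv_mem hu)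
  have hX : ∀ u hu, (θ x - 1) (ι u hu) = ι ⁅x, u⁆ (hMc u hu x) := fun u hu => by
    refine Additive.toMul.injective (Subtype.ext ?_)
    show φ x * φ u * (φ x)⁻¹ / φ u = φ ⁅x, u⁆
    rw [map_commutatorElement, commutatorElement_def, div_eq_mul_inv]
  have hH : ∀ u hu, θ g (ι u hu) = ι (g * u * g⁻¹) (hMn.conj_mem u hu g) := fun u hu => by
    refine Additive.toMul.injective (Subtype.ext ?_)
    show φ g * φ u * (φ g)⁻¹ = φ (g * u * g⁻¹)
    rw [map_mul, map_mul, map_inv]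
  have hext : ∀ u hu v hv, φ u = φ v → ι u hu = ι v hv := fun u hu v hv e =>
    Additive.toMul.injective (Subtype.ext e)
  have hsmul : ∀ (i : ℕ) u hu, i • ι u hu = ι (u ^ i) (pow_mem hu i) := fun i u hu => by
    refine Additive.toMul.injective (Subtype.ext ?_)
    show (φ u) ^ i = φ (u ^ i)
    rw [map_pow]
  have hδ : θ (x ^ m) = θ (g * x * g⁻¹) := by
    set δ := (x ^ m)⁻¹ * (g * x * g⁻¹) with hδ
    have h1 : θ δ = 1 := AddMonoidHom.ext fun w => by
      obtain ⟨u, hu, he⟩ := w.toMul.2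
      refine Additive.toMul.injective (Subtype.ext ?_)
      show φ δ * (w.toMul : G ⧸ C) * (φ δ)⁻¹ = (w.toMul : G ⧸ C)
      rw [← he]
      exact comm_mem_iff.1 (hconj u hu)
    rw [show g * x * g⁻¹ = x ^ m * δ by rw [hδ]; group, map_mul, h1, mul_one]
  have hw : ∀ w, θ g (θ x w) = (θ x ^ m) (θ g w) := fun w => by
    rw [← map_pow, hδ, ← act_mul, ← act_mul, inv_mul_cancel_right]
  have hy' : (θ x - 1) ((θ x - 1) (ι y hy)) = ι ⁅x, ⁅x, y⁆⁆ (hMc _ (hMc y hy x) x) := by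
    rw [hX y hy, hX _ (hMc y hy x)]
  have hgy := hMn.conj_mem y hy g
  have hcc := hMc _ (hMc y hy x) x
  have hres := weight_kill (p := p) (θ x) (θ g) m hw (ι y hy) (by
      rw [hH y hy, hX _ hgy, hX _ (hMc _ hgy x), hX _ (hMc _ (hMc _ hgy x) x)]
      exact Additive.toMul.injective (Subtype.ext ((QuotientGroup.eq_one_iff _).2 h3)))
    lam kap (by rw [hy', hH _ hcc, hsmul _ _ hcc]; exact hext _ (hMn.conj_mem _ hcc g) _ (pow_mem hcc lam) hlam)
    (by rw [hy', hsmul _ _ hcc, hH y hy, hX _ hgy, hX _ (hMc _ hgy x)]; exact hext _ (hMc _ (hMc _ hgy x) x) _ (pow_mem hcc kap) hkap)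
    (by
      rw [hy', hsmul _ _ hcc]
      exact Additive.toMul.injective (Subtype.ext ((QuotientGroup.eq_one_iff _).2 hord))) hne
  rw [hy'] at hres
  exact (QuotientGroup.eq_one_iff _).1 (congrArg (fun z : Additive V => (z.toMul : G ⧸ C)) hres)

variable {F : Type*} [Field F] [Fintype F] {π : G →* Matrix.ProjectiveSpecialLinearGroup (Fin 2) F} {n : ℕ}
  {h : Hyp S π n} {hel : ∀ z ∈ zSyl S, z ^ p = 1} {hnc : ¬ zSyl S ≤ Subgroup.center G}

theorem rho_sylow (h : Hyp S π n) (hU : (S : Subgroup G).map π = upperSub F) {ρ : G →* SL(2, F)}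
    (hρ : (toPSL F).comp ρ = π) {s : G} (hs : s ∈ (S : Subgroup G)) : ∃ a, ρ s = upperT a := by
  haveI := charP_field h
  obtain ⟨t, ht⟩ : π s ∈ upperSub F := hU ▸ Subgroup.mem_map_of_mem π hs
  refine ⟨t.toAdd, ?_⟩
  obtain ⟨k, hk⟩ := S.isPGroup' ⟨s, hs⟩
  have e : toPSL F (upperT t.toAdd) = toPSL F (ρ s) := ht.trans (DFunLike.congr_fun hρ s).symm
  rw [QuotientGroup.mk'_eq_mk'] at e
  obtain ⟨z, hz, hzs⟩ := e
  have hc : Commute (upperT t.toAdd) z := Subgroup.mem_center_iff.1 hz _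
  have hup : ∀ (j : ℕ), upperT t.toAdd ^ j = upperT ((j : F) * t.toAdd) := by
    intro j
    induction j with
    | zero => rw [pow_zero, Nat.cast_zero, zero_mul]; ext i j; fin_cases i <;> fin_cases j <;> simp [upperT_coe]
    | succ j ih => rw [pow_succ, ih, CfsgLib.PushingUp.upperT_mul]; push_cast; rw [add_mul, one_mul]
  have hk' : (1 : ℕ) ≤ k + 1 := by omega
  have hzero : upperT ((0 : ℕ) * t.toAdd) = (1 : SL(2, F)) := by rw [← hup 0, pow_zero]
  have h3 : z = 1 := center_pPower (p := p) hz (k + 1) (by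
    have h4 := congrArg (· ^ p ^ (k + 1)) hzs
    have h5 : s ^ p ^ (k + 1) = 1 := by
      rw [pow_succ, pow_mul, show s ^ p ^ k = 1 from congrArg Subtype.val hk, one_pow]
    rw [hc.mul_pow, ← map_pow, h5, map_one, hup, show ((p ^ (k + 1) : ℕ) : F) = ((0 : ℕ) : F) by
      push_cast; rw [CharP.cast_eq_zero, zero_pow (by omega)], hzero, one_mul] at h4
    exact h4)
  rw [← hzs, h3, mul_one]

theorem ker_rho_two (hk : (conf h hel hnc).IsB 2) {U N : Subgroup G} (L : Layer2 S n U N) {ρ : G →* SL(2, F)}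
    (hker₁ : ∀ x, x ∈ ρ.ker ↔ ∀ u ∈ vSyl S, ⁅x, u⁆ ∈ vSyl S ⊓ Subgroup.center G)
    (hker₂ : ∀ x, x ∈ ρ.ker ↔ ∀ u ∈ U, ⁅x, u⁆ ∈ N) : ρ.ker = pCore p G := by
  have := hk.pos
  have hVQ : vSyl S ≤ pCore p G := (vSyl_le h).trans inf_le_left
  refine ker_eq_pCore h hker₁ fun x hx hcop hV q hq => ?_
  have hN : ∀ v ∈ N, Commute v x := fun v hv => commute_step hVQ hcop hV (L.fixed v hv x)
  have hU : ∀ v ∈ U, Commute v x := fun v hv =>
    commute_step (L.pair.le.trans L.le_core) hcop hN (comm_symm_mem ((hker₂ x).1 hx v hv))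
  exact commute_step L.le_core hcop hU (L.residual q hq x (mem_pResidual hcop))

/-- Lifts of the diagonal elements with entries in the prime field. -/
theorem exists_torus (h : Hyp S π n) (hU : (S : Subgroup G).map π = upperSub F) {ρ : G →* SL(2, F)}
    (hs : Function.Surjective ρ) (hρ : (toPSL F).comp ρ = π) (hker : ρ.ker = pCore p G) (l : ℕ)
    (hl : (l : F) ≠ 0) :
    ∃ g ∈ pResidual p G, ρ g = diagT (l : F) hl ∧
      ∀ x ∈ (S : Subgroup G), (x ^ (l * l))⁻¹ * (g * x * g⁻¹) ∈ pCore p G := by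
  haveI := charP_field h
  obtain ⟨g₀, hg₀⟩ := hs (diagT (l : F) hl)
  obtain ⟨k, hk⟩ := exists_pow_mem_pResidual (p := p) g₀
  have hpow : ∀ j : ℕ, diagT (l : F) hl ^ j = diagT ((l : F) ^ j) (pow_ne_zero j hl) := by
    intro j
    induction j with
    | zero => ext i i'; fin_cases i <;> fin_cases i' <;> simp [diagT_coe]
    | succ j ih =>
      rw [pow_succ, ih]
      ext i i'
      fin_cases i <;> fin_cases i' <;>
        simp [diagT_coe, Matrix.SpecialLinearGroup.coe_mul, Matrix.mul_apply, Fin.sum_univ_two, pow_succ, mul_comm]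
  have hfix : ∀ j : ℕ, (l : F) ^ p ^ j = (l : F) := by
    intro j
    induction j with
    | zero => simp
    | succ j ih => rw [pow_succ, pow_mul, ih]; exact map_natCast (frobenius F p) l
  have hg : ρ (g₀ ^ p ^ k) = diagT (l : F) hl := by
    rw [map_pow, hg₀, hpow]
    simp only [hfix]
  refine ⟨g₀ ^ p ^ k, hk, hg, fun x hx => ?_⟩
  rw [← hker, MonoidHom.mem_ker]
  obtain ⟨a, ha⟩ := rho_sylow h hU hρ hx
  have hup : ∀ (j : ℕ), upperT a ^ j = upperT ((j : F) * a) := by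
    intro j
    induction j with
    | zero => rw [pow_zero, Nat.cast_zero, zero_mul]; ext i j; fin_cases i <;> fin_cases j <;> simp [upperT_coe]
    | succ j ih => rw [pow_succ, ih, CfsgLib.PushingUp.upperT_mul]; push_cast; rw [add_mul, one_mul]
  rw [map_mul, map_mul, map_mul, map_inv, map_inv, map_pow ρ x, hg, ha, diag_conj, hup, inv_mul_eq_one]
  push_cast
  rw [sq]

/-- Coordinates of a natural section. -/
structure Coord (ρ : G →* SL(2, F)) (M N : Subgroup G) (χ : G → (Fin 2 → F)) : Prop where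
  normM : M.Normal
  mul : ∀ u ∈ M, ∀ v ∈ M, χ (u * v) = χ u + χ v
  zero : ∀ u ∈ M, χ u = 0 ↔ u ∈ N
  equiv : ∀ g : G, ∀ u ∈ M, χ (g * u * g⁻¹) = (ρ g : Matrix (Fin 2) (Fin 2) F).mulVec (χ u)

namespace Coord

variable {ρ : G →* SL(2, F)} {M N : Subgroup G} {χ : G → (Fin 2 → F)} (cd : Coord ρ M N χ)
include cd

omit [Finite G] [Fintype F]

theorem pow {u : G} (hu : u ∈ M) (j : ℕ) : χ (u ^ j) = j • χ u := by
  induction j with
  | zero =>
    have := cd.mul 1 (one_mem _) 1 (one_mem _)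
    rw [mul_one, left_eq_add] at this
    rw [pow_zero, zero_nsmul, this]
  | succ j ih => rw [pow_succ, cd.mul _ (pow_mem hu j) _ hu, ih, succ_nsmul]

theorem div_mem_iff {u v : G} (hu : u ∈ M) (hv : v ∈ M) : u⁻¹ * v ∈ N ↔ χ u = χ v := by
  rw [← cd.zero _ (mul_mem (inv_mem hu) hv)]
  have h1 := cd.mul u hu (u⁻¹ * v) (mul_mem (inv_mem hu) hv)
  rw [mul_inv_cancel_left] at h1
  constructor
  · intro h2; rw [h1, h2, add_zero]
  · intro h2; rwa [← h2, left_eq_add] at h1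

theorem comm_iff {g u : G} (hu : u ∈ M) :
    ⁅u, g⁆ ∈ N ↔ (ρ g : Matrix (Fin 2) (Fin 2) F).mulVec (χ u) = χ u := by
  rw [← cd.equiv g u hu, eq_comm, ← cd.div_mem_iff hu (cd.normM.conj_mem u hu g)]
  have hcm : u * (g * u⁻¹ * g⁻¹) ∈ M := mul_mem hu (cd.normM.conj_mem _ (inv_mem hu) g)
  have e1 : ⁅u, g⁆ = u * (g * u⁻¹ * g⁻¹) := by simp [commutatorElement_def, mul_assoc]
  have hsw : ∀ a ∈ M, ∀ b ∈ M, a * b ∈ N → b * a ∈ N := fun a ha b hb hab => by
    rw [← cd.zero _ (mul_mem hb ha), cd.mul b hb a ha, add_comm, ← cd.mul a ha b hb]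
    exact (cd.zero _ (mul_mem ha hb)).2 hab
  rw [e1]
  have hgu : g * u⁻¹ * g⁻¹ = (g * u * g⁻¹)⁻¹ := by group
  rw [hgu]
  constructor <;> intro hh
  · have := inv_mem hh
    rw [mul_inv_rev, inv_inv] at this
    exact hsw _ (cd.normM.conj_mem u hu g) _ (inv_mem hu) this
  · have := inv_mem (hsw _ (inv_mem hu) _ (cd.normM.conj_mem u hu g) hh)
    rwa [mul_inv_rev, inv_inv] at this

theorem snd_zero {g u : G} (hu : u ∈ M) {a : F} (hg : ρ g = upperT a) (ha : a ≠ 0) (hfix : ⁅u, g⁆ ∈ N) :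
    χ u 1 = 0 := by
  have h1 := congrFun ((cd.comm_iff hu).1 hfix) 0
  rw [hg] at h1
  simp [upperT_coe, Matrix.mulVec, dotProduct, Fin.sum_univ_two] at h1
  exact h1.resolve_left ha

theorem fixed_of_snd_zero {g u : G} (hu : u ∈ M) {a : F} (hg : ρ g = upperT a) (h0 : χ u 1 = 0) :
    ⁅u, g⁆ ∈ N := by
  refine (cd.comm_iff hu).2 (funext fun i => ?_)
  rw [hg]
  fin_cases i <;> simp [upperT_coe, Matrix.mulVec, dotProduct, Fin.sum_univ_two, h0]

end Coord

/-- What distance two gives. -/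
structure TwoCtx (h : Hyp S π n) (U N : Subgroup G) (ρ : G →* SL(2, F)) (χ₁ χ₂ : G → (Fin 2 → F)) : Prop where
  layer : Layer2 S n U N
  upper : (S : Subgroup G).map π = upperSub F
  surj : Function.Surjective ρ
  lift : (toPSL F).comp ρ = π
  ker : ρ.ker = pCore p G
  low : Coord ρ (vSyl S) (vSyl S ⊓ Subgroup.center G) χ₁
  high : Coord ρ U N χ₂
  quad : ∀ u ∈ vSyl S, ∀ s ∈ (S : Subgroup G), ⁅u, s⁆ ∈ zSyl S
  index : (vSyl S ⊓ Subgroup.centralizer ((S : Subgroup G) : Set G)).relIndex (vSyl S) = p ^ n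
  elem : ∀ z ∈ zSyl S, z ^ p = 1
  noncentral : ¬ zSyl S ≤ Subgroup.center G

theorem exists_ctx (hU : (S : Subgroup G).map π = upperSub F) (hk : (conf h hel hnc).IsB 2)
    (ho : (conf h hel hnc).Open) {U N : Subgroup G} (L : Layer2 S n U N) :
    ∃ ρ χ₁ χ₂, TwoCtx h U N ρ χ₁ χ₂ := by
  obtain ⟨ρ, hs, hρ, hker₁, -, -, χ₁, a1, a2, a3⟩ := (quadPair_vSyl hk ho).exists_rho h hU
  obtain ⟨ρ₂, -, hρ₂, hker₂, -, -, χ₂, b1, b2, b3⟩ := L.pair.exists_rho h hU
  obtain rfl := QuadPair.lifts_eq h hρ₂ hρ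
  exact ⟨ρ₂, χ₁, χ₂, L, hU, hs, hρ, ker_rho_two hk L hker₁ hker₂, ⟨inferInstance, a1, a2, a3⟩,
    ⟨L.pair.norM, b1, b2, b3⟩, fun u hu s hs => comm_vSyl_sylow hk ho hu hs, relIndex_vSyl hk ho, hel, hnc⟩

namespace TwoCtx

variable {U N : Subgroup G} {ρ : G →* SL(2, F)} {χ₁ χ₂ : G → (Fin 2 → F)} (T : TwoCtx h U N ρ χ₁ χ₂)
include T

local notation "VV" => vSyl S
local notation "CC" => vSyl S ⊓ Subgroup.center G

theorem center_le_zSyl : CC ≤ zSyl S := fun x hx =>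
  ⟨h.pCore_le_sylow ((vSyl_le h) hx.1).1,
    Subgroup.mem_centralizer_iff.2 fun t _ => Subgroup.mem_center_iff.1 hx.2 t⟩

theorem zSyl_comm {z s : G} (hz : z ∈ zSyl S) (hs : s ∈ (S : Subgroup G)) : ⁅s, z⁆ = 1 :=
  commute_comm_one (Subgroup.mem_centralizer_iff.1 hz.2 s hs)

theorem exists_upper {x : G} (hx : x ∈ (S : Subgroup G)) (hxQ : x ∉ pCore p G) :
    ∃ a, ρ x = upperT a ∧ a ≠ 0 := by
  obtain ⟨a, ha⟩ := rho_sylow h T.upper T.lift hx
  refine ⟨a, ha, fun h0 => hxQ (T.ker ▸ ?_)⟩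
  rw [MonoidHom.mem_ker, ha, h0]
  ext i j
  fin_cases i <;> fin_cases j <;> simp [upperT_coe]

/-- A point of the module fixed by `S` modulo the central part is fixed. -/
theorem fixed_eq {v : G} (hv : v ∈ VV) (hv1 : χ₁ v 1 = 0) : v ∈ zSyl S := by
  set Zs := VV ⊓ Subgroup.centralizer ((S : Subgroup G) : Set G) with hZs
  set F' := fixMod VV CC ((S : Subgroup G) : Set G) with hF'
  have hnC : ∀ t : G, t ∈ Subgroup.normalizer ((CC : Subgroup G) : Set G) := fun t => by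
    rw [Subgroup.normalizer_eq_top_iff.2 inferInstance]; trivial
  have hvF : v ∈ F' := ⟨hv, hnC v, fun s hs => by
    obtain ⟨a, ha⟩ := rho_sylow h T.upper T.lift hs
    exact T.low.fixed_of_snd_zero hv ha hv1⟩
  obtain ⟨g, hg⟩ := exists_not_mem_mSyl h
  have hgV : cj g VV = VV := cj_eq_of_le_normalizer (by
    rw [Subgroup.normalizer_eq_top_iff.2 inferInstance]; trivial)
  have hle : F' ⊓ cj g F' ≤ CC := by
    rintro x ⟨hx, hx'⟩
    refine ((T.low.zero x hx.1).1 ?_)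
    have hx'' := mem_cj.1 hx'
    have h2 : x ∈ fixMod VV CC (((S : Subgroup G) ⊔ cj g (S : Subgroup G) : Subgroup G) : Set G) := by
      refine mem_fixMod_sup (fun t _ => hnC t) (fun t _ => hnC t) hx ⟨hx.1, hnC x, fun t ht => ?_⟩
      have h3 := (inferInstance : (CC).Normal).conj_mem _ (hx''.2.2 _ (mem_cj.1 ht)) g
      convert h3 using 1
      simp [commutatorElement_def, mul_assoc]
    rw [sup_cj_sylow h hg] at h2
    by_contra hne
    obtain ⟨A, hA⟩ := exists_mulVec_eq hne (show (![1, 1] : Fin 2 → F) ≠ 0 from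
      fun h0 => one_ne_zero (congrFun h0 0))
    obtain ⟨B, hB⟩ := exists_mulVec_eq hne (show (![1, 0] : Fin 2 → F) ≠ 0 from
      fun h0 => one_ne_zero (congrFun h0 0))
    obtain ⟨a, rfl⟩ := T.surj A
    obtain ⟨b, rfl⟩ := T.surj B
    rw [(T.low.comm_iff hx.1).1 (h2.2.2 a trivial)] at hA
    rw [(T.low.comm_iff hx.1).1 (h2.2.2 b trivial)] at hB
    exact one_ne_zero (congrFun (hA.symm.trans hB) 1)
  have h1 := h.sq_le_relIndex_center VV (isPGroup_vSyl h) (centralizer_vSyl_ne h T.noncentral)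
  have h2 : (p ^ n) ^ 2 ≤ F'.relIndex VV * F'.relIndex VV := by
    refine h1.trans ((relIndex_anti_left hle _).trans (Subgroup.relIndex_inf_le.trans ?_))
    refine Nat.mul_le_mul le_rfl (le_of_eq ?_)
    conv_lhs => rw [← hgV]
    rw [relIndex_cj]
  rw [← sq] at h2
  have h3 : Zs ≤ F' := fun z hz => ⟨hz.1, hnC z, fun s hs => by
    rw [commute_comm_one (Subgroup.mem_centralizer_iff.1 hz.2 s hs).symm]; exact one_mem _⟩
  have h4 := eq_of_relIndex_le h3 (fixMod_le _ _ _)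
    (T.index.trans_le ((Nat.pow_le_pow_iff_left two_ne_zero).1 h2))
  rw [← h4] at hvF
  exact ⟨h.pCore_le_sylow ((vSyl_le h) hv).1, hvF.2⟩

theorem torus_zSyl {g : G} {l : ℕ} (hl : (l : F) ≠ 0) (hg : ρ g = diagT (l : F) hl) {x : G}
    (hx : x ∈ (S : Subgroup G)) (hxQ : x ∉ pCore p G) {w : G} (hw : w ∈ zSyl S) :
    QuotientGroup.mk' CC (g * w * g⁻¹) = QuotientGroup.mk' CC (w ^ l) := by
  have hwV := zSyl_le_vSyl hw
  obtain ⟨a, ha, ha0⟩ := T.exists_upper hx hxQ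
  have h0 : χ₁ w 1 = 0 := T.low.snd_zero hwV ha ha0 (by
    rw [commute_comm_one (Subgroup.mem_centralizer_iff.1 hw.2 x hx).symm]; exact one_mem _)
  refine QuotientGroup.eq.2 ((T.low.div_mem_iff (T.low.normM.conj_mem w hwV g) (pow_mem hwV l)).2 ?_)
  rw [T.low.equiv g w hwV, T.low.pow hwV, hg]
  funext i
  fin_cases i <;> simp [diagT_coe, Matrix.mulVec, dotProduct, Fin.sum_univ_two, h0]

theorem abelian_U : ∀ u ∈ U, ∀ v ∈ U, ⁅u, v⁆ ∈ CC := fun u hu _ hv =>
  T.layer.central u hu _ (T.layer.le_core hv)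

/-- In odd characteristic `[N, S]` lies in the centre of `S`. -/
theorem comm_N (hodd : p ≠ 2) {d : G} (hd : d ∈ N) {s : G} (hs : s ∈ (S : Subgroup G)) :
    ⁅s, d⁆ ∈ zSyl S := by
  have hdU : d ∈ U := T.layer.pair.le hd
  by_cases hsQ : s ∈ pCore p G
  · exact T.center_le_zSyl (comm_symm_mem (T.layer.central d hdU s hsQ))
  haveI := T.layer.pair.norM
  haveI := T.layer.pair.norN
  haveI : Fact (2 < p) := ⟨lt_of_le_of_ne hp.out.two_le (Ne.symm hodd)⟩
  haveI := charP_field h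
  set l := p - 1 with hl'
  have hlz : ((l : ℕ) : ZMod p) = -1 := by
    rw [hl', Nat.cast_sub hp.out.one_le, ZMod.natCast_self, Nat.cast_one, zero_sub]
  have hl : (l : F) ≠ 0 := by
    rw [hl', Nat.cast_sub hp.out.one_le, CharP.cast_eq_zero, Nat.cast_one, zero_sub]
    exact neg_ne_zero.2 one_ne_zero
  obtain ⟨g, hgR, hg, hgx⟩ := exists_torus h T.upper T.surj T.lift T.ker l hl
  have hV : ∀ d ∈ N, ⁅s, d⁆ ∈ VV := fun d hd => comm_symm_mem (T.layer.fixed d hd s)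
  have hc : ∀ d ∈ N, ⁅s, ⁅s, d⁆⁆ ∈ zSyl S := fun d hd => comm_symm_mem (T.quad _ (hV d hd) s hs)
  have h1 : ⁅s, ⁅s, d⁆⁆ ∈ CC := by
    refine weight_zero U CC T.abelian_U (l * l) (fun u hu => comm_symm_mem (T.layer.central u hu _ (hgx s hs)))
      hdU ?_ l 1 (T.torus_zSyl hl hg hs hsQ (hc d hd)) ?_ (by rw [T.elem _ (hc d hd)]; exact one_mem _) ?_
    · rw [T.zSyl_comm (hc _ (T.layer.pair.norN.conj_mem d hd g)) hs]; exact one_mem _
    · have hv : d⁻¹ * (g * d * g⁻¹) ∈ VV := by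
        have := T.layer.fixed d⁻¹ (inv_mem hd) g
        simpa [commutatorElement_def, mul_assoc] using this
      set v := d⁻¹ * (g * d * g⁻¹) with hv'
      have hsv : ⁅s, v⁆ ∈ zSyl S := comm_symm_mem (T.quad v hv s hs)
      have hvd : ⁅s, d * v⁆ = ⁅s, d⁆ * ⁅s, v⁆ := by
        rw [comm_mul_right, show d * ⁅s, v⁆ * d⁻¹ = ⁅s, v⁆ by
          rw [(show Commute d ⁅s, v⁆ from
            Subgroup.mem_centralizer_iff.1 hsv.2 d (h.pCore_le_sylow (T.layer.le_core hdU))).eq, mul_inv_cancel_right]]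
      rw [show g * d * g⁻¹ = d * v by rw [hv', mul_inv_cancel_left], hvd, comm_mul_right, T.zSyl_comm hsv hs,
        mul_one, mul_inv_cancel, mul_one, pow_one]
    · rw [Nat.cast_mul, hlz, Nat.cast_one]
      simp only [mul_neg, mul_one, neg_neg, one_pow]
      exact ZMod.neg_one_ne_one
  obtain ⟨a, ha, ha0⟩ := T.exists_upper hs hsQ
  exact T.fixed_eq (hV d hd) (T.low.snd_zero (hV d hd) ha ha0 (comm_symm_mem h1))

/-- A point of `U` fixed modulo `N` is moved into the centre of `S`. -/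
theorem comm_top (hodd : p ≠ 2) {f : G} (hf : f ∈ U) (hfix : ∀ s ∈ (S : Subgroup G), ⁅f, s⁆ ∈ N) {x : G}
    (hx : x ∈ (S : Subgroup G)) : ⁅x, f⁆ ∈ zSyl S := by
  obtain ⟨l, hl, d, hd, rfl, hls⟩ := T.layer.top f hf hfix
  rw [comm_mul_right]
  refine mul_mem (T.center_le_zSyl (comm_symm_mem (hls x hx))) ?_
  have h1 := T.comm_N hodd hd hx
  rw [(show Commute l ⁅x, d⁆ from
    Subgroup.mem_centralizer_iff.1 h1.2 l (h.pCore_le_sylow (T.layer.le_core hl))).eq, mul_inv_cancel_right]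
  exact h1

/-- In odd characteristic the double commutator of `U` with `x` is central in `S`. -/
theorem comm_comm_U (hodd : p ≠ 2) {u : G} (hu : u ∈ U) {x : G} (hx : x ∈ (S : Subgroup G)) :
    ⁅x, ⁅x, u⁆⁆ ∈ zSyl S := by
  refine T.comm_top hodd ?_ (fun s hs => ?_) hx
  · rw [commutatorElement_def]
    exact mul_mem (T.layer.pair.norM.conj_mem u hu x) (inv_mem hu)
  · haveI := T.layer.pair.norN
    rw [← commutatorElement_inv u x]
    have h1 := T.layer.pair.quad u hu x hx s hs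
    rw [show ⁅⁅u, x⁆⁻¹, s⁆ = ⁅u, x⁆⁻¹ * ⁅⁅u, x⁆, s⁆⁻¹ * ⁅u, x⁆⁻¹⁻¹ by simp [commutatorElement_def, mul_assoc]]
    exact (inferInstance : N.Normal).conj_mem _ (inv_mem h1) _

/-- For `p ≥ 5` the double commutator of `U` with `x` is central in `G`. -/
theorem weight_U (h5 : 5 ≤ p) {u : G} (hu : u ∈ U) {x : G} (hx : x ∈ (S : Subgroup G))
    (hxQ : x ∉ pCore p G) : ⁅x, ⁅x, u⁆⁆ ∈ CC := by
  have hodd : p ≠ 2 := by omega
  haveI := T.layer.pair.norM
  haveI := charP_field h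
  have hl2 : (2 : ZMod p) ≠ 0 := by
    intro h0
    have := (ZMod.natCast_eq_zero_iff 2 p).1 (by exact_mod_cast h0) |> Nat.le_of_dvd (by norm_num)
    omega
  have hl : ((2 : ℕ) : F) ≠ 0 := fun h0 => by
    have := Nat.le_of_dvd (by norm_num) ((CharP.cast_eq_zero_iff F p 2).1 h0)
    omega
  obtain ⟨g, hgR, hg, hgx⟩ := exists_torus h T.upper T.surj T.lift T.ker 2 hl
  set κ := (p + 1) / 2 with hκ
  have hκ2 : κ * 2 = p + 1 := by
    obtain ⟨j, hj⟩ := hp.out.odd_of_ne_two hodd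
    omega
  have hκz : ((κ : ℕ) : ZMod p) * 2 = 1 := by
    have := congrArg (fun i : ℕ => (i : ZMod p)) hκ2
    push_cast at this
    rwa [ZMod.natCast_self, zero_add] at this
  have hκF : ((κ : ℕ) : F) * 2 = 1 := by
    have := congrArg (fun i : ℕ => (i : F)) hκ2
    push_cast at this
    rwa [CharP.cast_eq_zero F p, zero_add] at this
  have hzu := T.layer.pair.norM.conj_mem u hu g
  set f := (u ^ κ)⁻¹ * (g * u * g⁻¹) with hf'
  have hf : f ∈ U := mul_mem (inv_mem (pow_mem hu κ)) hzu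
  have hf1 : χ₂ f 1 = 0 := by
    have e := T.high.mul _ (pow_mem hu κ) f hf
    rw [hf', mul_inv_cancel_left, T.high.equiv g u hu, T.high.pow hu, hg] at e
    have e1 := congrFun e 1
    simp [diagT_coe, Matrix.mulVec, dotProduct, Fin.sum_univ_two] at e1
    have h2 : ((2 : F))⁻¹ = (κ : F) := (eq_inv_of_mul_eq_one_left hκF).symm
    rw [h2] at e1
    exact left_eq_add.1 e1
  have hfx : ⁅x, f⁆ ∈ zSyl S := by
    refine T.comm_top hodd hf (fun s hs => ?_) hx
    obtain ⟨a, ha⟩ := rho_sylow h T.upper T.lift hs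
    exact T.high.fixed_of_snd_zero hf ha hf1
  set φ := QuotientGroup.mk' CC with hφ
  have hcU : ∀ v ∈ U, ⁅x, v⁆ ∈ U := fun v hv => by
    rw [commutatorElement_def]; exact mul_mem (T.layer.pair.norM.conj_mem v hv x) (inv_mem hv)
  have had : ∀ a ∈ U, ∀ b ∈ U, φ ⁅x, a * b⁆ = φ ⁅x, a⁆ * φ ⁅x, b⁆ := fun a ha b hb => by
    rw [comm_mul_right, map_mul, map_mul, map_mul, map_inv,
      (show Commute (φ a) (φ ⁅x, b⁆) from commutatorElement_eq_one_iff_mul_comm.1 (by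
        rw [← map_commutatorElement]
        exact (QuotientGroup.eq_one_iff _).2 (T.abelian_U a ha _ (hcU b hb)))).eq, mul_inv_cancel_right]
  have hadp : ∀ a ∈ U, ∀ j : ℕ, φ ⁅x, a ^ j⁆ = φ ⁅x, a⁆ ^ j := fun a ha j => by
    induction j with
    | zero => rw [pow_zero, commutatorElement_one_right, map_one, pow_zero]
    | succ j ih => rw [pow_succ, had _ (pow_mem ha j) a ha, ih, pow_succ]
  have hkap : φ ⁅x, ⁅x, g * u * g⁻¹⁆⁆ = φ (⁅x, ⁅x, u⁆⁆ ^ κ) := by
    have e1 : φ ⁅x, g * u * g⁻¹⁆ = φ (⁅x, u⁆ ^ κ * ⁅x, f⁆) := by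
      rw [show g * u * g⁻¹ = u ^ κ * f by rw [hf', mul_inv_cancel_left], had _ (pow_mem hu κ) f hf, hadp u hu,
        map_mul, map_pow]
    rw [map_commutatorElement, e1, ← map_commutatorElement, had _ (pow_mem (hcU u hu) κ) _ (hcU f hf),
      hadp _ (hcU u hu), T.zSyl_comm hfx hx, map_one, mul_one, map_pow]
  refine weight_zero U CC T.abelian_U (2 * 2) (fun v hv => comm_symm_mem (T.layer.central v hv _ (hgx x hx)))
    hu ?_ 2 κ (T.torus_zSyl hl hg hx hxQ (T.comm_comm_U hodd hu hx)) hkap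
    (by rw [T.elem _ (T.comm_comm_U hodd hu hx)]; exact one_mem _) ?_
  · rw [T.zSyl_comm (T.comm_comm_U hodd hzu hx) hx]; exact one_mem _
  · intro e
    push_cast at e
    have h4 : ((2 : ℕ) : ZMod p) * (2 * 3) = 0 := by
      push_cast
      linear_combination (-2 : ZMod p) * e - 16 * hκz
    rcases mul_eq_zero.1 h4 with h6 | h6
    · exact hl2 (by exact_mod_cast h6)
    · rcases mul_eq_zero.1 h6 with h7 | h7
      · exact hl2 h7
      · have := Nat.le_of_dvd (by norm_num) ((ZMod.natCast_eq_zero_iff 3 p).1 (by exact_mod_cast h7))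
        omega

/-- For `p ≥ 5` no element of `S` acts cubically. -/
theorem weight_core (h5 : 5 ≤ p) {x y : G} (hx : x ∈ (S : Subgroup G)) (hy : y ∈ pCore p G)
    (hyc : ∀ q ∈ pCore p G, ⁅y, q⁆ ∈ CC) (hc : ⁅x, ⁅x, y⁆⁆ ∈ zSyl S) : ⁅x, ⁅x, y⁆⁆ ∈ CC := by
  haveI hUn := T.layer.pair.norM
  haveI hQn := pCore_normal p G
  haveI := charP_field h
  by_cases hxQ : x ∈ pCore p G
  · have h1 := comm_symm_mem (hyc x hxQ)
    rw [commute_comm_one (Subgroup.mem_center_iff.1 h1.2 x)]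
    exact one_mem _
  set φ := QuotientGroup.mk' CC with hφ
  have hnC : ∀ t : G, t ∈ Subgroup.normalizer ((CC : Subgroup G) : Set G) := fun t => by
    rw [Subgroup.normalizer_eq_top_iff.2 inferInstance]; trivial
  set M := fixMod (pCore p G) CC (pCore p G : Set G) with hM
  haveI hMn : M.Normal := ⟨fun u hu g => ⟨hQn.conj_mem u hu.1 g, hnC _, fun q hq => by
    have h1 := hu.2.2 (g⁻¹ * q * g) (by simpa using hQn.conj_mem q hq g⁻¹)
    rw [show ⁅g * u * g⁻¹, q⁆ = g * ⁅u, g⁻¹ * q * g⁆ * g⁻¹ by simp [commutatorElement_def, mul_assoc]]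
    exact (inferInstance : (CC).Normal).conj_mem _ h1 g⟩⟩
  have hyM : y ∈ M := ⟨hy, hnC y, hyc⟩
  have hUM : U ≤ M := fun u hu => ⟨T.layer.le_core hu, hnC u, T.layer.central u hu⟩
  have hab : ∀ u ∈ M, ∀ v ∈ M, ⁅u, v⁆ ∈ CC := fun u hu v hv => hu.2.2 v hv.1
  obtain ⟨l, hl, hl3⟩ : ∃ l : ℕ, (l : F) ≠ 0 ∧ (l : ZMod p) ≠ ((l * l : ℕ) : ZMod p) ^ 2 := by
    have key : ∀ l : ℕ, 0 < l → l < p → ¬ p ∣ l ^ 3 - 1 → 1 ≤ l ^ 3 →
        (l : F) ≠ 0 ∧ (l : ZMod p) ≠ ((l * l : ℕ) : ZMod p) ^ 2 := by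
      intro l h0 hlp hd h1
      refine ⟨fun hh => absurd (Nat.le_of_dvd h0 ((CharP.cast_eq_zero_iff F p l).1 hh)) (by omega), fun e => hd ?_⟩
      have hlz : (l : ZMod p) ≠ 0 := fun hh =>
        absurd (Nat.le_of_dvd h0 ((ZMod.natCast_eq_zero_iff l p).1 hh)) (by omega)
      rw [← ZMod.natCast_eq_zero_iff, Nat.cast_sub h1, sub_eq_zero]
      push_cast at e ⊢
      apply mul_left_cancel₀ hlz
      linear_combination -e
    by_cases h7 : p = 7
    · subst h7; exact ⟨3, key 3 (by norm_num) (by norm_num) (by norm_num) (by norm_num)⟩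
    · refine ⟨2, key 2 (by norm_num) (by omega) (fun hd => h7 ?_) (by norm_num)⟩
      exact (Nat.prime_dvd_prime_iff_eq hp.out (by norm_num : Nat.Prime 7)).1 (by simpa using hd)
  obtain ⟨g, hgR, hg, hgx⟩ := exists_torus h T.upper T.surj T.lift T.ker l hl
  set v := y⁻¹ * (g * y * g⁻¹) with hv'
  have hv : v ∈ U := by
    have := T.layer.residual y⁻¹ (inv_mem hy) g hgR
    simpa [commutatorElement_def, hv', mul_assoc] using this
  have hcM : ∀ w ∈ M, ⁅x, w⁆ ∈ M := fun w hw => by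
    rw [commutatorElement_def]; exact mul_mem (hMn.conj_mem w hw x) (inv_mem hw)
  have had : ∀ a ∈ M, ∀ b ∈ M, φ ⁅x, a * b⁆ = φ ⁅x, a⁆ * φ ⁅x, b⁆ := fun a ha b hb => by
    rw [comm_mul_right, map_mul, map_mul, map_mul, map_inv,
      (show Commute (φ a) (φ ⁅x, b⁆) from commutatorElement_eq_one_iff_mul_comm.1 (by
        rw [← map_commutatorElement]
        exact (QuotientGroup.eq_one_iff _).2 (hab a ha _ (hcM b hb)))).eq, mul_inv_cancel_right]
  have hkap : φ ⁅x, ⁅x, g * y * g⁻¹⁆⁆ = φ ⁅x, ⁅x, y⁆⁆ := by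
    rw [map_commutatorElement, show g * y * g⁻¹ = y * v by rw [hv', mul_inv_cancel_left],
      had y hyM v (hUM hv), ← map_mul, ← map_commutatorElement, had _ (hcM y hyM) _ (hcM v (hUM hv)),
      show φ ⁅x, ⁅x, v⁆⁆ = 1 from (QuotientGroup.eq_one_iff _).2 (T.weight_U h5 hv hx hxQ), mul_one]
  refine weight_zero M CC hab (l * l) (fun w hw => comm_symm_mem (hw.2.2 _ (hgx x hx))) hyM ?_ l 1
    (T.torus_zSyl hl hg hx hxQ hc) (by rw [hkap, pow_one]) (by rw [T.elem _ hc]; exact one_mem _)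
    (by rw [Nat.cast_one, mul_one]; exact hl3)
  refine (QuotientGroup.eq_one_iff _).1 ?_
  show φ ⁅x, ⁅x, ⁅x, g * y * g⁻¹⁆⁆⁆ = 1
  rw [map_commutatorElement, hkap, ← map_commutatorElement, T.zSyl_comm hc hx, map_one]

end TwoCtx

end CfsgLib.PushingUp44
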