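import Cfsg.Agent.PushingUp44.Conj

/-!
An axiomatic setting for pushing up: finitely many groups `G i` sharing a Sylow subgroup `S` inside one
finite ambient group, with the normalizer of `S` playing the automorphism group of `S`.
-/

set_option autoImplicit false

open scoped commutatorElement

namespace CfsgLib.PushingUp44

/-- The data of a pushing up configuration. -/
structure Conf (Γ : Type*) [Group Γ] (ι : Type*) where
  p : ℕ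
  q : ℕ
  S : Subgroup Γ
  G : ι → Subgroup Γ
  Q : ι → Subgroup Γ
  V : ι → Subgroup Γ
  M : ι → Subgroup Γ
  base : ι
  one_lt : 1 < q
  le_G : ∀ i, S ≤ G i
  Q_le : ∀ i, Q i ≤ S
  V_le : ∀ i, V i ≤ Q i
  M_le : ∀ i, M i ≤ G i
  exists_not_mem : ∀ i, ∃ g ∈ G i, g ∉ M i
  normQ : ∀ i, G i ≤ Subgroup.normalizer (Q i : Set Γ)
  normV : ∀ i, G i ≤ Subgroup.normalizer (V i : Set Γ)
  commVQ : ∀ i, Q i ≤ Subgroup.centralizer (V i : Set Γ)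
  elem : ∀ i, ∀ v ∈ V i, v ^ p = 1
  center_eq : ∀ i, S ⊓ Subgroup.centralizer (S : Set Γ) = V i ⊓ Subgroup.centralizer (S : Set Γ)
  bound : ∀ i, ∀ a ∈ S, a ∉ Q i → q ≤ (V i ⊓ Subgroup.centralizer ({a} : Set Γ)).relIndex (V i)
  card_le : ∀ i, (Q i).relIndex S ≤ q
  gen : ∀ i, ∀ g ∈ G i, g ∉ M i → S ⊔ cj g S = G i
  ti : ∀ i, ∀ g ∈ G i, g ∉ M i → cj g S ⊓ M i ≤ Q i
  S_le_M : ∀ i, S ≤ M i
  stab : ∀ i, ¬ ⁅V i, S⁆ ≤ Subgroup.centralizer (G i : Set Γ)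

namespace Conf

variable {Γ : Type*} [Group Γ] {ι : Type*} (c : Conf Γ ι)

/-- Vertices. -/
abbrev Vtx (_c : Conf Γ ι) : Type _ := ι × Γ

def Gx (v : c.Vtx) : Subgroup Γ := cj v.2 (c.G v.1)
def Qx (v : c.Vtx) : Subgroup Γ := cj v.2 (c.Q v.1)
def Vx (v : c.Vtx) : Subgroup Γ := cj v.2 (c.V v.1)
def Cx (v : c.Vtx) : Subgroup Γ := Subgroup.centralizer (c.Gx v : Set Γ)

/-- `E` is a distinguished Sylow subgroup at the vertex `v`. -/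
def Syl (v : c.Vtx) (E : Subgroup Γ) : Prop := ∃ g, v.2⁻¹ * g ∈ c.G v.1 ∧ E = cj g c.S

/-- The centre of an edge group. -/
def Zc (E : Subgroup Γ) : Subgroup Γ := E ⊓ Subgroup.centralizer (E : Set Γ)

theorem Vx_le_Qx (v : c.Vtx) : c.Vx v ≤ c.Qx v := cj_mono _ (c.V_le _)

theorem Qx_le_centralizer (v : c.Vtx) : c.Qx v ≤ Subgroup.centralizer (c.Vx v : Set Γ) := by
  unfold Qx Vx
  rw [← cj_centralizer]
  exact cj_mono _ (c.commVQ _)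

theorem commute_Vx {v : c.Vtx} {a b : Γ} (ha : a ∈ c.Vx v) (hb : b ∈ c.Qx v) : Commute a b :=
  (commute_of_le_centralizer (c.Qx_le_centralizer v) hb ha).symm

theorem Vx_comm (v : c.Vtx) : c.Vx v ≤ Subgroup.centralizer (c.Vx v : Set Γ) :=
  (c.Vx_le_Qx v).trans (c.Qx_le_centralizer v)

theorem Vx_elem {v : c.Vtx} {a : Γ} (ha : a ∈ c.Vx v) : a ^ c.p = 1 := by
  have h := c.elem v.1 _ (mem_cj.1 ha)
  have h2 : (v.2⁻¹ * a * v.2) ^ c.p = v.2⁻¹ * a ^ c.p * v.2 := by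
    conv_lhs => rw [show v.2⁻¹ * a * v.2 = v.2⁻¹ * a * v.2⁻¹⁻¹ by rw [inv_inv], conj_pow, inv_inv]
  rw [h2] at h
  calc a ^ c.p = v.2 * (v.2⁻¹ * a ^ c.p * v.2) * v.2⁻¹ := by group
    _ = 1 := by rw [h]; group

theorem cj_G_eq {i : ι} {g : Γ} (hg : g ∈ c.G i) : cj g (c.G i) = c.G i :=
  cj_eq_of_le_normalizer (Subgroup.le_normalizer hg)

theorem cj_Q_eq {i : ι} {g : Γ} (hg : g ∈ c.G i) : cj g (c.Q i) = c.Q i :=
  cj_eq_of_le_normalizer (c.normQ i hg)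

theorem cj_V_eq {i : ι} {g : Γ} (hg : g ∈ c.G i) : cj g (c.V i) = c.V i :=
  cj_eq_of_le_normalizer (c.normV i hg)

section rep

variable {v : c.Vtx} {g : Γ}

theorem Gx_eq (hg : v.2⁻¹ * g ∈ c.G v.1) : c.Gx v = cj g (c.G v.1) := by
  rw [Gx]; conv_lhs => rw [← c.cj_G_eq hg, cj_cj, mul_inv_cancel_left]

theorem Qx_eq (hg : v.2⁻¹ * g ∈ c.G v.1) : c.Qx v = cj g (c.Q v.1) := by
  rw [Qx]; conv_lhs => rw [← c.cj_Q_eq hg, cj_cj, mul_inv_cancel_left]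

theorem Vx_eq (hg : v.2⁻¹ * g ∈ c.G v.1) : c.Vx v = cj g (c.V v.1) := by
  rw [Vx]; conv_lhs => rw [← c.cj_V_eq hg, cj_cj, mul_inv_cancel_left]

end rep

theorem Syl.cj_eq {v : c.Vtx} {E : Subgroup Γ} (h : c.Syl v E) {x : Γ} (hx : x ∈ c.Gx v) :
    c.Syl v (cj x E) := by
  obtain ⟨g, hg, rfl⟩ := h
  refine ⟨x * g, ?_, cj_cj _ _ _⟩
  rw [show v.2⁻¹ * (x * g) = v.2⁻¹ * x * v.2 * (v.2⁻¹ * g) by group]
  exact mul_mem (mem_cj.1 hx) hg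

section syl

variable {v : c.Vtx} {E : Subgroup Γ} (h : c.Syl v E)
include h

theorem syl_le_Gx : E ≤ c.Gx v := by
  obtain ⟨g, hg, rfl⟩ := h
  rw [c.Gx_eq hg]; exact cj_mono _ (c.le_G _)

theorem Qx_le_syl : c.Qx v ≤ E := by
  obtain ⟨g, hg, rfl⟩ := h
  rw [c.Qx_eq hg]; exact cj_mono _ (c.Q_le _)

theorem Vx_le_syl : c.Vx v ≤ E := (c.Vx_le_Qx v).trans (c.Qx_le_syl h)

theorem syl_bound {a : Γ} (ha : a ∈ E) (haQ : a ∉ c.Qx v) :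
    c.q ≤ (c.Vx v ⊓ Subgroup.centralizer ({a} : Set Γ)).relIndex (c.Vx v) := by
  obtain ⟨g, hg, rfl⟩ := h
  rw [c.Qx_eq hg, mem_cj] at haQ
  have h1 := c.bound v.1 _ (mem_cj.1 ha) haQ
  rw [← relIndex_cj g, cj_inf, cj_centralizer_singleton, ← c.Vx_eq hg,
    show g * (g⁻¹ * a * g) * g⁻¹ = a by group] at h1
  exact h1

theorem syl_card : (c.Qx v).relIndex E ≤ c.q := by
  obtain ⟨g, hg, rfl⟩ := h
  rw [c.Qx_eq hg, relIndex_cj]; exact c.card_le _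

theorem syl_stab : ¬ ⁅c.Vx v, E⁆ ≤ c.Cx v := by
  obtain ⟨g, hg, rfl⟩ := h
  rw [Cx, c.Vx_eq hg, c.Gx_eq hg, ← cj_centralizer, ← cj_commutator, cj_le_cj]
  exact c.stab _

theorem Zc_eq : Zc E = c.Vx v ⊓ Subgroup.centralizer (E : Set Γ) := by
  obtain ⟨g, hg, rfl⟩ := h
  rw [Zc, ← cj_centralizer, c.Vx_eq hg, ← cj_inf, ← cj_inf, c.center_eq]

theorem Zc_le_Vx : Zc E ≤ c.Vx v := (c.Zc_eq h).trans_le inf_le_left

/-- Some other Sylow subgroup generates the vertex group together with `E`. -/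
theorem exists_opp : ∃ E', c.Syl v E' ∧ E ⊔ E' = c.Gx v := by
  obtain ⟨g, hg, rfl⟩ := h
  obtain ⟨t, ht, htM⟩ := c.exists_not_mem v.1
  refine ⟨cj (g * t) c.S, ⟨g * t, ?_, rfl⟩, ?_⟩
  · rw [← mul_assoc]; exact mul_mem hg ht
  · rw [← cj_cj, ← cj_sup, c.gen v.1 t ht htM, c.Gx_eq hg]

/-- An element of an opposite Sylow subgroup outside `O_p` moves `E` to an opposite one. -/
theorem opp_cj {E' : Subgroup Γ} (h' : c.Syl v E') (hopp : E ⊔ E' = c.Gx v) {x : Γ} (hx : x ∈ E')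
    (hxQ : x ∉ c.Qx v) : E ⊔ cj x E = c.Gx v := by
  refine le_antisymm (sup_le (c.syl_le_Gx h)
    (c.syl_le_Gx (Syl.cj_eq c h (c.syl_le_Gx h' hx)))) ?_
  obtain ⟨g, hg, rfl⟩ := h
  obtain ⟨g', hg', rfl⟩ := h'
  set t := g⁻¹ * g' with ht
  have htG : t ∈ c.G v.1 := by
    rw [show t = (v.2⁻¹ * g)⁻¹ * (v.2⁻¹ * g') by rw [ht]; group]
    exact mul_mem (inv_mem hg) hg'
  have htM : t ∉ c.M v.1 := by
    intro htM
    obtain ⟨u, hu, huM⟩ := c.exists_not_mem v.1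
    apply huM
    have h1 : cj g c.S ⊔ cj g' c.S ≤ cj g (c.M v.1) := by
      refine sup_le (cj_mono _ (c.S_le_M _)) ?_
      rw [show g' = g * t by rw [ht]; group, ← cj_cj, cj_le_cj]
      exact (cj_mono _ (c.S_le_M _)).trans_eq (cj_eq_of_le_normalizer (Subgroup.le_normalizer htM))
    rw [hopp, c.Gx_eq hg, cj_le_cj] at h1
    exact h1 hu
  set s := g⁻¹ * x * g with hs
  have hs' : s ∈ cj t c.S := by
    rw [mem_cj, hs, ht, show (g⁻¹ * g')⁻¹ * (g⁻¹ * x * g) * (g⁻¹ * g') = g'⁻¹ * x * g' by group]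
    exact mem_cj.1 hx
  have hsM : s ∉ c.M v.1 := fun hsM => hxQ (by
    rw [c.Qx_eq hg, mem_cj]; exact c.ti v.1 t htG htM ⟨hs', hsM⟩)
  have hsG : s ∈ c.G v.1 := (cj_mono t (c.le_G v.1)).trans_eq (c.cj_G_eq htG) hs'
  rw [cj_cj, show x * g = g * s by rw [hs]; group, ← cj_cj, ← cj_sup, c.gen v.1 s hsG hsM, c.Gx_eq hg]

theorem sup_zpowers {E' : Subgroup Γ} (h' : c.Syl v E') (hopp : E ⊔ E' = c.Gx v) {y : Γ} (hy : y ∈ E')
    (hyQ : y ∉ c.Qx v) : E ⊔ Subgroup.zpowers y = c.Gx v := by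
  refine le_antisymm (sup_le (c.syl_le_Gx h) (Subgroup.zpowers_le.2 (c.syl_le_Gx h' hy))) ?_
  rw [← c.opp_cj h h' hopp hy hyQ]
  refine sup_le le_sup_left fun z hz => ?_
  have hy' : y ∈ E ⊔ Subgroup.zpowers y := Subgroup.mem_sup_right (Subgroup.mem_zpowers y)
  have h1 : y⁻¹ * z * y ∈ E ⊔ Subgroup.zpowers y := Subgroup.mem_sup_left (mem_cj.1 hz)
  simpa [mul_assoc] using mul_mem (mul_mem hy' h1) (inv_mem hy')

end syl

end Conf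

end CfsgLib.PushingUp44
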