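import Cfsg.Agent.PushingUp44.Layers
import Cfsg.Agent.PushingUp44.Main
import Cfsg.Agent.Eq.Def_PLocal

/-!
Pushing up in rank one: the quotient by the core and the noncentral chief factors inside it.
-/

set_option autoImplicit false

open Cfsg
open scoped MatrixGroups commutatorElement

namespace CfsgLib.PushingUp44

open CfsgLib.PushingUp (Hyp)

variable {G : Type*} [Group G] [Finite G] {p : ℕ} [hp : Fact p.Prime]

omit [Finite G] hp in
theorem iterCommutator_le_lowerCentral {U T : Subgroup G} (h : U ≤ T) (i : ℕ) :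
    iterCommutator U T i ≤ T.lowerCentralSeries i := by
  induction i with
  | zero => exact h
  | succ i ih => exact Subgroup.commutator_mono ih le_rfl

theorem exists_iterCommutator_eq_bot (S : Sylow p G) {U : Subgroup G} (h : U ≤ (S : Subgroup G)) :
    ∃ k, iterCommutator U (S : Subgroup G) k = ⊥ := by
  obtain ⟨k, hk⟩ := (Subgroup.isNilpotent_iff_lowerCentralSeries _).1
    (S.isPGroup'.isNilpotent : Group.IsNilpotent ↥(S : Subgroup G))
  exact ⟨k, le_bot_iff.1 (hk ▸ iterCommutator_le_lowerCentral h k)⟩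

variable {F : Type*} [Field F] [Fintype F] {S : Sylow p G}
  {π : G →* Matrix.ProjectiveSpecialLinearGroup (Fin 2) F} {n : ℕ}

/-- A chief factor in the core centralised by the elements of order prime to `p` is central. -/
theorem central_of_residual (h : Hyp S π n) {U W : Subgroup G} (hUQ : U ≤ pCore p G) (hch : IsChiefFactor U W)
    (hR : ∀ u ∈ U, ∀ x ∈ pResidual p G, ⁅u, x⁆ ∈ W) : ∀ u ∈ U, ∀ g : G, ⁅u, g⁆ ∈ W := by
  obtain ⟨hlt, hUn, hWn, hmin⟩ := hch
  haveI := hUn
  haveI := hWn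
  haveI := normal_pResidual (G := G) (p := p)
  have hnorm : ∀ x : G, x ∈ Subgroup.normalizer (W : Set G) := fun x => by
    rw [Subgroup.normalizer_eq_top_iff.2 hWn]; trivial
  set T := fixMod U W ((S : Subgroup G) : Set G) with hT
  have htop : pResidual p G ⊔ (S : Subgroup G) = ⊤ :=
    sup_sylow_eq_top_of_pPower S _ exists_pow_mem_pResidual
  have hfix : ∀ u ∈ T, ∀ g : G, ⁅u, g⁆ ∈ W := by
    intro u hu g
    have h1 : u ∈ fixMod U W ((pResidual p G ⊔ (S : Subgroup G) : Subgroup G) : Set G) :=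
      mem_fixMod_sup (fun x _ => hnorm x) (fun x _ => hnorm x) ⟨hu.1, hnorm u, fun x hx => hR u hu.1 x hx⟩ hu
    exact h1.2.2 g (by rw [htop]; trivial)
  have hWT : W ≤ T := fun w hw => ⟨hlt.le hw, hnorm w, fun s _ => by
    rw [show ⁅w, s⁆ = w * (s * w⁻¹ * s⁻¹) by simp [commutatorElement_def, mul_assoc]]
    exact mul_mem hw (hWn.conj_mem _ (inv_mem hw) s)⟩
  have hTn : T.Normal := ⟨fun u hu g => by
    have h1 : g * u * g⁻¹ = u * (⁅u⁻¹, g⁆) := by simp [commutatorElement_def, mul_assoc]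
    rw [h1]
    exact mul_mem hu (hWT (hfix _ (inv_mem hu) g))⟩
  rcases hmin T hTn hWT (fixMod_le _ _ _) with hTW | hTU
  · exfalso
    obtain ⟨k, hk⟩ := exists_iterCommutator_eq_bot S (hUQ.trans h.pCore_le_sylow)
    have hsub : ∀ i, iterCommutator U (S : Subgroup G) i ≤ U := by
      intro i
      induction i with
      | zero => exact le_rfl
      | succ i ih =>
        exact (Subgroup.commutator_mono ih le_rfl).trans (Subgroup.commutator_le_left _ _)
    have key : ∀ i, iterCommutator U (S : Subgroup G) i ≤ W → U ≤ W := by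
      intro i
      induction i with
      | zero => exact id
      | succ i ih =>
        intro hle
        refine ih fun u hu => hTW ▸ ⟨hsub i hu, hnorm u, fun s hs => ?_⟩
        exact hle (Subgroup.commutator_mem_commutator hu hs)
    exact hlt.not_ge (key k (hk.trans_le bot_le))
  · exact fun u hu => hfix u (hTU.symm ▸ hu)

theorem isPGroup_pCore' : IsPGroup p (pCore p G) := CfsgLib.LocalP.isPGroup_pCore

/-- An element of order prime to `p` centralising the layers below `a`. -/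
theorem commute_step {N : Subgroup G} (hNQ : N ≤ pCore p G) {x : G} (hx : Nat.Coprime (orderOf x) p)
    (hN : ∀ v ∈ N, Commute v x) {a : G} (ha : ⁅a, x⁆ ∈ N) : Commute a x := by
  obtain ⟨k, hk⟩ := isPGroup_pCore' (G := G) (p := p) ⟨_, hNQ ha⟩
  exact commute_of_coprime_comm hx (hN _ ha) ⟨k, congrArg Subtype.val hk⟩

/-- The kernel of the representation on the module is the core. -/
theorem ker_eq_pCore (h : Hyp S π n) {ρ : G →* SL(2, F)}
    (hker : ∀ x, x ∈ ρ.ker ↔ ∀ u ∈ vSyl S, ⁅x, u⁆ ∈ vSyl S ⊓ Subgroup.center G)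
    (hQ : ∀ x ∈ ρ.ker, Nat.Coprime (orderOf x) p → (∀ v ∈ vSyl S, Commute v x) →
      ∀ q ∈ pCore p G, Commute q x) : ρ.ker = pCore p G := by
  haveI := pCore_normal p G
  refine le_antisymm ?_ fun x hx => (hker x).2 fun u hu => ?_
  · refine CfsgLib.LocalP.le_pCore inferInstance (CfsgLib.LocalP.isPGroup_of_forall_coprime _ fun x hx hcop => ?_)
    refine CfsgLib.LocalP.eq_one_of_centralizes_pCore h.cent hcop fun q hq => ?_
    refine (hQ x hx hcop (fun v hv => ?_) q hq).symm.eq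
    refine commute_step (N := vSyl S ⊓ Subgroup.center G) (inf_le_left.trans ((vSyl_le h).trans inf_le_left))
      hcop (fun c hc => (Subgroup.mem_center_iff.1 hc.2 x).symm) (comm_symm_mem ((hker x).1 hx v hv))
  · rw [commute_comm_one (Subgroup.mem_centralizer_iff.1 ((vSyl_le h) hu).2 x hx)]
    exact one_mem _

/-- A noncentral chief factor is covered by one of the layers. -/
theorem chief_transfer {M N : Subgroup G} (P : QuadPair S n M N) (h : Hyp S π n)
    (hU₀ : (S : Subgroup G).map π = upperSub F) {U W : Subgroup G} [W.Normal] (hch : IsChiefFactor U W)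
    (hne : ¬ ∀ u ∈ U, ∀ g : G, ⁅u, g⁆ ∈ W) (hUM : ¬ U ⊓ M ≤ W) (hUN : U ⊓ N ≤ W) :
    IsNaturalSL2Module F (U.map (QuotientGroup.mk' W)) (⊤ : Subgroup (G ⧸ W)) := by
  obtain ⟨hlt, hUn, hWn, hmin⟩ := hch
  haveI := hUn
  haveI := P.norM
  have hsup : U ≤ (U ⊓ M) ⊔ W := by
    rcases hmin ((U ⊓ M) ⊔ W) inferInstance le_sup_right (sup_le inf_le_left hlt.le) with e | e
    · exact absurd (le_sup_left.trans_eq e) hUM
    · exact e.ge
  have hno : ∀ u ∈ U, (∀ g : G, ⁅u, g⁆ ∈ W) → u ∈ W := by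
    set T := fixMod U W (Set.univ : Set G) with hT
    have hnorm : ∀ x : G, x ∈ Subgroup.normalizer (W : Set G) := fun x => by
      rw [Subgroup.normalizer_eq_top_iff.2 hWn]; trivial
    have hWT : W ≤ T := fun w hw => ⟨hlt.le hw, hnorm w, fun s _ => by
      rw [show ⁅w, s⁆ = w * (s * w⁻¹ * s⁻¹) by simp [commutatorElement_def, mul_assoc]]
      exact mul_mem hw (hWn.conj_mem _ (inv_mem hw) s)⟩
    have hTn : T.Normal := ⟨fun u hu g => by
      rw [show g * u * g⁻¹ = u * ⁅u⁻¹, g⁆ by simp [commutatorElement_def, mul_assoc]]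
      exact mul_mem hu (hWT ((inv_mem hu).2.2 g trivial))⟩
    rcases hmin T hTn hWT (fixMod_le _ _ _) with e | e
    · exact fun u hu hu' => e ▸ ⟨hu, hnorm u, fun g _ => hu' g⟩
    · exact absurd (fun u hu g => (e.symm ▸ hu : u ∈ T).2.2 g trivial) hne
  obtain ⟨ρ, -, -, -, hnat, -, -⟩ :=
    (P.transfer hlt.le hsup hUN hno (fun hle => hlt.not_ge hle)).exists_rho h hU₀
  exact hnat

omit [Finite G] hp in
/-- A part of a chief factor fixed modulo `W` lies in `W`. -/
theorem inf_le_of_fixed {U W N : Subgroup G} [hWn : W.Normal] [N.Normal] (hch : IsChiefFactor U W)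
    (hne : ¬ ∀ u ∈ U, ∀ g : G, ⁅u, g⁆ ∈ W) (hfix : ∀ u ∈ U ⊓ N, ∀ g : G, ⁅u, g⁆ ∈ W) : U ⊓ N ≤ W := by
  obtain ⟨hlt, hUn, -, hmin⟩ := hch
  haveI := hUn
  rcases hmin ((U ⊓ N) ⊔ W) inferInstance le_sup_right (sup_le inf_le_left hlt.le) with e | e
  · exact le_sup_left.trans_eq e
  · refine absurd (fun u hu g => ?_) hne
    obtain ⟨m, hm, w, hw, rfl⟩ := exists_mul_of_mem_sup
      (by rw [Subgroup.normalizer_eq_top_iff.2 hWn]; exact le_top) (e.ge hu)
    rw [comm_mul_left]
    refine mul_mem (hWn.conj_mem _ ?_ m) (hfix m hm g)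
    rw [show ⁅w, g⁆ = w * (g * w⁻¹ * g⁻¹) by simp [commutatorElement_def, mul_assoc]]
    exact mul_mem hw (hWn.conj_mem _ (inv_mem hw) g)

/-- The quotient by the core, and the noncentral chief factors inside it. -/
theorem quotient_and_factors (h : Hyp S π n) (hU₀ : (S : Subgroup G).map π = upperSub F)
    (hel : ∀ z ∈ zSyl S, z ^ p = 1) (hnc : ¬ zSyl S ≤ Subgroup.center G)
    (hno : ∀ W : Subgroup G, W ≤ (S : Subgroup G) → W.Normal → W ≠ ⊥ →
      ¬ (W.subgroupOf (S : Subgroup G)).Characteristic) :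
    Nonempty (G ⧸ pCore p G ≃* SL(2, F)) ∧
      ∀ (U W : Subgroup G) [W.Normal], U ≤ pCore p G → IsChiefFactor U W →
        ¬ ⁅U, (⊤ : Subgroup G)⁆ ≤ W →
          IsNaturalSL2Module F (U.map (QuotientGroup.mk' W)) (⊤ : Subgroup (G ⧸ W)) := by
  haveI := pCore_normal p G
  have ho := conf_open h hel hnc hno
  obtain ⟨k, hk⟩ := Conf.exists_isB _ ho
  have P₁ := quadPair_vSyl hk ho
  obtain ⟨ρ, hρs, hρπ, hker, -, -⟩ := P₁.exists_rho h hU₀
  have hVQ : vSyl S ≤ pCore p G := (vSyl_le h).trans inf_le_left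
  have hmain : (∀ x ∈ ρ.ker, Nat.Coprime (orderOf x) p → (∀ v ∈ vSyl S, Commute v x) →
      ∀ q ∈ pCore p G, Commute q x) ∧
      ∀ (U W : Subgroup G) [W.Normal], U ≤ pCore p G → IsChiefFactor U W →
        ¬ ⁅U, (⊤ : Subgroup G)⁆ ≤ W →
          IsNaturalSL2Module F (U.map (QuotientGroup.mk' W)) (⊤ : Subgroup (G ⧸ W)) := by
    have hcen : ∀ {U W : Subgroup G} [W.Normal], ∀ u ∈ U ⊓ (vSyl S ⊓ Subgroup.center G), ∀ g : G,
        ⁅u, g⁆ ∈ W := fun {U W} _ u hu g => by
      rw [commute_comm_one (Subgroup.mem_center_iff.1 hu.2.2 g).symm]; exact one_mem _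
    have hUG : ∀ {U W : Subgroup G}, ¬ ⁅U, (⊤ : Subgroup G)⁆ ≤ W → ¬ ∀ u ∈ U, ∀ g : G, ⁅u, g⁆ ∈ W :=
      fun hne hall => hne (Subgroup.commutator_le.2 fun u hu g _ => hall u hu g)
    obtain rfl | rfl : k = 1 ∨ k = 2 := by have := hk.pos; have := hk.le_two ho; omega
    · have hlay := layer_one hk ho
      refine ⟨fun x _ hcop hV q hq => commute_step hVQ hcop hV (hlay q hq x (mem_pResidual hcop)), ?_⟩
      intro U W _ hUQ hch hne
      refine chief_transfer P₁ h hU₀ hch (hUG hne) (fun hle => hUG hne ?_)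
        (inf_le_of_fixed hch (hUG hne) hcen)
      refine central_of_residual h hUQ hch fun u hu x hx => hle ⟨?_, hlay u (hUQ hu) x hx⟩
      rw [show ⁅u, x⁆ = u * (x * u⁻¹ * x⁻¹) by simp [commutatorElement_def, mul_assoc]]
      exact mul_mem hu (hch.2.1.conj_mem _ (inv_mem hu) x)
    · obtain ⟨U₂, N₂, P₂, hVN, hU₂Q, hN₂, hlay, -, -⟩ := exists_layer_two hk ho
      obtain ⟨ρ₂, -, hρ₂π, hker₂, -, -⟩ := P₂.exists_rho h hU₀
      obtain rfl := QuadPair.lifts_eq h hρ₂π hρπ
      refine ⟨fun x hx hcop hV q hq => ?_, ?_⟩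
      · have hN : ∀ v ∈ N₂, Commute v x := fun v hv => commute_step hVQ hcop hV (hN₂ v hv x)
        have hU : ∀ v ∈ U₂, Commute v x := fun v hv =>
          commute_step (P₂.le.trans hU₂Q) hcop hN (comm_symm_mem ((hker₂ x).1 hx v hv))
        exact commute_step hU₂Q hcop hU (hlay q hq x (mem_pResidual hcop))
      intro U W _ hUQ hch hne
      have hUc : ∀ u ∈ U, ∀ y : G, ⁅u, y⁆ ∈ U := fun u hu y => by
        rw [show ⁅u, y⁆ = u * (y * u⁻¹ * y⁻¹) by simp [commutatorElement_def, mul_assoc]]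
        exact mul_mem hu (hch.2.1.conj_mem _ (inv_mem hu) y)
      by_cases hV : U ⊓ vSyl S ≤ W
      · haveI := P₂.norN
        refine chief_transfer P₂ h hU₀ hch (hUG hne) (fun hle => hUG hne ?_)
          (inf_le_of_fixed hch (hUG hne) fun u hu g => hV ⟨hUc u hu.1 g, hN₂ u hu.2 g⟩)
        exact central_of_residual h hUQ hch fun u hu x hx => hle ⟨hUc u hu x, hlay u (hUQ hu) x hx⟩
      · exact chief_transfer P₁ h hU₀ hch (hUG hne) hV (inf_le_of_fixed hch (hUG hne) hcen)
  have hρ : ρ.ker = pCore p G := ker_eq_pCore h hker hmain.1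
  exact ⟨⟨(QuotientGroup.quotientMulEquivOfEq hρ.symm).trans (QuotientGroup.quotientKerEquivOfSurjective ρ hρs)⟩,
    hmain.2⟩

/-- Conjugate the given projection so that `S` maps to the upper unitriangular subgroup. -/
theorem exists_hyp_upper (hcent : Subgroup.centralizer (pCore p G : Set G) ≤ pCore p G)
    (huniq : ∃! M : Subgroup G, IsCoatom M ∧ (S : Subgroup G) ≤ M) (K : Subgroup G) [K.Normal]
    (hn : 1 ≤ n) (hF : Fintype.card F = p ^ n)
    (he : Nonempty (G ⧸ K ≃* Matrix.ProjectiveSpecialLinearGroup (Fin 2) F)) :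
    ∃ π : G →* Matrix.ProjectiveSpecialLinearGroup (Fin 2) F,
      Hyp S π n ∧ (S : Subgroup G).map π = upperSub F := by
  obtain ⟨e⟩ := he
  set π₀ := e.toMonoidHom.comp (QuotientGroup.mk' K) with hπ₀
  have hs : Function.Surjective π₀ := e.surjective.comp (QuotientGroup.mk'_surjective K)
  obtain ⟨x, hx⟩ := coe_eq_cj_upperSub hn hF (S.mapSurjective hs)
  rw [Sylow.coe_mapSurjective] at hx
  refine ⟨(MulAut.conj x⁻¹).toMonoidHom.comp π₀,
    ⟨hcent, huniq, hn, hF, (MulAut.conj x⁻¹).surjective.comp hs⟩, ?_⟩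
  rw [← Subgroup.map_map, hx]
  exact cj_inv_cj x _

/-- No characteristic subgroup of `S` is normal: consequences for the centre. -/
theorem of_no_char (h : Hyp S π n)
    (hd : ∀ T : Subgroup ↥(S : Subgroup G), T ≠ ⊥ → T.Characteristic →
      ¬ (T.map (S : Subgroup G).subtype).Normal) :
    (∀ z ∈ zSyl S, z ^ p = 1) ∧ ¬ zSyl S ≤ Subgroup.center G ∧
      ∀ W : Subgroup G, W ≤ (S : Subgroup G) → W.Normal → W ≠ ⊥ →
        ¬ (W.subgroupOf (S : Subgroup G)).Characteristic := by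
  haveI : Nontrivial ↥(S : Subgroup G) :=
    (Subgroup.nontrivial_iff_ne_bot _).2 fun h0 => h.not_sylow_le_pCore (h0.le.trans bot_le)
  have hZne : Subgroup.center ↥(S : Subgroup G) ≠ ⊥ :=
    (Subgroup.nontrivial_iff_ne_bot _).1 S.isPGroup'.center_nontrivial
  refine ⟨fun z hz => ?_, fun hle => ?_, fun W hW hWn hne hc => ?_⟩
  · by_contra hz2
    rcases h.power_case with hN | hN
    · have e1 : powerClosure p 1 (zSyl S) =
          (powerClosure p 1 (Subgroup.center ↥(S : Subgroup G))).map (S : Subgroup G).subtype := by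
        rw [← powerClosure_map, ← inf_centralizer_self]; rfl
      refine hd _ (fun h0 => hz2 ?_) (characteristic_powerClosure p 1 _) (e1 ▸ hN)
      have : z ^ p ^ 1 ∈ powerClosure p 1 (zSyl S) := Subgroup.subset_closure ⟨z, hz, rfl⟩
      rw [e1, h0, Subgroup.map_bot, Subgroup.mem_bot] at this
      simpa using this
    · refine hd (jTilde ↥(S : Subgroup G)) (fun h0 => hZne (le_bot_iff.1 (h0 ▸ center_le_jTilde))) inferInstance ?_
      rwa [← inf_centralizer_centerThompson]
  · refine hd _ hZne inferInstance ?_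
    rw [← inf_centralizer_self]
    exact CfsgLib.PushingUp.normal_of_le_center hle
  · refine hd _ (fun h0 => hne ?_) hc ?_
    · rw [← Subgroup.map_subgroupOf_eq_of_le hW, h0, Subgroup.map_bot]
    · rwa [Subgroup.map_subgroupOf_eq_of_le hW]

end CfsgLib.PushingUp44
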