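import Cfsg.Agent.PushingUp44.Ambient
import Cfsg.Agent.Coprime.Generation

/-!
A quadratic action of a group with quotient `PSL₂(q)`: the fixed space of a Sylow subgroup depends only on
its image.
-/

set_option autoImplicit false

open Cfsg
open scoped MatrixGroups commutatorElement

namespace CfsgLib.PushingUp44

open CfsgLib.PushingUp (Hyp)

variable {G : Type*} [Group G] {W : Type*} [AddCommGroup W]

/-- The fixed points of a set. -/
def fixSub (θ : G →* AddMonoid.End W) (H : Set G) : AddSubgroup W where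
  carrier := {w | ∀ x ∈ H, θ x w = w}
  zero_mem' := fun x _ => map_zero (θ x)
  add_mem' := fun {a b} ha hb x hx => by rw [map_add, ha x hx, hb x hx]
  neg_mem' := fun {a} ha x hx => by rw [map_neg, ha x hx]

theorem mem_fixSub {θ : G →* AddMonoid.End W} {H : Set G} {w : W} :
    w ∈ fixSub θ H ↔ ∀ x ∈ H, θ x w = w := Iff.rfl

theorem act_mul (θ : G →* AddMonoid.End W) (x y : G) (w : W) : θ (x * y) w = θ x (θ y w) := by
  rw [map_mul]; rfl

theorem act_one (θ : G →* AddMonoid.End W) (w : W) : θ 1 w = w := by rw [map_one]; rfl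

theorem act_inv (θ : G →* AddMonoid.End W) (x : G) (w : W) : θ x (θ x⁻¹ w) = w := by
  rw [← act_mul, mul_inv_cancel, act_one]

theorem act_inv' (θ : G →* AddMonoid.End W) (x : G) (w : W) : θ x⁻¹ (θ x w) = w := by
  rw [← act_mul, inv_mul_cancel, act_one]

theorem act_injective (θ : G →* AddMonoid.End W) (x : G) : Function.Injective (θ x) := fun a b hab => by
  rw [← act_inv' θ x a, hab, act_inv']

theorem act_eq_of_eq (θ : G →* AddMonoid.End W) (x : G) {w w' : W} (h : θ x w = w') : θ x⁻¹ w' = w := by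
  rw [← h, act_inv']

/-- The subgroup fixing all vectors of a set. -/
def fixer (θ : G →* AddMonoid.End W) (T : Set W) : Subgroup G where
  carrier := {x | ∀ w ∈ T, θ x w = w}
  one_mem' := fun w _ => act_one θ w
  mul_mem' := fun {a b} ha hb w hw => by rw [act_mul, hb w hw, ha w hw]
  inv_mem' := fun {a} ha w hw => act_eq_of_eq θ a (ha w hw)

theorem fixSub_cj (θ : G →* AddMonoid.End W) (g : G) (H : Subgroup G) {w : W} :
    w ∈ fixSub θ (cj g H : Set G) ↔ θ g⁻¹ w ∈ fixSub θ (H : Set G) := by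
  constructor
  · intro hw x hx
    apply act_injective θ g
    calc θ g (θ x (θ g⁻¹ w)) = θ (g * x * g⁻¹) w := by rw [act_mul θ (g * x), act_mul θ g]
      _ = w := hw _ (conj_mem_cj hx)
      _ = θ g (θ g⁻¹ w) := (act_inv θ g w).symm
  · intro hw x hx
    have h1 := hw _ (mem_cj.1 hx)
    rw [← act_mul, show g⁻¹ * x * g * g⁻¹ = g⁻¹ * x by group, act_mul] at h1
    exact act_injective θ g⁻¹ h1

/-- The subgroup stabilising the fixed space of a set. -/
def stabFix [Finite W] (θ : G →* AddMonoid.End W) (A : AddSubgroup W) : Subgroup G where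
  carrier := {x | ∀ w, w ∈ A ↔ θ x w ∈ A}
  one_mem' := fun w => by rw [act_one]
  mul_mem' := fun {a b} ha hb w => by rw [act_mul, ← ha, ← hb]
  inv_mem' := fun {a} ha w => by rw [ha (θ a⁻¹ w), act_inv]

variable [Finite G] {p : ℕ} [hp : Fact p.Prime] {F : Type*} [Field F] [Fintype F] {S : Sylow p G}
  {π : G →* Matrix.ProjectiveSpecialLinearGroup (Fin 2) F} {n : ℕ}

/-- A quadratic action in which `S` fixes a part of index at most `q`. -/
structure QAct (h : Hyp S π n) (θ : G →* AddMonoid.End W) : Prop where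
  core : ∀ x ∈ pCore p G, ∀ w, θ x w = w
  quad : ∀ s ∈ (S : Subgroup G), ∀ w, θ s w - w ∈ fixSub θ ((S : Subgroup G) : Set G)
  noFix : ∀ w, (∀ g, θ g w = w) → w = 0
  index : Nat.card W ≤ p ^ n * Nat.card (fixSub θ ((S : Subgroup G) : Set G))
  nontrivial : ∃ w : W, w ≠ 0

theorem sup_zpowers_sylow (h : Hyp S π n) {g a : G} (hg : g ∉ mSyl S π) (ha : a ∈ (S : Subgroup G))
    (haQ : a ∉ pCore p G) : cj g (S : Subgroup G) ⊔ Subgroup.zpowers a = ⊤ := by
  haveI := pCore_normal p G
  set b := g⁻¹ * a * g with hb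
  have hbS : b ∈ cj g⁻¹ (S : Subgroup G) := by rw [mem_cj, hb]; simpa [mul_assoc] using ha
  have hg' : g⁻¹ ∉ mSyl S π := fun h' => hg (by simpa using inv_mem h')
  have hbM : b ∉ mSyl S π := fun hbM => haQ (by
    have h1 := cj_sylow_inf_mSyl h hg' ⟨hbS, hbM⟩
    have h2 := (inferInstance : (pCore p G).Normal).conj_mem _ h1 g
    simpa [hb, mul_assoc] using h2)
  have h1 := congrArg (cj g) (sup_cj_sylow h hbM)
  rw [cj_sup, cj_cj, show g * b = a * g by rw [hb]; group, ← cj_cj,
    show cj g (⊤ : Subgroup G) = ⊤ from Subgroup.map_top_of_surjective _ (MulAut.conj g).surjective] at h1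
  refine top_le_iff.1 (h1.ge.trans (sup_le le_sup_left fun z hz => ?_))
  have ha' : a ∈ cj g (S : Subgroup G) ⊔ Subgroup.zpowers a := Subgroup.mem_sup_right (Subgroup.mem_zpowers a)
  have hz' : a⁻¹ * z * a ∈ cj g (S : Subgroup G) ⊔ Subgroup.zpowers a := Subgroup.mem_sup_left (mem_cj.1 hz)
  simpa [mul_assoc] using mul_mem (mul_mem ha' hz') (inv_mem ha')

namespace QAct

variable [Finite W] {h : Hyp S π n} {θ : G →* AddMonoid.End W} (Θ : QAct h θ)
include Θ

local notation "AA" => fixSub θ ((S : Subgroup G) : Set G)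

theorem inter_eq_zero {g : G} (hg : g ∉ mSyl S π) {w : W} (hw : w ∈ AA)
    (hw' : θ g⁻¹ w ∈ AA) : w = 0 := by
  refine Θ.noFix w fun x => ?_
  have h1 : (S : Subgroup G) ⊔ cj g (S : Subgroup G) ≤ fixer θ {w} := by
    refine sup_le (fun s hs z hz => ?_) fun s hs z hz => ?_ <;> rw [Set.mem_singleton_iff.1 hz]
    · exact hw s hs
    · exact (fixSub_cj θ g _).2 hw' s hs
  rw [sup_cj_sylow h hg] at h1
  exact h1 (Subgroup.mem_top x) w rfl

theorem moved_zero {g a : G} (hg : g ∉ mSyl S π) (ha : a ∈ (S : Subgroup G)) (haQ : a ∉ pCore p G) {w : W}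
    (hw : θ g⁻¹ w ∈ AA) (hfix : θ a w = w) : w = 0 := by
  refine Θ.noFix w fun x => ?_
  have h1 : cj g (S : Subgroup G) ⊔ Subgroup.zpowers a ≤ fixer θ {w} := by
    refine sup_le (fun s hs z hz => ?_) (Subgroup.zpowers_le.2 fun z hz => ?_) <;>
      rw [Set.mem_singleton_iff.1 hz]
    · exact (fixSub_cj θ g _).2 hw s hs
    · exact hfix
  rw [sup_zpowers_sylow h hg ha haQ] at h1
  exact h1 (Subgroup.mem_top x) w rfl

theorem exists_ne_zero : ∃ a : W, a ∈ AA ∧ a ≠ 0 := by
  by_contra hcon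
  push Not at hcon
  obtain ⟨g, hg⟩ := exists_not_mem_mSyl h
  obtain ⟨w, hw⟩ := Θ.nontrivial
  have hall : ∀ u : W, u ∈ AA := fun u s hs => by
    have := hcon _ (Θ.quad s hs u)
    rwa [sub_eq_zero] at this
  exact hw (Θ.inter_eq_zero hg (hall w) (hall _))

theorem card_bounds {g : G} (hg : g ∉ mSyl S π) :
    Nat.card AA = p ^ n ∧ Nat.card W = p ^ n * p ^ n ∧
      ∀ w, ∃ a ∈ AA, ∃ b, θ g⁻¹ b ∈ AA ∧ w = a + b := by
  obtain ⟨b₀, hb₀, hb0⟩ := Θ.exists_ne_zero
  set b := θ g b₀ with hb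
  have hbB : θ g⁻¹ b ∈ AA := by rw [hb, act_inv']; exact hb₀
  have hbne : b ≠ 0 := fun h0 => hb0 (act_injective θ g (by rw [← hb, h0, map_zero]))
  -- the orbit map gives the lower bound
  have hlow : p ^ n ≤ Nat.card AA := by
    let f : ↥(S : Subgroup G) ⧸ (pCore p G).subgroupOf (S : Subgroup G) → AA := fun c =>
      ⟨θ (c.out : G) b - b, Θ.quad _ c.out.2 b⟩
    have hf : Function.Injective f := by
      intro c c' hcc'
      rw [← QuotientGroup.out_eq' c, ← QuotientGroup.out_eq' c', QuotientGroup.eq, Subgroup.mem_subgroupOf]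
      by_contra hq
      have e : θ (c.out : G) b = θ (c'.out : G) b := sub_left_injective (congrArg Subtype.val hcc')
      refine hbne (Θ.moved_zero hg (Subgroup.mul_mem _ (Subgroup.inv_mem _ c.out.2) c'.out.2) hq hbB ?_)
      rw [act_mul, ← e, act_inv']
    refine le_trans ?_ (Nat.card_le_card_of_injective f hf)
    have hc : Nat.card (↥(S : Subgroup G) ⧸ (pCore p G).subgroupOf (S : Subgroup G)) =
        Nat.card ((S : Subgroup G).map π) := by
      rw [← Subgroup.relIndex_ker, ← Subgroup.inf_relIndex_left, h.inf_ker]; rfl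
    rw [hc]
    refine Nat.le_of_dvd Nat.card_pos ?_
    have hU : ((S.mapSurjective h.surj : Sylow p _) : Subgroup _) = (S : Subgroup G).map π :=
      Sylow.coe_mapSurjective h.surj S
    obtain ⟨x, hx⟩ := coe_eq_cj_upperSub h.one_le h.card (S.mapSurjective h.surj)
    rw [← hU, hx, cj, Subgroup.card_map_of_injective (MulAut.conj x).injective, upperSub,
      Nat.card_congr (MonoidHom.ofInjective (upperHom_injective (F := F))).toEquiv.symm,
      Nat.card_congr Multiplicative.toAdd, Nat.card_eq_fintype_card, h.card]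
  -- sums are injective
  let σ : AA × AA → W := fun x => (x.1 : W) + θ g (x.2 : W)
  have hσ : Function.Injective σ := by
    rintro ⟨a, a'⟩ ⟨c, c'⟩ hac
    have e : (a : W) - c = θ g ((c' : W) - a') := by
      rw [map_sub, sub_eq_sub_iff_add_eq_add, add_comm (θ g c') (c : W)]
      exact hac
    have h0 : (a : W) - c = 0 := Θ.inter_eq_zero hg (sub_mem a.2 c.2) (by
      rw [e, act_inv']; exact sub_mem c'.2 a'.2)
    rw [h0] at e
    have h1 : (c' : W) - a' = 0 := act_injective θ g (by rw [← e, map_zero])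
    rw [sub_eq_zero] at h0 h1
    exact Prod.ext (Subtype.ext h0) (Subtype.ext h1.symm)
  have h2 := Nat.card_le_card_of_injective σ hσ
  rw [Nat.card_prod] at h2
  have h3 := Θ.index
  have hA : Nat.card AA = p ^ n := le_antisymm
    (Nat.le_of_mul_le_mul_right (h2.trans h3) Nat.card_pos) hlow
  have hW : Nat.card W = p ^ n * p ^ n := by
    rw [hA] at h2 h3; exact le_antisymm h3 h2
  refine ⟨hA, hW, fun w => ?_⟩
  have hbij := hσ.bijective_of_nat_card_le (by rw [hW, Nat.card_prod, hA])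
  obtain ⟨⟨a, a'⟩, rfl⟩ := hbij.surjective w
  exact ⟨a, a.2, θ g a', by rw [act_inv']; exact a'.2, rfl⟩

theorem fixed_single {a : G} (ha : a ∈ (S : Subgroup G)) (haQ : a ∉ pCore p G) {w : W} (hw : θ a w = w) : w ∈ AA := by
  obtain ⟨g, hg⟩ := exists_not_mem_mSyl h
  obtain ⟨u, hu, b, hb, rfl⟩ := (Θ.card_bounds hg).2.2 w
  rw [map_add, hu a ha, add_right_inj] at hw
  rw [Θ.moved_zero hg ha haQ hb hw, add_zero]
  exact hu

/-- The kernel lies in the maximal subgroup over `S`. -/
theorem kernel_le {x : G} (hx : ∀ w, θ x w = w) : x ∈ mSyl S π := by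
  by_contra hxM
  obtain ⟨a, ha, ha0⟩ := Θ.exists_ne_zero
  exact ha0 (Θ.inter_eq_zero hxM ha (by rw [act_eq_of_eq θ x (hx a)]; exact ha))

theorem ker_stab_line (hn : n = 1) {k : G} (hk : π k = 1) {w₀ : W} (hw₀ : w₀ ∈ AA) : θ k w₀ ∈ AA := by
  subst hn
  haveI := pCore_normal p G
  by_contra hout
  have hkM : k ∈ mSyl S π := by
    rw [mSyl, Subgroup.mem_comap, hk]; exact one_mem _
  obtain ⟨g, hg⟩ := exists_not_mem_mSyl h
  obtain ⟨hA, hW, -⟩ := Θ.card_bounds hg
  rw [pow_one] at hA hW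
  haveI : Fact (Nat.card AA).Prime := ⟨by rw [hA]; exact hp.out⟩
  -- the moved line
  set e := θ k w₀ with he
  obtain ⟨a, ha, haQ⟩ := SetLike.not_le_iff_exists.1 h.not_sylow_le_pCore
  set d := θ a e - e with hd
  have hdA : d ∈ AA := Θ.quad a ha e
  have hd0 : d ≠ 0 := fun h0 => hout (Θ.fixed_single ha haQ (sub_eq_zero.1 h0))
  let σ : AA × AA → W := fun x => (x.1 : W) + θ k (x.2 : W)
  have hσ : Function.Injective σ := by
    rintro ⟨x, x'⟩ ⟨y, y'⟩ hxy
    have e1 : (x : W) - y = θ k ((y' : W) - x') := by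
      rw [map_sub, sub_eq_sub_iff_add_eq_add, add_comm (θ k y') (y : W)]
      exact hxy
    by_cases h0 : (y' : W) - x' = 0
    · rw [h0, map_zero, sub_eq_zero] at e1
      exact Prod.ext (Subtype.ext e1) (Subtype.ext (sub_eq_zero.1 h0).symm)
    · exfalso
      set z : AA := y' - x' with hz
      have hz0 : z ≠ 0 := fun h' => h0 (congrArg Subtype.val h')
      obtain ⟨i, hi⟩ := AddSubgroup.mem_zmultiples_iff.1
        (mem_zmultiples_of_prime_card (g' := (⟨w₀, hw₀⟩ : AA)) rfl hz0)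
      refine hout ?_
      rw [he, show w₀ = i • (z : W) from (congrArg Subtype.val hi).symm, map_zsmul]
      refine zsmul_mem ?_ i
      show θ k ((y' : W) - x') ∈ AA
      rw [← e1]
      exact sub_mem x.2 y.2
  have hbij := hσ.bijective_of_nat_card_le (by rw [hW, Nat.card_prod, hA])
  obtain ⟨b₀, hb₀, hb0⟩ := Θ.exists_ne_zero
  obtain ⟨⟨c, c'⟩, hcc⟩ := hbij.surjective (θ g b₀)
  -- some conjugate inside the maximal subgroup fixes the same line as the opposite one
  have hiter : ∀ (i : ℕ) (u : W), θ a u - u ∈ AA → θ (a ^ i) u = u + i • (θ a u - u) := by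
    intro i u hu
    induction i with
    | zero => rw [pow_zero, act_one, zero_smul, add_zero]
    | succ i ih =>
      rw [pow_succ', act_mul, ih, map_add, map_nsmul, hu a ha, succ_nsmul]
      abel
  have hline : ∀ u ∈ AA, ∀ x : AA, x ≠ 0 → u ∈ AddSubgroup.zmultiples (x : W) := fun u hu x hx => by
    obtain ⟨i, hi⟩ := AddSubgroup.mem_zmultiples_iff.1
      (mem_zmultiples_of_prime_card (g' := (⟨u, hu⟩ : AA)) rfl hx)
    exact AddSubgroup.mem_zmultiples_iff.2 ⟨i, congrArg Subtype.val hi⟩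
  have hc' : (c' : W) ≠ 0 := fun h0 => by
    have h1 : θ g b₀ = c := by rw [← hcc]; simp [σ, h0]
    refine hb0 (act_injective θ g ?_)
    rw [map_zero]
    exact Θ.inter_eq_zero hg (h1 ▸ c.2) (by rw [act_inv']; exact hb₀)
  have hX : θ a (θ k c') - θ k c' ∈ AA := Θ.quad a ha _
  have hX0 : θ a (θ k c') - θ k c' ≠ 0 := fun h0 => by
    obtain ⟨i, hi⟩ := AddSubgroup.mem_zmultiples_iff.1 (hline w₀ hw₀ c' fun h' => hc' (congrArg Subtype.val h'))
    refine hout ?_
    rw [he, ← hi, map_zsmul]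
    exact zsmul_mem (Θ.fixed_single ha haQ (sub_eq_zero.1 h0)) i
  obtain ⟨i, hi⟩ := AddSubgroup.mem_zmultiples_iff.1
    (hline c c.2 ⟨_, hX⟩ fun h' => hX0 (congrArg Subtype.val h'))
  obtain ⟨j, hj⟩ : ∃ j : ℕ, j • (θ a (θ k c') - θ k c') = (c : W) := by
    refine ⟨(i % (p : ℤ)).toNat, ?_⟩
    have hp0 : (p : ℤ) ≠ 0 := by exact_mod_cast hp.out.ne_zero
    have hpz : p • (θ a (θ k c') - θ k c') = 0 := by
      have h4 := congrArg Subtype.val (card_nsmul_eq_zero' (x := (⟨_, hX⟩ : AA)))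
      rwa [hA] at h4
    rw [← natCast_zsmul, Int.toNat_of_nonneg (Int.emod_nonneg i hp0), ← hi]
    conv_rhs => rw [← Int.mul_ediv_add_emod i p, add_zsmul, mul_comm, mul_zsmul, natCast_zsmul, hpz,
      smul_zero, zero_add]
  set m := a ^ j * k with hm
  have hgm : θ g b₀ = θ m c' := by
    rw [hm, act_mul, hiter j _ hX, hj, ← hcc]
    exact add_comm _ _
  have hmM : m ∈ mSyl S π := mul_mem (pow_mem (sylow_le_mSyl ha) j) hkM
  have hBg : ∀ u ∈ AA, ∃ v ∈ AA, θ g u = θ m v := by
    intro u hu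
    obtain ⟨i, hi⟩ := AddSubgroup.mem_zmultiples_iff.1 (hline u hu ⟨b₀, hb₀⟩ fun h' => hb0 (congrArg Subtype.val h'))
    exact ⟨i • (c' : W), zsmul_mem c'.2 i, by rw [← hi, map_zsmul, map_zsmul, hgm]⟩
  -- the stabilizer of that line
  let B : AddSubgroup W := (AA).map (θ g)
  let X : Subgroup G :=
    { carrier := {x | (∀ u ∈ B, θ x u = u) ∧ ∀ u, θ x u - u ∈ B}
      one_mem' := ⟨fun u _ => act_one θ u, fun u => by rw [act_one, sub_self]; exact zero_mem _⟩
      mul_mem' := fun {x y} hx hy => ⟨fun u hu => by rw [act_mul, hy.1 u hu, hx.1 u hu], fun u => by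
        rw [act_mul]
        have h5 := add_mem (hx.2 (θ y u)) (hy.2 u)
        rwa [sub_add_sub_cancel] at h5⟩
      inv_mem' := fun {x} hx => ⟨fun u hu => act_eq_of_eq θ x (hx.1 u hu), fun u => by
        have h5 := neg_mem (hx.2 (θ x⁻¹ u))
        rwa [act_inv, neg_sub] at h5⟩ }
  have hTg : ∀ (x : G), (∀ u ∈ AA, ∃ v ∈ AA, θ g u = θ x v) → cj x (S : Subgroup G) ≤ X := by
    intro x hx s hs
    rw [mem_cj] at hs
    constructor
    · rintro _ ⟨u, hu, rfl⟩
      obtain ⟨v, hv, hv'⟩ := hx u hu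
      show θ s (θ g u) = θ g u
      rw [hv', ← act_mul, show s * x = x * (x⁻¹ * s * x) by group, act_mul, hv _ hs]
    · intro u
      have h6 := Θ.quad _ hs (θ x⁻¹ u)
      have hsub : ∀ v ∈ AA, θ x v ∈ B := by
        have hcard : (AA).map (θ x) = B := by
          refine (AddSubgroup.eq_of_le_of_card_ge ?_ (le_of_eq ?_)).symm
          · rintro _ ⟨u, hu, rfl⟩
            obtain ⟨v, hv, hv'⟩ := hx u hu
            exact ⟨v, hv, hv'.symm⟩
          · rw [AddSubgroup.card_map_of_injective (act_injective θ x),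
              AddSubgroup.card_map_of_injective (act_injective θ g)]
        exact fun v hv => hcard.le ⟨v, hv, rfl⟩
      have h7 := hsub _ h6
      rwa [map_sub, ← act_mul, ← act_mul, act_inv,
        show x * (x⁻¹ * s * x) * x⁻¹ = s by group] at h7
  set T := cj m (S : Subgroup G) with hT
  have hTX : T ≤ X := hTg m hBg
  have hgX : cj g (S : Subgroup G) ≤ X := hTg g fun u hu => ⟨u, hu, rfl⟩
  let C : Subgroup ↥X := (fixer θ Set.univ).subgroupOf X
  haveI : C.Normal := ⟨fun c hc y u _ => by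
    show θ ((y : G) * c * (y : G)⁻¹) u = u
    rw [act_mul, act_mul, show θ (c : G) (θ (y : G)⁻¹ u) = θ (y : G)⁻¹ u from hc _ trivial, act_inv]⟩
  have hTc : T = ((m • S : Sylow p G) : Subgroup G) := rfl
  have hgc : cj g (S : Subgroup G) = ((g • S : Sylow p G) : Subgroup G) := rfl
  let P : Sylow p ↥X := (m • S : Sylow p G).subtype (hTc ▸ hTX)
  let P' : Sylow p ↥X := (g • S : Sylow p G).subtype (hgc ▸ hgX)
  obtain ⟨y, hy⟩ := MulAction.exists_smul_eq ↥X P P'
  have hQC : IsPGroup p (↥X ⧸ C) := by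
    intro q
    obtain ⟨y, rfl⟩ := QuotientGroup.mk'_surjective C q
    refine ⟨1, ?_⟩
    rw [← map_pow]
    refine (QuotientGroup.eq_one_iff _).2 fun u _ => ?_
    set d := θ (y : G) u - u with hd'
    have hdB : d ∈ B := y.2.2 u
    have hit : ∀ i : ℕ, θ ((y : G) ^ i) u = u + i • d := by
      intro i
      induction i with
      | zero => rw [pow_zero, act_one, zero_smul, add_zero]
      | succ i ih =>
        rw [pow_succ', act_mul, ih, map_add, map_nsmul, y.2.1 d hdB, succ_nsmul, hd']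
        abel
    show θ ((y : G) ^ (p ^ 1)) u = u
    obtain ⟨v, hv, hv'⟩ := hdB
    have h4 := congrArg Subtype.val (card_nsmul_eq_zero' (x := (⟨v, hv⟩ : AA)))
    rw [hA] at h4
    rw [hit, pow_one, show d = θ g v from hv'.symm]
    change u + p • θ g v = u
    rw [← map_nsmul, show p • v = 0 from h4, map_zero, add_zero]
  have hcov := P.mapSurjective (QuotientGroup.mk'_surjective C)
  have htop : (P : Subgroup ↥X).map (QuotientGroup.mk' C) = ⊤ := by
    rw [← Sylow.coe_mapSurjective (QuotientGroup.mk'_surjective C) P]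
    exact ((P.mapSurjective (QuotientGroup.mk'_surjective C)).3 (hQC.to_subgroup ⊤) le_top).symm
  obtain ⟨t, ht, htc⟩ := htop.ge (Subgroup.mem_top (QuotientGroup.mk' C y))
  have hyM : (y : G) ∈ mSyl S π := by
    have h8 : (t⁻¹ * y : ↥X) ∈ C := QuotientGroup.eq.1 htc
    have h9 : ((t⁻¹ * y : ↥X) : G) ∈ mSyl S π := Θ.kernel_le fun u => h8 u trivial
    have htM : (t : G) ∈ mSyl S π := by
      have ht' : (t : G) ∈ T := ht
      rw [hT, mem_cj] at ht'
      have h10 := mul_mem (mul_mem hmM (sylow_le_mSyl ht')) (inv_mem hmM)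
      simpa [mul_assoc] using h10
    simpa using mul_mem htM h9
  refine h.not_sylow_le_pCore fun s hs => ?_
  have hsP' : (⟨g * s * g⁻¹, hgX (conj_mem_cj hs)⟩ : ↥X) ∈ (P' : Subgroup ↥X) := conj_mem_cj hs
  rw [← hy] at hsP'
  obtain ⟨z, hz, hzy⟩ := hsP'
  have hzM : (z : G) ∈ mSyl S π := by
    have hz' : (z : G) ∈ T := hz
    rw [hT, mem_cj] at hz'
    have h10 := mul_mem (mul_mem hmM (sylow_le_mSyl hz')) (inv_mem hmM)
    simpa [mul_assoc] using h10
  have hconjM : g * s * g⁻¹ ∈ mSyl S π := by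
    rw [show g * s * g⁻¹ = (y : G) * z * (y : G)⁻¹ from (congrArg Subtype.val hzy).symm]
    exact mul_mem (mul_mem hyM hzM) (inv_mem hyM)
  have hQ := cj_sylow_inf_mSyl h hg ⟨conj_mem_cj hs, hconjM⟩
  have := (inferInstance : (pCore p G).Normal).conj_mem _ hQ g⁻¹
  simpa [mul_assoc] using this

theorem ker_stab_generation (hn : 1 < n) {k : G} (hk : π k = 1) {w : W} (hw : w ∈ AA) : θ k w ∈ AA := by
  haveI := pCore_normal p G
  set Q := pCore p G with hQ
  set φ := QuotientGroup.mk' Q with hφ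
  set K : Subgroup G := π.ker with hK
  have hQA : ∀ x ∈ Q, x ∈ stabFix θ AA := fun x hx w => by rw [Θ.core x hx]
  suffices hle : K.map φ ≤ (stabFix θ AA).map φ by
    have hk' : k ∈ ((stabFix θ AA).map φ).comap φ := Subgroup.mem_comap.2 (hle ⟨k, hk, rfl⟩)
    rw [Subgroup.comap_map_eq, QuotientGroup.ker_mk', sup_eq_left.2 hQA] at hk'
    exact (hk' w).1 hw
  set A := (S : Subgroup G).map φ with hA
  have hAS : ∀ s ∈ (S : Subgroup G), s ^ p ∈ Q ∧ ∀ t ∈ (S : Subgroup G), ⁅s, t⁆ ∈ Q := by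
    intro s hs
    haveI := sylow_isMulCommutative h.one_le h.card (S.mapSurjective h.surj)
    obtain ⟨x, hx⟩ := coe_eq_cj_upperSub h.one_le h.card (S.mapSurjective h.surj)
    have hmem : ∀ t ∈ (S : Subgroup G),
        π t ∈ ((S.mapSurjective h.surj : Sylow p _) : Subgroup _) := fun t ht => by
      rw [Sylow.coe_mapSurjective]; exact Subgroup.mem_map_of_mem π ht
    refine ⟨h.inf_ker.le ⟨pow_mem hs p, ?_⟩, fun t ht => h.inf_ker.le ⟨?_, ?_⟩⟩
    · show π (s ^ p) = 1
      have h1 := hmem s hs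
      rw [hx, mem_cj] at h1
      obtain ⟨c, hc⟩ := h1
      haveI : CharP F p := by
        obtain ⟨p', hc'⟩ := CharP.exists F
        obtain ⟨n', hp', hq⟩ := FiniteField.card F p'
        rw [h.card] at hq
        obtain rfl : p = p' := (Nat.prime_dvd_prime_iff_eq hp.out hp').1
          (hp.out.dvd_of_dvd_pow (hq ▸ dvd_pow_self p (by omega : n ≠ 0)))
        exact hc'
      have hcp : c ^ p = 1 := Multiplicative.toAdd.injective (by
        rw [toAdd_pow, toAdd_one, nsmul_eq_mul, CharP.cast_eq_zero, zero_mul])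
      have h2 : (x⁻¹ * π s * x) ^ p = 1 := by rw [← hc, ← map_pow, hcp, map_one]
      rw [show x⁻¹ * π s * x = x⁻¹ * π s * x⁻¹⁻¹ by rw [inv_inv], conj_pow, inv_inv,
        mul_eq_one_iff_eq_inv, inv_mul_eq_iff_eq_mul, mul_inv_cancel] at h2
      rw [map_pow]; exact h2
    · rw [commutatorElement_def]
      exact Subgroup.mul_mem _ (Subgroup.mul_mem _ (Subgroup.mul_mem _ hs ht) (Subgroup.inv_mem _ hs))
        (Subgroup.inv_mem _ ht)
    · show π ⁅s, t⁆ = 1
      rw [map_commutatorElement, commutatorElement_eq_one_iff_mul_comm]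
      exact CfsgLib.GlaubermanZJ.isMulCommutative_apply inferInstance (hmem s hs) (hmem t ht)
  have hAcomm : IsMulCommutative A := by
    refine ⟨⟨?_⟩⟩
    rintro ⟨_, s, hs, rfl⟩ ⟨_, t, ht, rfl⟩
    apply Subtype.ext
    show φ s * φ t = φ t * φ s
    rw [← commutatorElement_eq_one_iff_mul_comm, ← map_commutatorElement]
    exact (QuotientGroup.eq_one_iff _).2 ((hAS s hs).2 t ht)
  obtain ⟨g, hg⟩ := exists_not_mem_mSyl h
  have hAcard : Nat.card A = p ^ n := by
    have hU : ((S.mapSurjective h.surj : Sylow p _) : Subgroup _) = (S : Subgroup G).map π :=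
      Sylow.coe_mapSurjective h.surj S
    obtain ⟨x, hx⟩ := coe_eq_cj_upperSub h.one_le h.card (S.mapSurjective h.surj)
    rw [hA, ← Subgroup.relIndex_ker, QuotientGroup.ker_mk', hQ, ← h.inf_ker, Subgroup.inf_relIndex_left,
      Subgroup.relIndex_ker, ← hU, hx, cj, Subgroup.card_map_of_injective (MulAut.conj x).injective, upperSub,
      Nat.card_congr (MonoidHom.ofInjective (upperHom_injective (F := F))).toEquiv.symm,
      Nat.card_congr Multiplicative.toAdd, Nat.card_eq_fintype_card, h.card]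
  have hnc : ¬ IsCyclic A := by
    intro hcy
    obtain ⟨⟨_, s, hs, rfl⟩, hgen⟩ := hcy.exists_generator
    have h1 := orderOf_eq_card_of_forall_mem_zpowers hgen
    rw [hAcard] at h1
    have h2 : p ^ n ∣ p := h1 ▸ orderOf_dvd_of_pow_eq_one (Subtype.ext (by
      show φ s ^ p = 1
      rw [← map_pow]; exact (QuotientGroup.eq_one_iff _).2 (hAS s hs).1))
    have h3 := Nat.le_of_dvd hp.out.pos h2
    exact absurd (Nat.pow_lt_pow_right hp.out.one_lt hn) (by rw [pow_one]; omega)
  have hcop : (Nat.card A).Coprime (Nat.card (K.map φ)) := by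
    rw [hAcard]
    refine Nat.Coprime.pow_left _ (hp.out.coprime_iff_not_dvd.2 fun hd => ?_)
    obtain ⟨⟨_, k, hk, rfl⟩, hord⟩ := exists_prime_orderOf_dvd_card' p hd
    rw [← Subgroup.orderOf_coe] at hord
    obtain ⟨i, m, hm, him⟩ :=
      Nat.exists_eq_pow_mul_and_not_dvd (orderOf_pos k).ne' p hp.out.one_lt.ne'
    have hzp : IsPGroup p (Subgroup.zpowers (k ^ m)) := by
      refine IsPGroup.of_card (n := i) ?_
      rw [Nat.card_zpowers, orderOf_pow' k (fun h0 => hm (by rw [h0]; exact dvd_zero p)), him,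
        Nat.gcd_eq_right (dvd_mul_left m _), Nat.mul_div_cancel _ (Nat.pos_of_ne_zero fun h0 => hm (by rw [h0]; exact dvd_zero p))]
    obtain ⟨P, hP⟩ := hzp.exists_le_sylow
    obtain ⟨x, hx⟩ := MulAction.exists_smul_eq G S P
    have hkm : x⁻¹ * k ^ m * x ∈ (S : Subgroup G) := by
      have h4 : k ^ m ∈ (P : Subgroup G) := hP (Subgroup.mem_zpowers _)
      rw [← hx] at h4
      exact mem_cj.1 (show k ^ m ∈ cj x (S : Subgroup G) from h4)
    have h5 : x⁻¹ * k ^ m * x ∈ Q := h.inf_ker.le ⟨hkm, by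
      show π (x⁻¹ * k ^ m * x) = 1
      rw [map_mul, map_mul, map_pow, show π k = 1 from hk, one_pow, mul_one, ← map_mul, inv_mul_cancel, map_one]⟩
    have h6 : k ^ m ∈ Q := by
      have h7 := (inferInstance : Q.Normal).conj_mem _ h5 x
      simpa [mul_assoc] using h7
    have h8 : orderOf (φ k) ∣ m := orderOf_dvd_of_pow_eq_one (by
      rw [← map_pow]; exact (QuotientGroup.eq_one_iff _).2 h6)
    rw [show orderOf (φ k) = p from hord] at h8
    exact hm h8
  refine CfsgLib.Coprime.le_of_centralizers hAcomm hnc ?_ hcop ?_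
  · haveI : (K.map φ).Normal := Subgroup.Normal.map inferInstance φ (QuotientGroup.mk'_surjective Q)
    rw [Subgroup.normalizer_eq_top_iff.2 inferInstance]
    exact le_top
  · rintro _ ⟨a, ha, rfl⟩ ha1 _ ⟨⟨k, hk, rfl⟩, hkc⟩
    have haQ : a ∉ Q := fun h' => ha1 ((QuotientGroup.eq_one_iff a).2 h')
    refine ⟨k, fun w => ?_, rfl⟩
    have hcom : ⁅a, k⁆ ∈ Q := (QuotientGroup.eq_one_iff _).1 (by
      show φ ⁅a, k⁆ = 1
      rw [map_commutatorElement, commutatorElement_eq_one_iff_mul_comm]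
      exact (Subgroup.mem_centralizer_singleton_iff.1 hkc).symm)
    have hak : ∀ u, θ a (θ k u) = θ k (θ a u) := fun u => by
      rw [← act_mul, ← act_mul, show a * k = ⁅a, k⁆ * (k * a) by rw [commutatorElement_def]; group,
        act_mul θ ⁅a, k⁆, Θ.core _ hcom]
    constructor
    · intro hw
      exact Θ.fixed_single ha haQ (by rw [hak, hw a ha])
    · intro hw
      refine Θ.fixed_single ha haQ (act_injective θ k ?_)
      rw [← hak, hw a ha]

theorem ker_le_stab (k : G) (hk : π k = 1) : k ∈ stabFix θ AA := by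
  have hall : ∀ k : G, π k = 1 → ∀ w ∈ AA, θ k w ∈ AA := fun k hk w hw => by
    rcases eq_or_lt_of_le h.one_le with hn | hn
    · exact Θ.ker_stab_line hn.symm hk hw
    · exact Θ.ker_stab_generation hn hk hw
  refine fun w => ⟨hall k hk w, fun hw => ?_⟩
  have := hall k⁻¹ (by rw [map_inv, hk, inv_one]) _ hw
  rwa [act_inv'] at this

/-- The fixed space of `S` is stabilised by the preimage of the normalizer of its image. -/
theorem mSyl_le_stab : mSyl S π ≤ stabFix θ AA := by
  intro g hg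
  haveI := pCore_normal p G
  set K : Subgroup G := π.ker with hK
  set SK := (S : Subgroup G) ⊔ K with hSK
  have hgSK : cj g (S : Subgroup G) ≤ SK := by
    intro x hx
    rw [hSK, hK, ← Subgroup.comap_map_eq, Subgroup.mem_comap]
    have h1 := (Subgroup.mem_normalizer_iff.1 (show π g ∈ _ from hg) (π (g⁻¹ * x * g))).1
      (Subgroup.mem_map_of_mem π (mem_cj.1 hx))
    simpa [mul_assoc] using h1
  let P : Sylow p ↥SK := S.subtype le_sup_left
  let P' : Sylow p ↥SK := (g • S : Sylow p G).subtype (show ((g • S : Sylow p G) : Subgroup G) ≤ SK from hgSK)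
  obtain ⟨y, hy⟩ := MulAction.exists_smul_eq ↥SK P P'
  have hst : SK ≤ stabFix θ AA := sup_le
    (fun s hs w => ⟨fun hw => by rw [hw s hs]; exact hw, fun hw => by
      rwa [act_injective θ s (hw s hs)] at hw⟩)
    (fun k hk => Θ.ker_le_stab k hk)
  have hyst := hst y.2
  have heq : cj g (S : Subgroup G) = cj (y : G) (S : Subgroup G) := by
    refine le_antisymm (fun x hx => ?_) fun x hx => ?_
    · have hxP : (⟨x, hgSK hx⟩ : ↥SK) ∈ (P' : Subgroup ↥SK) := hx
      rw [← hy] at hxP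
      obtain ⟨z, hz, hzy⟩ := hxP
      rw [show x = (y : G) * z * (y : G)⁻¹ from (congrArg Subtype.val hzy).symm]
      exact conj_mem_cj hz
    · rw [mem_cj] at hx
      have hxP : y * ⟨_, Subgroup.mem_sup_left hx⟩ * y⁻¹ ∈ (P' : Subgroup ↥SK) := by
        rw [← hy]
        exact ⟨⟨_, Subgroup.mem_sup_left hx⟩, hx, rfl⟩
      have hxP' : (y : G) * ((y : G)⁻¹ * x * y) * (y : G)⁻¹ ∈ cj g (S : Subgroup G) := hxP
      simpa [mul_assoc] using hxP'
  intro w
  constructor <;> intro hw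
  · have h1 : θ (y : G) w ∈ fixSub θ (cj (y : G) (S : Subgroup G) : Set G) :=
      (fixSub_cj θ _ _).2 (by rwa [act_inv'])
    rw [← heq, fixSub_cj] at h1
    have h2 := (hyst (θ g⁻¹ (θ (y : G) w))).1 h1
    have h3 : θ g w ∈ fixSub θ (cj g (S : Subgroup G) : Set G) := (fixSub_cj θ _ _).2 (by rwa [act_inv'])
    rw [heq, fixSub_cj] at h3
    have h4 := (hyst _).1 h3
    rwa [act_inv] at h4
  · have h3 : θ g w ∈ AA := hw
    have h4 : θ (y : G)⁻¹ (θ g w) ∈ AA := (hyst _).2 (by rwa [act_inv])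
    rw [← fixSub_cj, ← heq, fixSub_cj, act_inv'] at h4
    exact h4

end QAct

end CfsgLib.PushingUp44
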