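import Cfsg.Agent.PushingUp44.Quad
import Cfsg.Agent.PushingUp44.Residual

/-!
The layers of the core found by pushing up: their fixed points and commutators.
-/

set_option autoImplicit false

open Cfsg
open scoped commutatorElement

namespace CfsgLib.PushingUp44

open CfsgLib.PushingUp (Hyp)

namespace Conf

variable {Γ : Type*} [Group Γ] {ι : Type*} {c : Conf Γ ι} [Finite Γ] {k : ℕ} {P : ℕ → c.Vtx}
  {E : ℕ → Subgroup Γ} {h : Γ}

theorem IsB.commutator_syl_le_Zc (hk : c.IsB k) (hc : c.IsCrit k P E) :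
    ⁅c.Vx (P 0), E 0⁆ ≤ Zc (E 0) := (hk.commutator_eq hc).trans_le (hk.commutator_le_Zc hc)

theorem IsB.relIndex_Zc (hk : c.IsB k) (hc : c.IsCrit k P E) :
    (Zc (E 0)).relIndex (c.Vx (P 0)) = c.q := by
  rw [← hk.centralizer_eq hc, hk.centralizer_eq_inf_core hc.1, Subgroup.inf_relIndex_left]
  exact hk.relIndex_eq hc

/-- For distance one the core is moved into the module. -/
theorem IsB.comm_core_one (hk : c.IsB 1) (hc : c.IsCrit 1 P E) {q y : Γ} (hq : q ∈ c.Qx (P 0))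
    (hy : y ∈ c.Vx (P 1)) : ⁅q, y⁆ ∈ c.Vx (P 0) := by
  have hs := hc.1 0 (by omega)
  have hqE : q ∈ E 0 := c.Qx_le_syl hs.syl_left hq
  have hsup := hk.sup_eq' hc
  rw [show (1 : ℕ) - 1 = 0 from rfl] at hsup
  rw [← hsup] at hqE
  have hn : c.Vx (P 0) ≤ Subgroup.normalizer (c.Qx (P 1) : Set Γ) :=
    (le_sup_left.trans_eq hsup).trans ((c.syl_le_Gx hs.syl_right).trans (c.Gx_le_normalizer_Qx _))
  obtain ⟨v, hv, z, hz, rfl⟩ := exists_mul_of_mem_sup hn hqE
  rw [comm_mul_left, commute_comm_one (c.commute_Vx hy hz).symm, mul_one, mul_inv_cancel, one_mul]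
  exact ((hk.commutator_le_inf hc) (Subgroup.commutator_mem_commutator hv hy)).1

namespace Bad

variable (b : c.Bad P E h)
include b

theorem V'_le_Fix_F : c.Vx (c.act h (P 1)) ≤ c.Fix (P 0) (P 1) (cj h (E 0)) := by
  rw [c.Vx_act]
  exact (cj_mono _ b.V1_le_Fix).trans b.cj_Fix_le

theorem V'_le_Umod : c.Vx (c.act h (P 1)) ≤ c.Umod (P 0) (P 1) := fun _ hx => b.x_mem_Umod hx

theorem mem_FixG_of {u : Γ} (h1 : u ∈ c.Fix (P 0) (P 1) (cj h (E 0))) (h2 : u ∈ c.Fix (P 0) (P 1) (E 0)) :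
    u ∈ c.Fix (P 0) (P 1) (c.Gx (P 0)) := by
  have := mem_fixMod_sup (b.F_le.trans (c.Gx_le_normalizer_Vx _))
    (b.E0_le.trans (c.Gx_le_normalizer_Vx _)) h1 h2
  rwa [b.opp] at this

theorem FixE0_normal : E 0 ≤ Subgroup.normalizer (c.Fix (P 0) (P 1) (E 0) : Set Γ) := by
  refine le_normalizer_of_conj_le fun t ht => ?_
  refine (cj_fixMod_le t (H' := (E 0 : Set Γ))
    fun s hs => mul_mem (mul_mem (inv_mem ht) hs) ht).trans_eq ?_
  rw [cj_eq_of_le_normalizer (b.Umod_normal (b.E0_le ht)),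
    cj_eq_of_le_normalizer (c.Gx_le_normalizer_Vx _ (b.E0_le ht))]
  rfl

/-- `U = V' · Fix(E 0)`. -/
theorem Umod_decomp {u : Γ} (hu : u ∈ c.Umod (P 0) (P 1)) :
    ∃ x ∈ c.Vx (c.act h (P 1)), ∃ f ∈ c.Fix (P 0) (P 1) (E 0), x * f = u := by
  refine exists_mul_of_mem_sup (b.V'_le_E0.trans b.FixE0_normal) ?_
  set X := c.Vx (c.act h (P 1)) ⊔ c.Fix (P 0) (P 1) (E 0) with hX
  have hXU : X ≤ c.Umod (P 0) (P 1) := sup_le b.V'_le_Umod (fixMod_le _ _ _)
  refine Subgroup.relIndex_eq_one.1 ?_ hu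
  have h1 := Subgroup.relIndex_mul_relIndex _ _ _
    (le_sup_right : c.Fix (P 0) (P 1) (E 0) ≤ X) hXU
  have h2 : c.q ≤ (c.Fix (P 0) (P 1) (E 0)).relIndex (c.Vx (c.act h (P 1))) := by
    have h3 : (c.Fix (P 0) (P 1) (c.Gx (P 0))).relIndex (c.Vx (P 1)) =
        (c.Fix (P 0) (P 1) (c.Gx (P 0))).relIndex (c.Vx (c.act h (P 1))) := by
      conv_rhs => rw [c.Vx_act, ← cj_eq_of_le_normalizer (b.Fix_normal b.mem)]
      rw [relIndex_cj]
    refine (b.le_relIndex_V1.trans_eq h3).trans ?_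
    rw [← Subgroup.inf_relIndex_right (H := c.Fix (P 0) (P 1) (E 0))]
    refine relIndex_anti_left ?_ _
    exact fun y hy => b.mem_FixG_of (b.V'_le_Fix_F hy.2) hy.1
  have h3 := relIndex_pos X (c.Umod (P 0) (P 1))
  have h4 := relIndex_mono_right (c.Fix (P 0) (P 1) (E 0)) (le_sup_left : c.Vx (c.act h (P 1)) ≤ X)
  have h5 := b.relIndex_Fix_le
  have := c.one_lt
  nlinarith

/-- `[U, E 0] ≤ Fix (E 0)`. -/
theorem comm_Umod_E0 {u s : Γ} (hu : u ∈ c.Umod (P 0) (P 1)) (hs : s ∈ E 0) :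
    ⁅u, s⁆ ∈ c.Fix (P 0) (P 1) (E 0) := by
  have hV0 : c.Vx (P 0) ≤ c.Fix (P 0) (P 1) (E 0) :=
    b.Vx_le_Fix.trans (fixMod_anti fun t ht => b.E0_le ht)
  obtain ⟨x, hx, f, hf, rfl⟩ := b.Umod_decomp hu
  rw [comm_mul_left]
  refine mul_mem (hV0 ?_) ?_
  · exact (Subgroup.mem_normalizer_iff.1 (b.Umod_normV (b.V'_le_Umod hx)) _).1 (hf.2.2 s hs)
  · rw [← b.sup2] at hs
    obtain ⟨y, hy, q, hq, rfl⟩ :=
      exists_mul_of_mem_sup ((b.V2_le_E0.trans b.E0_le).trans (c.Gx_le_normalizer_Qx _)) hs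
    rw [comm_mul_right]
    refine mul_mem (b.comm_mem_Fix hx hy) (hV0 ?_)
    exact (Subgroup.mem_normalizer_iff.1 (c.Gx_le_normalizer_Vx _ (b.E0_le (b.V2_le_E0 hy))) _).1
      (b.Umod_comm_Q0 (b.V'_le_Umod hx) hq)

/-- A point fixed by a Sylow subgroup and fixed modulo the fixed points is fixed. -/
theorem fixed_of_fixed_mod {H : Subgroup Γ} (hH : H ≤ c.Gx (P 0)) {t : Γ} (ht : t ∈ c.Gx (P 0))
    (hgen : H ⊔ cj t H = c.Gx (P 0)) {a : Γ} (ha : a ∈ c.Fix (P 0) (P 1) H)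
    (hmod : ∀ g ∈ c.Gx (P 0), ⁅a, g⁆ ∈ c.Fix (P 0) (P 1) (c.Gx (P 0))) :
    a ∈ c.Fix (P 0) (P 1) (c.Gx (P 0)) := by
  have h2 : a ∈ c.Fix (P 0) (P 1) (cj t H) := by
    refine ⟨ha.1, ha.2.1, fun s hs => ?_⟩
    have hs' := mem_cj.1 hs
    have hd : ⁅t⁻¹, a⁆ ∈ c.Fix (P 0) (P 1) (c.Gx (P 0)) := comm_symm_mem (hmod _ (inv_mem ht))
    have h3 : ⁅⁅t⁻¹, a⁆ * a, t⁻¹ * s * t⁆ ∈ c.Vx (P 0) := by
      rw [comm_mul_left]
      exact mul_mem ((Subgroup.mem_normalizer_iff.1 (b.Umod_normV hd.1) _).1 (ha.2.2 _ hs'))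
        (hd.2.2 _ (hH hs'))
    have e : ⁅a, s⁆ = t * ⁅⁅t⁻¹, a⁆ * a, t⁻¹ * s * t⁆ * t⁻¹ := by
      simp [commutatorElement_def, mul_assoc]
    rw [e]
    exact (Subgroup.mem_normalizer_iff.1 (c.Gx_le_normalizer_Vx _ ht) _).1 h3
  have hcjH : cj t H ≤ c.Gx (P 0) :=
    (cj_mono t hH).trans_eq (cj_eq_of_le_normalizer (Subgroup.le_normalizer ht))
  have h4 := mem_fixMod_sup (hH.trans (c.Gx_le_normalizer_Vx _)) (hcjH.trans (c.Gx_le_normalizer_Vx _)) ha h2
  rwa [hgen] at h4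

theorem mem_FixE0_of_fixed_mod {u : Γ} (hu : u ∈ c.Umod (P 0) (P 1))
    (hmod : ∀ s ∈ E 0, ⁅u, s⁆ ∈ c.Fix (P 0) (P 1) (c.Gx (P 0))) : u ∈ c.Fix (P 0) (P 1) (E 0) := by
  have hGN : ∀ {g}, g ∈ c.Gx (P 0) → g ∈ Subgroup.normalizer (c.Fix (P 0) (P 1) (c.Gx (P 0)) : Set Γ) :=
    fun hg => b.Fix_normal hg
  obtain ⟨x, hx, f, hf, rfl⟩ := b.Umod_decomp hu
  refine mul_mem ?_ hf
  refine fixMod_anti (fun s hs => b.E0_le hs) ?_
  have hxG := b.Umod_le_G0 (b.V'_le_Umod hx)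
  have hxF := b.V'_le_Fix_F hx
  refine b.fixed_of_fixed_mod b.F_le (inv_mem b.mem) (by rw [cj_inv_cj]; exact b.opp) hxF fun g hg => ?_
  have hle : cj h (E 0) ⊔ E 0 ≤ fixMod ⊤ (c.Fix (P 0) (P 1) (c.Gx (P 0))) {x} := sup_le
    (fun s hs => ⟨trivial, hGN (b.F_le hs), fun z hz => by
      rw [Set.mem_singleton_iff.1 hz]; exact b.Vx_le_Fix (comm_symm_mem (hxF.2.2 s hs))⟩)
    (fun s hs => ⟨trivial, hGN (b.E0_le hs), fun z hz => by
      rw [Set.mem_singleton_iff.1 hz]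
      have h1 := hmod s hs
      rw [comm_mul_left] at h1
      have h2 : x * ⁅f, s⁆ * x⁻¹ ∈ c.Fix (P 0) (P 1) (c.Gx (P 0)) :=
        (Subgroup.mem_normalizer_iff.1 (hGN hxG) _).1 (b.Vx_le_Fix (hf.2.2 s hs))
      have h3 := mul_mem (inv_mem h2) h1
      rw [inv_mul_cancel_left] at h3
      exact comm_symm_mem h3⟩)
  rw [b.opp] at hle
  exact comm_symm_mem ((hle hg).2.2 x rfl)

/-- There are no fixed points in `U` modulo the fixed points. -/
theorem noFix_Umod {u : Γ} (hu : u ∈ c.Umod (P 0) (P 1))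
    (hmod : ∀ g ∈ c.Gx (P 0), ⁅u, g⁆ ∈ c.Fix (P 0) (P 1) (c.Gx (P 0))) :
    u ∈ c.Fix (P 0) (P 1) (c.Gx (P 0)) :=
  b.fixed_of_fixed_mod b.E0_le b.mem (by rw [sup_comm]; exact b.opp)
    (b.mem_FixE0_of_fixed_mod hu fun s hs => hmod s (b.E0_le hs)) hmod

/-- The core is moved into `U`. -/
theorem comm_core_Umod {q y : Γ} (hq : q ∈ c.Qx (P 0)) (hy : y ∈ c.Vx (P 2)) :
    ⁅q, y⁆ ∈ c.Umod (P 0) (P 1) := by
  have hyG := b.E0_le (b.V2_le_E0 hy)
  have hqE : q ∈ c.Vx (c.act h (P 1)) ⊔ c.Qx (P 1) := b.sup1'.ge (c.Qx_le_syl b.step0.syl_left hq)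
  obtain ⟨v, hv, q₁, hq₁, rfl⟩ := exists_mul_of_mem_sup
    ((b.V'_le_E0.trans (c.syl_le_Gx b.step0.syl_right)).trans (c.Gx_le_normalizer_Qx _)) hqE
  have hq₁E : q₁ ∈ c.Vx (P 0) ⊔ c.Qx (P 2) := b.sup2'.ge (c.Qx_le_syl b.step1.syl_left hq₁)
  obtain ⟨w, hw, q₂, hq₂, rfl⟩ := exists_mul_of_mem_sup
    ((le_sup_left.trans_eq b.sup2').trans ((c.syl_le_Gx b.step1.syl_right).trans (c.Gx_le_normalizer_Qx _))) hq₁E
  rw [comm_mul_left v, comm_mul_left w, commute_comm_one (c.commute_Vx hy hq₂).symm, mul_one, mul_inv_cancel,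
    one_mul]
  refine mul_mem (mul_mem (mul_mem (b.V'_le_Umod hv) ?_) (inv_mem (b.V'_le_Umod hv)))
    (b.Umod_comm_G0 (b.V'_le_Umod hv) hyG)
  exact b.Umod_comm_G0 (c.Vx_le_Umod _ _ hw) hyG

end Bad

end Conf

variable {G : Type*} [Group G] [Finite G] {p : ℕ} [hp : Fact p.Prime] {F : Type*} [Field F] [Fintype F]
  {S : Sylow p G} {π : G →* Matrix.ProjectiveSpecialLinearGroup (Fin 2) F} {n : ℕ}

/-- The copy of `G` at a vertex, adapted to one of its Sylow subgroups. -/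
structure Frame (h : Hyp S π n) (hel : ∀ z ∈ zSyl S, z ^ p = 1) (hnc : ¬ zSyl S ≤ Subgroup.center G)
    (f : G →* Equiv.Perm G) (v : (conf h hel hnc).Vtx) (E : Subgroup (Equiv.Perm G)) : Prop where
  inj : Function.Injective f
  syl : (S : Subgroup G).map f = E
  core : (pCore p G).map f = (conf h hel hnc).Qx v
  module : (vSyl S).map f = (conf h hel hnc).Vx v
  whole : (⊤ : Subgroup G).map f = (conf h hel hnc).Gx v

variable {h : Hyp S π n} {hel : ∀ z ∈ zSyl S, z ^ p = 1} {hnc : ¬ zSyl S ≤ Subgroup.center G}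

theorem exists_frame {v : (conf h hel hnc).Vtx} {E : Subgroup (Equiv.Perm G)}
    (hE : (conf h hel hnc).Syl v E) : ∃ f, Frame h hel hnc f v E := by
  obtain ⟨g, hg, rfl⟩ := hE
  refine ⟨(MulAut.conj g).toMonoidHom.comp (regHom G),
    (MulAut.conj g).injective.comp regHom_injective, ?_, ?_, ?_, ?_⟩
  · rw [← Subgroup.map_map]; rfl
  · rw [← Subgroup.map_map, Conf.Qx_eq _ hg]; rfl
  · rw [← Subgroup.map_map, Conf.Vx_eq _ hg]; rfl
  · rw [← Subgroup.map_map, Conf.Gx_eq _ hg]; rfl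

namespace Frame

variable {f : G →* Equiv.Perm G} {v : (conf h hel hnc).Vtx} {E : Subgroup (Equiv.Perm G)}
  (fr : Frame h hel hnc f v E)
include fr

theorem mem_syl {x : G} : f x ∈ E ↔ x ∈ (S : Subgroup G) := by
  rw [← fr.syl]; exact Subgroup.mem_map_iff_mem fr.inj

theorem mem_core {x : G} : f x ∈ (conf h hel hnc).Qx v ↔ x ∈ pCore p G := by
  rw [← fr.core]; exact Subgroup.mem_map_iff_mem fr.inj

theorem mem_module {x : G} : f x ∈ (conf h hel hnc).Vx v ↔ x ∈ vSyl S := by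
  rw [← fr.module]; exact Subgroup.mem_map_iff_mem fr.inj

theorem mem_all (x : G) : f x ∈ (conf h hel hnc).Gx v :=
  fr.whole ▸ Subgroup.mem_map_of_mem f (Subgroup.mem_top x)

theorem exists_preimage {y : Equiv.Perm G} (hy : y ∈ (conf h hel hnc).Gx v) : ∃ x, f x = y := by
  rw [← fr.whole] at hy
  obtain ⟨x, -, rfl⟩ := hy
  exact ⟨x, rfl⟩

theorem mem_Zc {x : G} : f x ∈ Conf.Zc E ↔ x ∈ zSyl S := by
  constructor
  · rintro ⟨hx, hxc⟩
    refine ⟨fr.mem_syl.1 hx, Subgroup.mem_centralizer_iff.2 fun t ht => fr.inj ?_⟩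
    rw [map_mul, map_mul]
    exact Subgroup.mem_centralizer_iff.1 hxc _ (fr.mem_syl.2 ht)
  · rintro ⟨hx, hxc⟩
    refine ⟨fr.mem_syl.2 hx, Subgroup.mem_centralizer_iff.2 ?_⟩
    rw [← fr.syl]
    rintro _ ⟨t, ht, rfl⟩
    rw [← map_mul, ← map_mul, Subgroup.mem_centralizer_iff.1 hxc t ht]

/-- A normal subgroup seen through the frame. -/
theorem normal_comap {U : Subgroup (Equiv.Perm G)}
    (hU : (conf h hel hnc).Gx v ≤ Subgroup.normalizer (U : Set (Equiv.Perm G))) : (U.comap f).Normal :=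
  ⟨fun x hx g => by
    rw [Subgroup.mem_comap, map_mul, map_mul, map_inv]
    exact (Subgroup.mem_normalizer_iff.1 (hU (fr.mem_all g)) _).1 hx⟩

theorem comap_sup_eq {Y : Subgroup (Equiv.Perm G)} (hY : Y ⊔ (conf h hel hnc).Qx v = E) :
    Y.comap f ⊔ pCore p G = (S : Subgroup G) := by
  have hYr : Y ≤ f.range := by
    refine (le_sup_left.trans_eq hY).trans ?_
    rw [← fr.syl]
    exact Subgroup.map_le_range _ _
  apply Subgroup.map_injective fr.inj
  rw [Subgroup.map_sup, Subgroup.map_comap_eq_self hYr, fr.core, fr.syl]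
  exact hY

end Frame

theorem Frame.mem_central {f : G →* Equiv.Perm G} {v : (conf h hel hnc).Vtx} {E : Subgroup (Equiv.Perm G)}
    (fr : Frame h hel hnc f v E) {x : G}
    (hx : f x ∈ (conf h hel hnc).Vx v ⊓ (conf h hel hnc).Cx v) : x ∈ vSyl S ⊓ Subgroup.center G :=
  ⟨fr.mem_module.1 hx.1, Subgroup.mem_center_iff.2 fun g => fr.inj (by
    rw [map_mul, map_mul]
    exact Subgroup.mem_centralizer_iff.1 hx.2 _ (fr.mem_all g))⟩

/-- Elements of order prime to `p` act trivially on the core modulo `N`. -/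
theorem residual_trick (h : Hyp S π n) (N : Subgroup G) [hN : N.Normal] {Y : Subgroup G}
    (hsup : Y ⊔ pCore p G = (S : Subgroup G)) (hcomm : ∀ q ∈ pCore p G, ∀ y ∈ Y, ⁅q, y⁆ ∈ N) :
    ∀ q ∈ pCore p G, ∀ x ∈ pResidual p G, ⁅q, x⁆ ∈ N := by
  haveI hQn := pCore_normal p G
  set Q := pCore p G with hQ
  have hnorm : ∀ x : G, x ∈ Subgroup.normalizer (N : Set G) := fun x => by
    rw [Subgroup.normalizer_eq_top_iff.2 inferInstance]; trivial
  set T := fixMod ⊤ N (Q : Set G) with hT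
  haveI : T.Normal := ⟨fun x hx g => ⟨trivial, hnorm _, fun q hq => by
    have h1 := hx.2.2 (g⁻¹ * q * g) (by simpa using hQn.conj_mem q hq g⁻¹)
    rw [show ⁅g * x * g⁻¹, q⁆ = g * ⁅x, g⁻¹ * q * g⁆ * g⁻¹ by simp [commutatorElement_def, mul_assoc]]
    exact hN.conj_mem _ h1 g⟩⟩
  set M := Subgroup.normalClosure (Y : Set G) with hM
  have hMT : M ≤ T := Subgroup.normalClosure_le_normal fun y hy =>
    ⟨trivial, hnorm _, fun q hq => comm_symm_mem (hcomm q hq y hy)⟩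
  have htop : M ⊔ Q = ⊤ := h.eq_top_of_normal _ (hsup.ge.trans
    (sup_le (le_sup_of_le_left fun w hw => Subgroup.subset_normalClosure hw) le_sup_right))
  have hK : pResidual p G ≤ T := by
    rw [pResidual, Subgroup.closure_le]
    intro x hx
    refine hMT ((QuotientGroup.eq_one_iff x).1 ?_)
    set φ := QuotientGroup.mk' M with hφ
    obtain ⟨m, hm, q, hq, hmq⟩ :=
      exists_mul_of_mem_sup (fun y _ => by rw [Subgroup.normalizer_eq_top_iff.2 hQn]; trivial)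
        (htop.ge (Subgroup.mem_top x))
    have hxq : φ x = φ q := by
      rw [← hmq, map_mul, show φ m = 1 from (QuotientGroup.eq_one_iff m).2 hm, one_mul]
    obtain ⟨k, hk⟩ := (CfsgLib.LocalP.isPGroup_pCore (G := G) (p := p)) ⟨q, hq⟩
    have h1 : orderOf (φ x) ∣ p ^ k := orderOf_dvd_of_pow_eq_one (by
      rw [hxq, ← map_pow, show q ^ p ^ k = 1 from congrArg Subtype.val hk, map_one])
    exact orderOf_eq_one_iff.1 (Nat.Coprime.eq_one_of_dvd
      (((hx : Nat.Coprime (orderOf x) p).coprime_dvd_left (orderOf_map_dvd φ x)).pow_right k) h1)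
  exact fun q hq x hx => comm_symm_mem ((hK hx).2.2 q hq)

/-- The commutator of the module with the Sylow subgroup is central in it. -/
theorem comm_vSyl_sylow {k : ℕ} (hk : (conf h hel hnc).IsB k) (ho : (conf h hel hnc).Open) {u s : G}
    (hu : u ∈ vSyl S) (hs : s ∈ (S : Subgroup G)) : ⁅u, s⁆ ∈ zSyl S := by
  obtain ⟨P, E, hc, -⟩ := hk.exists_good ho
  obtain ⟨f, fr⟩ := exists_frame (hc.1 0 hk.pos).syl_left
  refine fr.mem_Zc.1 ?_
  rw [map_commutatorElement]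
  exact hk.commutator_syl_le_Zc hc (Subgroup.commutator_mem_commutator (fr.mem_module.2 hu) (fr.mem_syl.2 hs))

theorem relIndex_vSyl {k : ℕ} (hk : (conf h hel hnc).IsB k) (ho : (conf h hel hnc).Open) :
    (vSyl S ⊓ Subgroup.centralizer ((S : Subgroup G) : Set G)).relIndex (vSyl S) = p ^ n := by
  obtain ⟨P, E, hc, -⟩ := hk.exists_good ho
  obtain ⟨f, fr⟩ := exists_frame (hc.1 0 hk.pos).syl_left
  rw [← Subgroup.relIndex_map_map_of_injective _ _ fr.inj, fr.module]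
  refine Eq.trans ?_ (hk.relIndex_Zc hc)
  congr 1
  ext y
  constructor
  · rintro ⟨x, ⟨hxV, hxc⟩, rfl⟩
    exact fr.mem_Zc.2 ⟨h.pCore_le_sylow ((vSyl_le h) hxV).1, hxc⟩
  · intro hy
    have hyV := Conf.Zc_le_Vx _ (hc.1 0 hk.pos).syl_left hy
    rw [← fr.module] at hyV
    obtain ⟨x, hx, rfl⟩ := hyV
    exact ⟨x, ⟨hx, (fr.mem_Zc.1 hy).2⟩, rfl⟩

/-- The module modulo its central part is a quadratic pair. -/
theorem quadPair_vSyl {k : ℕ} (hk : (conf h hel hnc).IsB k) (ho : (conf h hel hnc).Open) :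
    QuadPair S n (vSyl S) (vSyl S ⊓ Subgroup.center G) := by
  set V := vSyl S with hV
  set C := V ⊓ Subgroup.center G with hC
  set Zs := V ⊓ Subgroup.centralizer ((S : Subgroup G) : Set G) with hZs
  have hVQ : ∀ v ∈ V, ∀ x ∈ pCore p G, ⁅v, x⁆ = 1 := fun v hv x hx =>
    commute_comm_one (Subgroup.mem_centralizer_iff.1 ((vSyl_le h) hv).2 x hx).symm
  have hVV : ∀ u ∈ V, ∀ v ∈ V, ⁅u, v⁆ = 1 := fun u hu v hv => hVQ u hu v ((vSyl_le h) hv).1
  have hquad : ∀ u ∈ V, ∀ s ∈ (S : Subgroup G), ⁅u, s⁆ ∈ zSyl S := fun u hu s hs => comm_vSyl_sylow hk ho hu hs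
  have hidx : Zs.relIndex V = p ^ n := relIndex_vSyl hk ho
  obtain ⟨g, hg⟩ := exists_not_mem_mSyl h
  set Zg := cj g Zs with hZg
  have hgV : cj g V = V := cj_eq_of_le_normalizer (by
    rw [Subgroup.normalizer_eq_top_iff.2 inferInstance]; trivial)
  have hidx' : Zg.relIndex V = p ^ n := by
    conv_lhs => rw [← hgV]
    rw [hZg, relIndex_cj, hidx]
  have hgS : ∀ z ∈ Zg, ∀ t ∈ cj g (S : Subgroup G), ⁅z, t⁆ = 1 := fun z hz t ht => by
    have hz' : z ∈ Subgroup.centralizer (cj g (S : Subgroup G) : Set G) := by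
      rw [← cj_centralizer]; exact cj_mono g inf_le_right hz
    exact commute_comm_one (Subgroup.mem_centralizer_iff.1 hz' t ht).symm
  have hle : Zs ⊓ Zg ≤ C := by
    rintro x ⟨hx, hx'⟩
    refine ⟨hx.1, ?_⟩
    have h2 : (S : Subgroup G) ⊔ cj g (S : Subgroup G) ≤ Subgroup.centralizer ({x} : Set G) :=
      sup_le (fun t ht => Subgroup.mem_centralizer_singleton_iff.2 (Subgroup.mem_centralizer_iff.1 hx.2 t ht))
        (fun t ht => Subgroup.mem_centralizer_singleton_iff.2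
          (commute_of_comm_one (hgS x hx' t ht)).symm.eq)
    rw [sup_cj_sylow h hg] at h2
    exact Subgroup.mem_center_iff.2 fun t =>
      Subgroup.mem_centralizer_singleton_iff.1 (h2 (Subgroup.mem_top t))
  have hJ : V ≤ Zs ⊔ Zg := by
    set J := Zs ⊔ Zg with hJdef
    have hJV : J ≤ V := sup_le inf_le_left ((cj_mono g inf_le_left).trans_eq hgV)
    refine Subgroup.relIndex_eq_one.1 ?_
    have h1 := h.sq_le_relIndex_center V (isPGroup_vSyl h) (centralizer_vSyl_ne h hnc)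
    have h2 : C.relIndex V ≤ Zg.relIndex Zs * Zs.relIndex V := by
      rw [← Subgroup.inf_relIndex_left Zs Zg,
        Subgroup.relIndex_mul_relIndex _ _ _ inf_le_left inf_le_left]
      exact relIndex_anti_left hle _
    have h3 := Subgroup.relIndex_mul_relIndex Zg J V le_sup_right hJV
    have h4 := relIndex_mono_right Zg (le_sup_left : Zs ≤ J)
    have h5 := relIndex_pos J V
    have h6 : 0 < p ^ n := pow_pos hp.out.pos n
    rw [hidx] at h2
    rw [hidx'] at h3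
    have h7 : p ^ n ≤ Zg.relIndex Zs := Nat.le_of_mul_le_mul_right (by rw [← sq]; exact h1.trans h2) h6
    have h8 : p ^ n ≤ Zg.relIndex J := h7.trans h4
    nlinarith
  haveI : C.Normal := inferInstance
  refine ⟨inferInstance, inferInstance, inf_le_left, fun u hu v hv => ?_, fun u hu x hx => ?_,
    fun u hu s hs s' hs' => ?_, fun u hu hu' => ?_, ?_, fun hle' => hnc fun z hz => ?_⟩
  · rw [hVV u hu v hv]; exact one_mem _
  · rw [hVQ u hu x hx]; exact one_mem _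
  · rw [commute_comm_one (Subgroup.mem_centralizer_iff.1 (hquad u hu s hs).2 s' hs').symm]
    exact one_mem _
  · have hgen : ∀ (H : Subgroup G), (∀ N : Subgroup G, N.Normal → H ≤ N → N = ⊤) → ∀ z ∈ V,
        (∀ t ∈ H, ⁅z, t⁆ = 1) → (∀ t, ⁅z, t⁆ ∈ C) → z ∈ C := by
      intro H hH z hz h1 hz'
      have hcz : ∀ t t', Commute t' ⁅z, t⁆ := fun t t' => (Subgroup.mem_center_iff.1 (hz' t).2 t')
      let χ : G →* G :=
        { toFun := fun t => ⁅z, t⁆
          map_one' := commutatorElement_one_right z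
          map_mul' := fun a b => by rw [comm_mul_right, (hcz b a).eq, mul_inv_cancel_right] }
      have h2 := hH χ.ker inferInstance fun t ht => h1 t ht
      refine ⟨hz, Subgroup.mem_center_iff.2 fun t => ?_⟩
      exact (commute_of_comm_one (show ⁅z, t⁆ = 1 from MonoidHom.mem_ker.1 (h2.ge (Subgroup.mem_top t)))).symm.eq
    obtain ⟨a, ha, b, hb, rfl⟩ := exists_mul_of_mem_sup (fun x hx => by
      rw [Subgroup.mem_normalizer_iff]
      intro y
      constructor <;> intro hy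
      · have hyV : y ∈ V := hgV.le (cj_mono g inf_le_left hy)
        rwa [show x * y * x⁻¹ = y by
          rw [(commute_of_comm_one (hVV x hx.1 y hyV)).eq, mul_inv_cancel_right]]
      · have hyV : y ∈ V := by
          have := V.mul_mem (V.mul_mem (V.inv_mem hx.1) (hgV.le (cj_mono g inf_le_left hy))) hx.1
          simpa [mul_assoc] using this
        rwa [show x * y * x⁻¹ = y by
          rw [(commute_of_comm_one (hVV x hx.1 y hyV)).eq, mul_inv_cancel_right]] at hy) (hJ hu)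
    have hbV : b ∈ V := hgV.le (cj_mono g inf_le_left hb)
    have hsplit : ∀ t, ⁅a * b, t⁆ = a * ⁅b, t⁆ * a⁻¹ * ⁅a, t⁆ := fun t => comm_mul_left a b t
    set T := fixMod ⊤ C ({a} : Set G) with hT
    have hnC : ∀ t : G, t ∈ Subgroup.normalizer (C : Set G) := fun t => by
      rw [Subgroup.normalizer_eq_top_iff.2 inferInstance]; trivial
    have haC : ∀ t, ⁅a, t⁆ ∈ C := fun t => by
      have hle : (S : Subgroup G) ⊔ cj g (S : Subgroup G) ≤ T := sup_le
        (fun s hs => ⟨trivial, hnC s, fun z hz => by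
          rw [Set.mem_singleton_iff.1 hz,
            commute_comm_one (Subgroup.mem_centralizer_iff.1 ha.2 s hs)]
          exact one_mem _⟩)
        (fun s hs => ⟨trivial, hnC s, fun z hz => by
          rw [Set.mem_singleton_iff.1 hz]
          have := hu' s
          rw [hsplit, hgS b hb s hs, mul_one, mul_inv_cancel, one_mul] at this
          exact comm_symm_mem this⟩)
      rw [sup_cj_sylow h hg] at hle
      exact comm_symm_mem ((hle (Subgroup.mem_top t)).2.2 a rfl)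
    have hbC : ∀ t, ⁅b, t⁆ ∈ C := fun t => by
      have h1 := mul_mem (hu' t) (inv_mem (haC t))
      rw [hsplit, mul_inv_cancel_right] at h1
      simpa [mul_assoc] using (inferInstance : C.Normal).conj_mem _ h1 a⁻¹
    refine mul_mem (hgen _ (fun N hN hSN => @Hyp.eq_top_of_normal _ _ _ _ _ _ _ _ _ _ _ h N hN hSN) a ha.1
      (fun t ht => commute_comm_one (Subgroup.mem_centralizer_iff.1 ha.2 t ht).symm) haC)
      (hgen _ (fun N hN hSN => ?_) b hbV (hgS b hb) hbC)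
    haveI := hN
    refine h.eq_top_of_normal N fun s hs => ?_
    simpa [mul_assoc] using hN.conj_mem _ (hSN (conj_mem_cj hs)) g⁻¹
  · refine (relIndex_anti_left ?_ V).trans_eq hidx
    intro z hz
    refine ⟨hz.1, ?_, fun s hs => ?_⟩
    · rw [Subgroup.normalizer_eq_top_iff.2 inferInstance]; trivial
    · rw [commute_comm_one (Subgroup.mem_centralizer_iff.1 hz.2 s hs).symm]; exact one_mem _
  · exact (hle' (zSyl_le_vSyl hz)).2

/-- Distance one: the core is centralised modulo the module by elements of order prime to `p`. -/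
theorem layer_one (hk : (conf h hel hnc).IsB 1) (ho : (conf h hel hnc).Open) :
    ∀ q ∈ pCore p G, ∀ x ∈ pResidual p G, ⁅q, x⁆ ∈ vSyl S := by
  obtain ⟨P, E, hc, -⟩ := hk.exists_good ho
  obtain ⟨f, fr⟩ := exists_frame (hc.1 0 hk.pos).syl_left
  refine residual_trick h _ (fr.comap_sup_eq (hk.sup_eq hc)) fun q hq y hy => ?_
  refine fr.mem_module.1 ?_
  rw [map_commutatorElement]
  exact hk.comm_core_one hc (fr.mem_core.2 hq) hy

/-- The second layer of the core. -/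
structure Layer2 (S : Sylow p G) (n : ℕ) (U N : Subgroup G) : Prop where
  pair : QuadPair S n U N
  module_le : vSyl S ≤ N
  le_core : U ≤ pCore p G
  fixed : ∀ x ∈ N, ∀ g : G, ⁅x, g⁆ ∈ vSyl S
  residual : ∀ q ∈ pCore p G, ∀ x ∈ pResidual p G, ⁅q, x⁆ ∈ U
  central : ∀ u ∈ U, ∀ q ∈ pCore p G, ⁅u, q⁆ ∈ vSyl S ⊓ Subgroup.center G
  top : ∀ u ∈ U, (∀ s ∈ (S : Subgroup G), ⁅u, s⁆ ∈ N) →
    ∃ l ∈ U, ∃ d ∈ N, l * d = u ∧ ∀ s ∈ (S : Subgroup G), ⁅l, s⁆ ∈ vSyl S ⊓ Subgroup.center G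

/-- Distance two: the second layer. -/
theorem Frame.layer_two {P : ℕ → (conf h hel hnc).Vtx} {E : ℕ → Subgroup (Equiv.Perm G)}
    {t : Equiv.Perm G} (b : (conf h hel hnc).Bad P E t) {f : G →* Equiv.Perm G}
    (fr : Frame h hel hnc f (P 0) (E 0)) :
    Layer2 S n (((conf h hel hnc).Umod (P 0) (P 1)).comap f)
      (((conf h hel hnc).Fix (P 0) (P 1) ((conf h hel hnc).Gx (P 0))).comap f) := by
  set U := ((conf h hel hnc).Umod (P 0) (P 1)).comap f with hU
  set N := ((conf h hel hnc).Fix (P 0) (P 1) ((conf h hel hnc).Gx (P 0))).comap f with hN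
  haveI hUn : U.Normal := fr.normal_comap b.Umod_normal
  haveI hNn : N.Normal := fr.normal_comap b.Fix_normal
  have hUQ : U ≤ pCore p G := fun x hx => fr.mem_core.1 (b.Umod_le_Q0 hx)
  have hVN : vSyl S ≤ N := fun x hx => b.Vx_le_Fix (fr.mem_module.2 hx)
  refine ⟨⟨hUn, hNn, fun x hx => hx.1, fun u hu v hv => ?_, fun u hu x hx => ?_,
    fun u hu s hs s' hs' => ?_, fun u hu hu' => ?_, ?_, fun hle => ?_⟩, hVN, hUQ, fun x hx g => ?_, ?_, fun u hu q hq => ?_, fun u hu hu' => ?_⟩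
  · refine hVN (fr.mem_module.1 ?_)
    rw [map_commutatorElement]
    exact b.Umod_comm_Q0 hu (b.Umod_le_Q0 hv)
  · refine hVN (fr.mem_module.1 ?_)
    rw [map_commutatorElement]
    exact b.Umod_comm_Q0 hu (fr.mem_core.2 hx)
  · refine hVN (fr.mem_module.1 ?_)
    rw [map_commutatorElement, map_commutatorElement]
    exact (b.comm_Umod_E0 hu (fr.mem_syl.2 hs)).2.2 _ (fr.mem_syl.2 hs')
  · refine b.noFix_Umod hu fun y hy => ?_
    obtain ⟨g, rfl⟩ := fr.exists_preimage hy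
    rw [← map_commutatorElement]
    exact hu' g
  · have h1 : (((conf h hel hnc).Fix (P 0) (P 1) (E 0)).comap f).relIndex U ≤ p ^ n := by
      rw [Subgroup.relIndex_comap, hU, Subgroup.map_comap_eq_self]
      · exact b.relIndex_Fix_le
      · refine b.Umod_le_G0.trans ?_
        rw [← fr.whole]
        exact Subgroup.map_le_range _ _
    refine (relIndex_anti_left ?_ U).trans h1
    intro u hu
    refine ⟨hu.1, ?_, fun s hs => hVN (fr.mem_module.1 ?_)⟩
    · rw [Subgroup.normalizer_eq_top_iff.2 hNn]; trivial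
    · rw [map_commutatorElement]
      exact hu.2.2 _ (fr.mem_syl.2 hs)
  · have h1 : (conf h hel hnc).Vx (P 1) ≤ (conf h hel hnc).Fix (P 0) (P 1) ((conf h hel hnc).Gx (P 0)) := fun w hw => by
      obtain ⟨x, rfl⟩ := fr.exists_preimage (b.Umod_le_G0 ((conf h hel hnc).Vx_le_Umod' _ _ hw))
      exact hle (show x ∈ U from (conf h hel hnc).Vx_le_Umod' _ _ hw)
    have h2 := b.le_relIndex_V1
    rw [Subgroup.relIndex_eq_one.2 h1] at h2
    exact absurd h2 (by have := (conf h hel hnc).one_lt; omega)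
  · refine fr.mem_module.1 ?_
    rw [map_commutatorElement]
    exact hx.2.2 _ (fr.mem_all g)
  · refine residual_trick h U (fr.comap_sup_eq b.sup2) fun q hq y hy => ?_
    show f ⁅q, y⁆ ∈ (conf h hel hnc).Umod (P 0) (P 1)
    rw [map_commutatorElement]
    exact b.comm_core_Umod (fr.mem_core.2 hq) hy
  · refine fr.mem_central ?_
    rw [map_commutatorElement]
    exact b.Umod_comm_C0 hu (fr.mem_core.2 hq)
  · have hfix : f u ∈ (conf h hel hnc).Fix (P 0) (P 1) (E 0) := b.mem_FixE0_of_fixed_mod hu fun s hs => by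
      rw [← fr.syl] at hs
      obtain ⟨s, hs, rfl⟩ := hs
      rw [← map_commutatorElement]
      exact hu' s hs
    obtain ⟨l, hl, d, hd, hld⟩ := b.decomp hfix
    obtain ⟨l, rfl⟩ := fr.exists_preimage (b.Umod_le_G0 ((conf h hel hnc).Vx_le_Umod' _ _ hl))
    obtain ⟨d, rfl⟩ := fr.exists_preimage (b.Umod_le_G0 hd.1)
    refine ⟨l, (conf h hel hnc).Vx_le_Umod' _ _ hl, d, hd, fr.inj (by rw [map_mul]; exact hld), fun s hs => fr.mem_central ?_⟩
    rw [map_commutatorElement]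
    exact b.comm_V1_E0 hl (fr.mem_syl.2 hs)

/-- Distance two: there is a second layer. -/
theorem exists_layer_two (hk : (conf h hel hnc).IsB 2) (ho : (conf h hel hnc).Open) :
    ∃ U N : Subgroup G, Layer2 S n U N := by
  obtain ⟨P, E, t, b⟩ := hk.exists_bad ho
  obtain ⟨f, fr⟩ := exists_frame b.step0.syl_left
  exact ⟨_, _, fr.layer_two b⟩

end CfsgLib.PushingUp44
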