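import Cfsg.Agent.PushingUp44.FixedSpace

/-!
A quadratic action with small fixed index is the natural `SL₂(q)`-module.
-/

set_option autoImplicit false

open Cfsg
open scoped MatrixGroups commutatorElement
open CfsgLib.PushingUp (upperT lowerT upperT_mul upperT_coe lowerT_coe)

namespace CfsgLib.PushingUp44

open CfsgLib.PushingUp (Hyp)

/-- The projection to `PSL₂`. -/
abbrev toPSL (F : Type*) [Field F] : SL(2, F) →* Matrix.ProjectiveSpecialLinearGroup (Fin 2) F :=
  QuotientGroup.mk' (Subgroup.center SL(2, F))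

/-- The standard element interchanging the two Sylow subgroups. -/
def weyl (F : Type*) [Field F] : SL(2, F) := ⟨!![0, -1; 1, 0], by simp [Matrix.det_fin_two]⟩

/-- Diagonal matrix. -/
def diagT {F : Type*} [Field F] (l : F) (hl : l ≠ 0) : SL(2, F) :=
  ⟨!![l, 0; 0, l⁻¹], by simp [Matrix.det_fin_two, hl]⟩

variable {F : Type*} [Field F]

theorem weyl_coe : ((weyl F : SL(2, F)) : Matrix (Fin 2) (Fin 2) F) = !![0, -1; 1, 0] := rfl

theorem diagT_coe (l : F) (hl : l ≠ 0) :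
    ((diagT l hl : SL(2, F)) : Matrix (Fin 2) (Fin 2) F) = !![l, 0; 0, l⁻¹] := rfl

theorem weyl_conj (t : F) : weyl F * upperT (-t) * (weyl F)⁻¹ = lowerT t := by
  rw [mul_inv_eq_iff_eq_mul]
  ext i j
  fin_cases i <;> fin_cases j <;>
    simp [weyl_coe, upperT_coe, lowerT_coe, Matrix.SpecialLinearGroup.coe_mul, Matrix.mul_apply, Fin.sum_univ_two]

theorem triple (t : F) (ht : t ≠ 0) :
    upperT t * lowerT (-t⁻¹) * upperT t = weyl F * diagT (-t⁻¹) (neg_ne_zero.2 (inv_ne_zero ht)) := by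
  ext i j
  fin_cases i <;> fin_cases j <;>
    simp [weyl_coe, diagT_coe, upperT_coe, lowerT_coe, Matrix.SpecialLinearGroup.coe_mul, Matrix.mul_apply,
      Fin.sum_univ_two, ht]

theorem diag_conj (l t : F) (hl : l ≠ 0) :
    diagT l hl * upperT t * (diagT l hl)⁻¹ = upperT (l ^ 2 * t) := by
  rw [mul_inv_eq_iff_eq_mul]
  ext i j
  fin_cases i <;> fin_cases j <;>
    simp [diagT_coe, upperT_coe, Matrix.SpecialLinearGroup.coe_mul, Matrix.mul_apply, Fin.sum_univ_two, sq] <;>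
    field_simp

theorem toPSL_diag_mem (l : F) (hl : l ≠ 0) :
    toPSL F (diagT l hl) ∈ Subgroup.normalizer ((upperSub F : Subgroup _) : Set _) := by
  refine mem_normalizer_of_cj_eq ?_
  have hinv : (diagT l hl)⁻¹ = diagT l⁻¹ (inv_ne_zero hl) := by
    refine inv_eq_of_mul_eq_one_right ?_
    ext i j
    fin_cases i <;> fin_cases j <;>
      simp [diagT_coe, Matrix.SpecialLinearGroup.coe_mul, Matrix.mul_apply, Fin.sum_univ_two, hl]
  apply le_antisymm
  · rintro _ ⟨_, ⟨t, rfl⟩, rfl⟩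
    refine ⟨Multiplicative.ofAdd (l ^ 2 * t.toAdd), ?_⟩
    show toPSL F (upperT (l ^ 2 * t.toAdd)) = toPSL F (diagT l hl) * toPSL F (upperT t.toAdd) * (toPSL F (diagT l hl))⁻¹
    rw [← map_inv, ← map_mul, ← map_mul, diag_conj]
  · rintro _ ⟨t, rfl⟩
    rw [mem_cj]
    refine ⟨Multiplicative.ofAdd (l⁻¹ ^ 2 * t.toAdd), ?_⟩
    show toPSL F (upperT (l⁻¹ ^ 2 * t.toAdd)) = (toPSL F (diagT l hl))⁻¹ * toPSL F (upperT t.toAdd) * toPSL F (diagT l hl)
    rw [← map_inv, ← map_mul, ← map_mul, hinv]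
    congr 1
    conv_rhs => rw [show diagT l hl = (diagT l⁻¹ (inv_ne_zero hl))⁻¹ by rw [← hinv, inv_inv]]
    rw [diag_conj]

theorem weyl_not_mem :
    toPSL F (weyl F) ∉ Subgroup.normalizer ((upperSub F : Subgroup _) : Set _) := by
  intro hw
  have h1 := (Subgroup.mem_normalizer_iff.1 hw (toPSL F (upperT (-1 : F)))).1 ⟨Multiplicative.ofAdd (-1 : F), rfl⟩
  rw [← map_inv, ← map_mul, ← map_mul, weyl_conj] at h1
  obtain ⟨t, ht⟩ := h1
  change toPSL F (upperT t.toAdd) = toPSL F (lowerT 1) at ht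
  rw [QuotientGroup.mk'_eq_mk'] at ht
  obtain ⟨z, hz, hzt⟩ := ht
  obtain ⟨r, -, hr⟩ := Matrix.SpecialLinearGroup.mem_center_iff.1 hz
  have h10 := congrArg (fun B : SL(2, F) => (B : Matrix (Fin 2) (Fin 2) F) 1 0) hzt
  simp [upperT_coe, lowerT_coe, Matrix.SpecialLinearGroup.coe_mul, Matrix.mul_apply, Fin.sum_univ_two,
    ← hr, Matrix.scalar_apply, Matrix.diagonal] at h10

/-- A scalar `2 × 2` matrix of determinant one and `p`-power order is one. -/
theorem center_pPower {p : ℕ} [Fact p.Prime] [CharP F p] {z : SL(2, F)}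
    (hz : z ∈ Subgroup.center SL(2, F)) (k : ℕ) (hzk : z ^ p ^ k = 1) : z = 1 := by
  obtain ⟨r, hr, hrz⟩ := Matrix.SpecialLinearGroup.mem_center_iff.1 hz
  have h1 := congrArg (fun B : SL(2, F) => (B : Matrix (Fin 2) (Fin 2) F) 0 0) hzk
  simp only [Matrix.SpecialLinearGroup.coe_pow, Matrix.SpecialLinearGroup.coe_one, ← hrz, ← map_pow] at h1
  simp [Matrix.scalar_apply] at h1
  have hr1 : r = 1 := by
    have h2 : (r - 1) ^ p ^ k = 0 := by rw [sub_pow_char_pow, one_pow, h1, sub_self]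
    exact sub_eq_zero.1 (pow_eq_zero_iff (pow_ne_zero k (Fact.out : p.Prime).ne_zero) |>.1 h2)
  apply Subtype.ext
  rw [← hrz, hr1]
  simp

variable [Fintype F] {G : Type*} [Group G] [Finite G] {p : ℕ} [hp : Fact p.Prime] {S : Sylow p G}
  {π : G →* Matrix.ProjectiveSpecialLinearGroup (Fin 2) F} {n : ℕ} {W : Type*} [AddCommGroup W] [Finite W]
  {h : Hyp S π n} {θ : G →* AddMonoid.End W}

omit [Finite W] in
theorem charP_field (h : Hyp S π n) : CharP F p := by
  obtain ⟨p', hc'⟩ := CharP.exists F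
  obtain ⟨n', hp', hq⟩ := FiniteField.card F p'
  rw [h.card] at hq
  obtain rfl : p = p' := (Nat.prime_dvd_prime_iff_eq hp.out hp').1
    (hp.out.dvd_of_dvd_pow (hq ▸ dvd_pow_self p (by have := h.one_le; omega : n ≠ 0)))
  exact hc'

omit [Finite W] in
theorem mSyl_iff (hU : (S : Subgroup G).map π = upperSub F) {x : G} :
    x ∈ mSyl S π ↔ π x ∈ Subgroup.normalizer ((upperSub F : Subgroup _) : Set _) := by
  rw [mSyl, Subgroup.mem_comap, hU]

namespace QAct

variable (Θ : QAct h θ)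
include Θ

local notation "AA" => fixSub θ ((S : Subgroup G) : Set G)

theorem map_fix_eq {g g' : G} (hgg : g⁻¹ * g' ∈ mSyl S π) {w : W} :
    θ g⁻¹ w ∈ AA ↔ θ g'⁻¹ w ∈ AA := by
  rw [show θ g⁻¹ w = θ (g⁻¹ * g') (θ g'⁻¹ w) by rw [← act_mul, show g⁻¹ * g' * g'⁻¹ = g⁻¹ by group]]
  exact (Θ.mSyl_le_stab hgg _).symm

/-- The coordinates and the lift. -/
theorem exists_rho (hU : (S : Subgroup G).map π = upperSub F) :
    ∃ (ρ : G →* SL(2, F)) (ψ : W ≃+ (Fin 2 → F)), Function.Surjective ρ ∧ (toPSL F).comp ρ = π ∧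
      ∀ g w, ψ (θ g w) = ((ρ g : SL(2, F)) : Matrix (Fin 2) (Fin 2) F).mulVec (ψ w) := by
  classical
  haveI := pCore_normal p G
  haveI hchar := charP_field h
  have hu : ∀ t : F, ∃ s ∈ (S : Subgroup G), π s = toPSL F (upperT t) := fun t => by
    have h1 : toPSL F (upperT t) ∈ (S : Subgroup G).map π := by
      rw [hU]; exact ⟨Multiplicative.ofAdd t, rfl⟩
    exact h1
  choose u huS huπ using hu
  obtain ⟨g0, hg0⟩ := h.surj (toPSL F (weyl F))
  have hg0M : g0 ∉ mSyl S π := fun hm => weyl_not_mem (F := F) (hg0 ▸ (mSyl_iff hU).1 hm)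
  obtain ⟨hA, hW, hdec⟩ := Θ.card_bounds hg0M
  set B : AddSubgroup W := (AA).map (θ g0) with hB
  have hBmem : ∀ w, w ∈ B ↔ θ g0⁻¹ w ∈ AA := fun w => by
    constructor
    · rintro ⟨a, ha, rfl⟩
      show θ g0⁻¹ (θ g0 a) ∈ AA
      rwa [act_inv']
    · intro hw
      exact ⟨_, hw, act_inv θ g0 w⟩
  have hAB : ∀ w, w ∈ AA → w ∈ B → w = 0 := fun w h1 h2 => Θ.inter_eq_zero hg0M h1 ((hBmem w).1 h2)
  -- root operators
  set X : F → AddMonoid.End W := fun t => θ (u t) - 1 with hX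
  have hXapp : ∀ t w, X t w = θ (u t) w - w := fun t w => rfl
  have hXA : ∀ t w, X t w ∈ AA := fun t w => Θ.quad _ (huS t) w
  have hXfix : ∀ t, ∀ a ∈ AA, X t a = 0 := fun t a ha => by rw [hXapp, ha _ (huS t), sub_self]
  have hθu : ∀ t w, θ (u t) w = w + X t w := fun t w => by rw [hXapp]; abel
  have hθS : ∀ s ∈ (S : Subgroup G), ∀ t : F, π s = toPSL F (upperT t) → ∀ w, θ s w = θ (u t) w := by
    intro s hs t hst w
    have h1 : s⁻¹ * u t ∈ pCore p G := h.inf_ker.le ⟨Subgroup.mul_mem _ (Subgroup.inv_mem _ hs) (huS t), by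
      show π (s⁻¹ * u t) = 1
      rw [map_mul, map_inv, hst, huπ, inv_mul_cancel]⟩
    conv_rhs => rw [show u t = s * (s⁻¹ * u t) by group, act_mul, Θ.core _ h1]
  have hXadd : ∀ s t w, X (s + t) w = X s w + X t w := by
    intro s t w
    have h1 := hθS (u s * u t) (Subgroup.mul_mem _ (huS s) (huS t)) (s + t)
      (by rw [map_mul, huπ, huπ, ← map_mul, upperT_mul]) w
    rw [hXapp, ← h1, act_mul, hθu t, map_add, hθu s w, hθu s (X t w), hXfix s _ (hXA t w)]
    abel
  set l : F → G := fun t => g0 * u (-t) * g0⁻¹ with hl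
  have hlπ : ∀ t, π (l t) = toPSL F (lowerT t) := fun t => by
    rw [hl, map_mul, map_mul, map_inv, hg0, huπ, ← map_inv, ← map_mul, ← map_mul, weyl_conj]
  set Y : F → AddMonoid.End W := fun t => θ (l t) - 1 with hY
  have hYapp : ∀ t w, Y t w = θ (l t) w - w := fun t w => rfl
  have hYX : ∀ t w, Y t w = θ g0 (X (-t) (θ g0⁻¹ w)) := fun t w => by
    rw [hYapp, hXapp, map_sub, act_inv, hl, act_mul, act_mul]
  have hYB : ∀ t w, Y t w ∈ B := fun t w => by rw [hYX]; exact ⟨_, hXA _ _, rfl⟩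
  have hYfix : ∀ t, ∀ b ∈ B, Y t b = 0 := fun t b hb => by
    rw [hYX, hXfix _ _ ((hBmem b).1 hb), map_zero]
  have hYadd : ∀ s t w, Y (s + t) w = Y s w + Y t w := fun s t w => by
    rw [hYX, hYX, hYX, neg_add, hXadd, map_add]
  have hθl : ∀ t w, θ (l t) w = w + Y t w := fun t w => by rw [hYapp]; abel
  -- the relation from the Bruhat triple
  have hXY : ∀ t : F, t ≠ 0 → ∀ a ∈ AA, X t (Y t⁻¹ a) = a := by
    intro t ht a ha
    set m := u t * l (-t⁻¹) * u t with hm
    have hmg : g0⁻¹ * m ∈ mSyl S π := by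
      rw [mSyl_iff hU, hm, map_mul, map_mul, map_mul, huπ, hlπ, map_inv, hg0, ← map_mul, ← map_mul, triple t ht,
        map_mul, inv_mul_cancel_left]
      exact toPSL_diag_mem _ _
    have h1 : θ m a ∈ B := (hBmem _).2 ((Θ.map_fix_eq hmg).2 (by rwa [act_inv']))
    have h2 : θ m a = a + Y (-t⁻¹) a + X t (Y (-t⁻¹) a) := by
      rw [hm, act_mul, act_mul, ha _ (huS t), hθl, map_add, ha _ (huS t), hθu]
      abel
    have h3 : a + X t (Y (-t⁻¹) a) ∈ B := by
      have := sub_mem h1 (hYB (-t⁻¹) a)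
      rwa [h2, show a + Y (-t⁻¹) a + X t (Y (-t⁻¹) a) - Y (-t⁻¹) a = a + X t (Y (-t⁻¹) a) by abel] at this
    have h4 := hAB _ (add_mem ha (hXA _ _)) h3
    have h5 : Y (-t⁻¹) a = - Y t⁻¹ a := by
      rw [eq_neg_iff_add_eq_zero, ← hYadd, neg_add_cancel]
      have := hYadd 0 0 a
      rw [add_zero] at this
      exact left_eq_add.1 this
    rw [h5, map_neg, ← sub_eq_add_neg, sub_eq_zero] at h4
    exact h4.symm
  have hXinj : ∀ t : F, t ≠ 0 → ∀ b ∈ B, X t b = 0 → b = 0 := by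
    intro t ht b hb hb0
    refine hAB b (Θ.fixed_single (huS t) (fun hQ => ht ?_) (sub_eq_zero.1 hb0)) hb
    have h6 := h.pCore_le_ker hQ
    rw [MonoidHom.mem_ker, huπ] at h6
    exact Multiplicative.ofAdd.injective (upperHom_injective (F := F)
      (show upperHom (Multiplicative.ofAdd t) = upperHom (Multiplicative.ofAdd 0) by
        rw [ofAdd_zero, map_one]; exact h6))
  -- the scalar ring
  let φ : F → AddMonoid.End ↥(AA) := fun t =>
    { toFun := fun a => ⟨X t (Y 1 a), hXA _ _⟩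
      map_zero' := by ext; simp
      map_add' := fun a b => by ext; simp }
  have hφ : ∀ t (a : AA), ((φ t a : AA) : W) = X t (Y 1 a) := fun t a => rfl
  have hY1 : ∀ t : F, t ≠ 0 → ∀ a ∈ AA, Y 1 (X 1 (Y t a)) = Y t a := by
    intro t ht a ha
    have h1 : X 1 (Y 1 (X 1 (Y t a))) = X 1 (Y t a) := by
      have := hXY 1 one_ne_zero _ (hXA 1 (Y t a))
      rwa [inv_one] at this
    exact sub_eq_zero.1 (hXinj 1 one_ne_zero _ (sub_mem (hYB _ _) (hYB _ _)) (by rw [map_sub, h1, sub_self]))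
  have hψ : ∀ t : F, t ≠ 0 → ∀ a : AA, φ t ⟨X 1 (Y t⁻¹ a), hXA _ _⟩ = a := by
    intro t ht a
    apply Subtype.ext
    rw [hφ]
    show X t (Y 1 (X 1 (Y t⁻¹ a))) = a
    rw [hY1 _ (inv_ne_zero ht) a a.2, hXY t ht a a.2]
  have hφ1 : φ 1 = 1 := by
    ext a
    have := hXY 1 one_ne_zero a a.2
    rw [inv_one] at this
    exact this
  have hφadd : ∀ s t, φ (s + t) = φ s + φ t := fun s t => by
    ext a; exact hXadd s t _
  -- the kernel acts trivially as far as it is unipotent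
  have hunip : ∀ δ : G, π δ = 1 → (∀ a ∈ AA, θ δ a = a) → (∀ w, θ δ w - w ∈ AA) → ∀ w, θ δ w = w := by
    intro δ hδ hfix hmv w
    have hit : ∀ (i : ℕ) w, θ (δ ^ i) w = w + i • (θ δ w - w) := by
      intro i w
      induction i with
      | zero => rw [pow_zero, act_one, zero_smul, add_zero]
      | succ i ih =>
        rw [pow_succ', act_mul, ih, map_add, map_nsmul, hfix _ (hmv w), succ_nsmul]
        abel
    obtain ⟨i, m, hm, him⟩ :=
      Nat.exists_eq_pow_mul_and_not_dvd (orderOf_pos δ).ne' p hp.out.one_lt.ne'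
    have hm0 : m ≠ 0 := fun h0 => hm (by rw [h0]; exact dvd_zero p)
    have hzp : IsPGroup p (Subgroup.zpowers (δ ^ m)) := by
      refine IsPGroup.of_card (n := i) ?_
      rw [Nat.card_zpowers, orderOf_pow' δ hm0, him, Nat.gcd_eq_right (dvd_mul_left m _),
        Nat.mul_div_cancel _ (Nat.pos_of_ne_zero hm0)]
    obtain ⟨P, hP⟩ := hzp.exists_le_sylow
    obtain ⟨x, hx⟩ := MulAction.exists_smul_eq G S P
    have hkm : x⁻¹ * δ ^ m * x ∈ (S : Subgroup G) := by
      have h4 : δ ^ m ∈ (P : Subgroup G) := hP (Subgroup.mem_zpowers _)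
      rw [← hx] at h4
      exact mem_cj.1 (show δ ^ m ∈ cj x (S : Subgroup G) from h4)
    have h5 : x⁻¹ * δ ^ m * x ∈ pCore p G := h.inf_ker.le ⟨hkm, by
      show π (x⁻¹ * δ ^ m * x) = 1
      rw [map_mul, map_mul, map_pow, hδ, one_pow, mul_one, ← map_mul, inv_mul_cancel, map_one]⟩
    have h6 : δ ^ m ∈ pCore p G := by
      have h7 := (inferInstance : (pCore p G).Normal).conj_mem _ h5 x
      simpa [mul_assoc] using h7
    have h8 : m • (θ δ w - w) = 0 := by
      have h9 := hit m w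
      rwa [Θ.core _ h6, left_eq_add] at h9
    have h10 : (p ^ n) • (θ δ w - w) = 0 := by
      have h4 := congrArg Subtype.val (card_nsmul_eq_zero' (x := (⟨_, hmv w⟩ : AA)))
      rwa [hA] at h4
    have hcop : Nat.gcd m (p ^ n) = 1 :=
      ((hp.out.coprime_iff_not_dvd.2 hm).symm.pow_right n)
    have h11 := (addOrderOf_dvd_iff_nsmul_eq_zero (x := θ δ w - w)).2 h8
    have h12 := (addOrderOf_dvd_iff_nsmul_eq_zero (x := θ δ w - w)).2 h10
    have h13 := Nat.dvd_gcd h11 h12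
    rw [hcop, Nat.dvd_one, AddMonoid.addOrderOf_eq_one_iff, sub_eq_zero] at h13
    exact h13
  have hconj : ∀ h' ∈ mSyl S π, ∀ t s : F, π (h' * u t * h'⁻¹) = toPSL F (upperT s) →
      ∀ w, θ h' (X t w) = X s (θ h' w) := by
    intro h' hh' t s hts w
    have hst : ∀ a ∈ AA, θ h' a ∈ AA := fun a ha => (Θ.mSyl_le_stab hh' a).1 ha
    set δ := h' * u t * h'⁻¹ * (u s)⁻¹ with hδ
    have hδπ : π δ = 1 := by rw [hδ, map_mul, hts, map_inv, huπ, mul_inv_cancel]
    have hus : ∀ a ∈ AA, θ (u s)⁻¹ a = a := fun a ha => act_eq_of_eq θ _ (ha _ (huS s))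
    have hh'inv : ∀ a ∈ AA, θ h'⁻¹ a ∈ AA := fun a ha => (Θ.mSyl_le_stab (inv_mem hh') a).1 ha
    have hfixδ : ∀ a ∈ AA, θ δ a = a := fun a ha => by
      rw [hδ, act_mul, hus a ha, act_mul, act_mul, (hh'inv a ha) _ (huS t), act_inv]
    have hmvδ : ∀ v, θ δ v - v ∈ AA := fun v => by
      have e1 : θ δ v - θ (u s)⁻¹ v ∈ AA := by
        rw [hδ, act_mul, act_mul, act_mul, hθu, map_add, act_inv, add_sub_cancel_left]
        exact hst _ (hXA _ _)
      have e2 : θ (u s)⁻¹ v - v ∈ AA := by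
        have h14 := hXA s (θ (u s)⁻¹ v)
        rw [hXapp, act_inv] at h14
        simpa using neg_mem h14
      have := add_mem e1 e2
      rwa [sub_add_sub_cancel] at this
    have h15 := hunip δ hδπ hfixδ hmvδ (θ (u s) (θ h' w))
    rw [hδ, act_mul, act_inv', act_mul, act_mul, act_inv', hθu, hθu, map_add] at h15
    exact add_left_cancel h15
  have hjordan : ∀ a t : F, a ≠ 0 → φ (a ^ 2 * t) = φ a * φ t * φ a := by
    intro a t ha
    set h' := (u a * l (-a⁻¹) * u a) * (u 1 * l (-1) * u 1)⁻¹ with hh'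
    have e1 : π (u a * l (-a⁻¹) * u a) = toPSL F (weyl F * diagT (-a⁻¹) (neg_ne_zero.2 (inv_ne_zero ha))) := by
      rw [map_mul, map_mul, huπ, hlπ, ← map_mul, ← map_mul, triple a ha]
    have e1' : π (u 1 * l (-1) * u 1) =
        toPSL F (weyl F * diagT (-(1 : F)⁻¹) (neg_ne_zero.2 (inv_ne_zero one_ne_zero))) := by
      rw [map_mul, map_mul, huπ, hlπ, ← map_mul, ← map_mul, ← triple 1 one_ne_zero, inv_one]
    have e2 : π h' = toPSL F (diagT a ha) := by
      rw [hh', map_mul, map_inv, e1, e1', ← map_inv, ← map_mul]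
      congr 1
      rw [mul_inv_eq_iff_eq_mul]
      ext i j
      fin_cases i <;> fin_cases j <;>
        simp [weyl_coe, diagT_coe, Matrix.SpecialLinearGroup.coe_mul, Matrix.mul_apply, Fin.sum_univ_two] <;> field_simp
    have hh'M : h' ∈ mSyl S π := by rw [mSyl_iff hU, e2]; exact toPSL_diag_mem _ _
    have hts : π (h' * u t * h'⁻¹) = toPSL F (upperT (a ^ 2 * t)) := by
      rw [map_mul, map_mul, map_inv, e2, huπ, ← map_inv, ← map_mul, ← map_mul, diag_conj]
    -- images of vectors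
    have hWA : ∀ c : F, c ≠ 0 → ∀ v ∈ AA, θ (u c * l (-c⁻¹) * u c) v = Y (-c⁻¹) v := by
      intro c hc v hv
      have h16 := hXY c hc v hv
      rw [act_mul, act_mul, hv _ (huS c), hθl, map_add, hv _ (huS c), hθu]
      have h17 : Y (-c⁻¹) v = - Y c⁻¹ v := by
        rw [eq_neg_iff_add_eq_zero, ← hYadd, neg_add_cancel]
        have := hYadd 0 0 v
        rw [add_zero] at this
        exact left_eq_add.1 this
      rw [h17, map_neg, h16]
      abel
    have hWB : ∀ c : F, c ≠ 0 → ∀ b ∈ B, θ (u c * l (-c⁻¹) * u c) b = X c b := by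
      intro c hc b hb
      have h16 : Y c⁻¹ (X c b) = b := by
        have h18 := hXY c hc _ (hXA c b)
        exact sub_eq_zero.1 (hXinj c hc _ (sub_mem (hYB _ _) hb) (by rw [map_sub, h18, sub_self]))
      have h17 : Y (-c⁻¹) (X c b) = - b := by
        rw [eq_neg_iff_add_eq_zero]
        conv_lhs => arg 2; rw [← h16]
        rw [← hYadd, neg_add_cancel]
        have := hYadd 0 0 (X c b)
        rw [add_zero] at this
        exact left_eq_add.1 this
      rw [act_mul, act_mul, hθu c b, map_add, hθl (-c⁻¹) b, hYfix _ b hb, add_zero, hθl (-c⁻¹) (X c b), h17,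
        show b + (X c b + -b) = X c b by abel, hXA c b _ (huS c)]
    have hinv : ∀ v ∈ AA, θ (u 1 * l (-1) * u 1)⁻¹ v = Y 1 v := fun v hv => by
      refine act_eq_of_eq θ _ ?_
      have := hWB 1 one_ne_zero (Y 1 v) (hYB _ _)
      rw [inv_one] at this
      rw [this]
      have h18 := hXY 1 one_ne_zero v hv
      rwa [inv_one] at h18
    have hh'A : ∀ v : AA, θ h' v = φ a v := fun v => by
      rw [hh', act_mul, hinv v v.2, hWB a ha _ (hYB _ _), hφ]
    have hh'B : ∀ v : AA, θ h' (Y 1 v) = Y a⁻¹ v := fun v => by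
      have hb : θ (u 1 * l (-1) * u 1) (-(v : W)) = Y 1 v := by
        have h19 := hWA 1 one_ne_zero (-(v : W)) (neg_mem v.2)
        rw [inv_one] at h19
        rw [h19, map_neg, neg_eq_iff_add_eq_zero, ← hYadd, neg_add_cancel]
        have := hYadd 0 0 (v : W)
        rw [add_zero] at this
        exact left_eq_add.1 this
      rw [hh', act_mul, act_eq_of_eq θ _ hb, hWA a ha _ (neg_mem v.2), map_neg, neg_eq_iff_add_eq_zero, ← hYadd,
        neg_add_cancel]
      have := hYadd 0 0 (v : W)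
      rw [add_zero] at this
      exact left_eq_add.1 this
    -- `φ (a² t)` after the inverse of `φ a`
    have hfun : ∀ v : AA, φ (a ^ 2 * t) ⟨X 1 (Y a⁻¹ v), hXA _ _⟩ = φ a (φ t v) := by
      intro v
      apply Subtype.ext
      have h20 := hconj h' hh'M t (a ^ 2 * t) hts (Y 1 v)
      rw [hh'B] at h20
      rw [hφ]
      show X (a ^ 2 * t) (Y 1 (X 1 (Y a⁻¹ v))) = _
      rw [hY1 _ (inv_ne_zero ha) v v.2, ← h20, hh'A ⟨X t (Y 1 v), hXA _ _⟩]
      rfl
    have hright : ∀ v : AA, (⟨X 1 (Y a⁻¹ (φ a v : AA)), hXA _ _⟩ : AA) = v := by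
      intro v
      apply Subtype.ext
      show X 1 (Y a⁻¹ (X a (Y 1 v))) = v
      have h21 : Y a⁻¹ (X a (Y 1 v)) = Y 1 v := by
        have h22 := hXY a ha _ (hXA a (Y 1 v))
        exact sub_eq_zero.1 (hXinj a ha _ (sub_mem (hYB _ _) (hYB _ _)) (by rw [map_sub, h22, sub_self]))
      rw [h21]
      have := hXY 1 one_ne_zero v v.2
      rwa [inv_one] at this
    refine AddMonoidHom.ext fun v => ?_
    conv_lhs => rw [← hright v]
    exact hfun (φ a v)
  have hφ0 : φ 0 = 0 := by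
    have := hφadd 0 0
    rw [add_zero] at this
    exact left_eq_add.1 this
  have hφmul : ∀ s t, φ (s * t) = φ s * φ t := by
    intro s t
    obtain ⟨γ, hγ⟩ := IsCyclic.exists_generator (α := Fˣ)
    have hpow : ∀ m : ℕ, φ ((γ : F) ^ m) = φ γ ^ m := by
      intro m
      induction m using Nat.strong_induction_on with
      | _ m ih =>
        rcases m with _ | _ | m
        · rw [pow_zero, hφ1, pow_zero]
        · rw [pow_one, pow_one]
        · rw [show (γ : F) ^ (m + 1 + 1) = (γ : F) ^ 2 * (γ : F) ^ m by ring, hjordan _ _ (Units.ne_zero γ),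
            ih m (by omega), ← pow_succ', ← pow_succ]
    rcases eq_or_ne s 0 with rfl | hs
    · rw [zero_mul, hφ0, zero_mul]
    rcases eq_or_ne t 0 with rfl | ht
    · rw [mul_zero, hφ0, mul_zero]
    obtain ⟨i, hi⟩ := mem_powers_iff_mem_zpowers.2 (hγ (Units.mk0 s hs))
    obtain ⟨j, hj⟩ := mem_powers_iff_mem_zpowers.2 (hγ (Units.mk0 t ht))
    have hi' : (γ : F) ^ i = s := by simpa using congrArg Units.val hi
    have hj' : (γ : F) ^ j = t := by simpa using congrArg Units.val hj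
    rw [← hi', ← hj', ← pow_add, hpow, hpow, hpow, pow_add]
  have hYφ : ∀ t (a : AA), Y t a = Y 1 (φ t a : AA) := by
    intro t a
    rcases eq_or_ne t 0 with rfl | ht
    · have := hYadd 0 0 (a : W)
      rw [add_zero] at this
      rw [left_eq_add.1 this, hφ0]
      simp
    · rw [hφ]
      have e : X 1 (Y t a) = X t (Y 1 a) := by
        have h1 := congrArg Subtype.val (hψ t⁻¹ (inv_ne_zero ht) a)
        rw [hφ] at h1
        simp only [inv_inv] at h1
        have h2 : φ t (φ t⁻¹ ⟨X 1 (Y t a), hXA _ _⟩) = ⟨X 1 (Y t a), hXA _ _⟩ := by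
          show (φ t * φ t⁻¹) _ = _
          rw [← hφmul, mul_inv_cancel₀ ht, hφ1]
          rfl
        have h3 : φ t⁻¹ ⟨X 1 (Y t a), hXA _ _⟩ = a := Subtype.ext (by rw [hφ]; exact h1)
        rw [h3] at h2
        exact (congrArg Subtype.val h2).symm
      rw [← e, hY1 t ht a a.2]
  have hφadd' : ∀ s t (v : AA), φ (s + t) v = φ s v + φ t v := fun s t v => by rw [hφadd]; rfl
  have hφmul' : ∀ s t (v : AA), φ (s * t) v = φ s (φ t v) := fun s t v => by rw [hφmul]; rfl
  -- coordinates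
  obtain ⟨a₀', ha₀', ha0⟩ := Θ.exists_ne_zero
  set a₀ : AA := ⟨a₀', ha₀'⟩ with hadef
  have hev : ∀ s, φ s a₀ = 0 → s = 0 := by
    intro s hs
    by_contra hs0
    refine ha0 ?_
    have : φ s⁻¹ (φ s a₀) = a₀ := by
      show (φ s⁻¹ * φ s) a₀ = a₀
      rw [← hφmul, inv_mul_cancel₀ hs0, hφ1]
      rfl
    rw [hs, map_zero] at this
    exact congrArg Subtype.val this.symm
  let κ : (Fin 2 → F) →+ W :=
    { toFun := fun x => (φ (x 0) a₀ : W) + Y 1 (φ (x 1) a₀ : AA)
      map_zero' := by simp [hφ0]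
      map_add' := fun x y => by
        simp only [Pi.add_apply, hφadd', AddSubgroup.coe_add, map_add]
        abel }
  have hκinj : Function.Injective κ := by
    rw [injective_iff_map_eq_zero]
    intro x hx
    have h1 : ((φ (x 0) a₀ : AA) : W) = - Y 1 (φ (x 1) a₀ : AA) := eq_neg_of_add_eq_zero_left hx
    have h2 := hAB _ (φ (x 0) a₀).2 (h1 ▸ neg_mem (hYB _ _))
    have h3 : Y 1 (φ (x 1) a₀ : AA) = 0 := by
      have hx' : ((φ (x 0) a₀ : AA) : W) + Y 1 (φ (x 1) a₀ : AA) = 0 := hx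
      rwa [h2, zero_add] at hx'
    have h4 : φ (x 1) a₀ = 0 := by
      have := congrArg (X 1) h3
      have h18 := hXY 1 one_ne_zero _ (φ (x 1) a₀).2
      rw [inv_one] at h18
      rw [h18, map_zero] at this
      exact Subtype.ext this
    funext i
    fin_cases i
    · exact hev _ (Subtype.ext h2)
    · exact hev _ h4
  have hκbij : Function.Bijective κ := hκinj.bijective_of_nat_card_le (by
    rw [hW, Nat.card_eq_fintype_card, Fintype.card_fun, h.card, Fintype.card_fin, sq])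
  let ψ : W ≃+ (Fin 2 → F) := (AddEquiv.ofBijective κ hκbij).symm
  have hψsymm : ∀ x, ψ (κ x) = x := fun x => (AddEquiv.ofBijective κ hκbij).symm_apply_apply x
  have hκX : ∀ t x, θ (u t) (κ x) = κ ((upperT t : Matrix (Fin 2) (Fin 2) F).mulVec x) := by
    intro t x
    have e : (upperT t : Matrix (Fin 2) (Fin 2) F).mulVec x = ![x 0 + t * x 1, x 1] := by
      ext i; fin_cases i <;> simp [upperT_coe, Matrix.mulVec, dotProduct, Fin.sum_univ_two]
    rw [e, hθu]
    show (φ (x 0) a₀ : W) + Y 1 (φ (x 1) a₀ : AA) + X t ((φ (x 0) a₀ : W) + Y 1 (φ (x 1) a₀ : AA)) =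
      (φ (x 0 + t * x 1) a₀ : W) + Y 1 (φ (x 1) a₀ : AA)
    rw [map_add, hXfix t _ (φ (x 0) a₀).2, zero_add, ← hφ, hφadd', hφmul']
    show _ = ((φ (x 0) a₀ : AA) : W) + ((φ t (φ (x 1) a₀) : AA) : W) + _
    abel
  have hκY : ∀ t x, θ (l t) (κ x) = κ ((lowerT t : Matrix (Fin 2) (Fin 2) F).mulVec x) := by
    intro t x
    have e : (lowerT t : Matrix (Fin 2) (Fin 2) F).mulVec x = ![x 0, t * x 0 + x 1] := by
      ext i; fin_cases i <;> simp [lowerT_coe, Matrix.mulVec, dotProduct, Fin.sum_univ_two]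
    rw [e, hθl]
    show (φ (x 0) a₀ : W) + Y 1 (φ (x 1) a₀ : AA) + Y t ((φ (x 0) a₀ : W) + Y 1 (φ (x 1) a₀ : AA)) =
      (φ (x 0) a₀ : W) + Y 1 (φ (t * x 0 + x 1) a₀ : AA)
    rw [map_add (Y t), hYfix t _ (hYB _ _), add_zero, hYφ t (φ (x 0) a₀), hφadd', hφmul']
    show _ = ((φ (x 0) a₀ : AA) : W) +
      Y 1 (((φ t (φ (x 0) a₀) : AA) : W) + ((φ (x 1) a₀ : AA) : W))
    rw [map_add (Y 1)]
    abel
  have hcore : pCore p G ≤ fixer θ Set.univ := fun x hx w _ => Θ.core x hx w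
  let R : Subgroup G :=
    { carrier := {g | ∃ M : SL(2, F), ∀ w, ψ (θ g w) = (M : Matrix (Fin 2) (Fin 2) F).mulVec (ψ w)}
      one_mem' := ⟨1, fun w => by rw [act_one]; simp⟩
      mul_mem' := fun {a b} ⟨M, hM⟩ ⟨N, hN⟩ => ⟨M * N, fun w => by
        rw [act_mul, hM, hN, Matrix.mulVec_mulVec, Matrix.SpecialLinearGroup.coe_mul]⟩
      inv_mem' := fun {a} ⟨M, hM⟩ => ⟨M⁻¹, fun w => by
        have h1 := hM (θ a⁻¹ w)
        rw [act_inv] at h1
        rw [h1, Matrix.mulVec_mulVec, ← Matrix.SpecialLinearGroup.coe_mul, inv_mul_cancel]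
        simp⟩ }
  have hsurjκ : ∀ w, ∃ x, κ x = w := hκbij.surjective
  have huR : ∀ t, ∀ w, ψ (θ (u t) w) = (upperT t : Matrix (Fin 2) (Fin 2) F).mulVec (ψ w) := fun t w => by
    obtain ⟨x, rfl⟩ := hsurjκ w
    rw [hκX, hψsymm, hψsymm]
  have hlR : ∀ t, ∀ w, ψ (θ (l t) w) = (lowerT t : Matrix (Fin 2) (Fin 2) F).mulVec (ψ w) := fun t w => by
    obtain ⟨x, rfl⟩ := hsurjκ w
    rw [hκY, hψsymm, hψsymm]
  have hparam : ∀ s ∈ (S : Subgroup G), ∃ t, π s = toPSL F (upperT t) := fun s hs => by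
    have h1 : π s ∈ upperSub F := hU ▸ Subgroup.mem_map_of_mem π hs
    obtain ⟨t, ht⟩ := h1
    exact ⟨t.toAdd, ht.symm⟩
  have hRS : (S : Subgroup G) ≤ R := fun s hs => by
    obtain ⟨t, ht⟩ := hparam s hs
    exact ⟨upperT t, fun w => by rw [hθS s hs t ht, huR]⟩
  have hRS' : cj g0 (S : Subgroup G) ≤ R := fun x hx => by
    obtain ⟨t, ht⟩ := hparam _ (mem_cj.1 hx)
    refine ⟨lowerT (-t), fun w => ?_⟩
    rw [← hlR]
    congr 1
    simp only [hl, neg_neg]
    conv_lhs => rw [show x = g0 * (g0⁻¹ * x * g0) * g0⁻¹ by group]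
    rw [act_mul, act_mul, hθS _ (mem_cj.1 hx) t ht, ← act_mul, ← act_mul]
  have hRtop : ∀ g, g ∈ R := fun g =>
    (sup_le hRS hRS' : (S : Subgroup G) ⊔ cj g0 (S : Subgroup G) ≤ R)
      ((sup_cj_sylow h hg0M).ge (Subgroup.mem_top g))
  choose M hM using hRtop
  have huniq : ∀ g (N : SL(2, F)), (∀ w, ψ (θ g w) = (N : Matrix (Fin 2) (Fin 2) F).mulVec (ψ w)) → M g = N := by
    intro g N hN
    apply Subtype.ext
    refine Matrix.ext_iff_mulVec.2 fun x => ?_
    obtain ⟨w, rfl⟩ := ψ.surjective x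
    rw [← hM g w, hN w]
  let ρ : G →* SL(2, F) :=
    { toFun := M
      map_one' := huniq 1 1 fun w => by rw [act_one]; simp
      map_mul' := fun a b => huniq (a * b) (M a * M b) fun w => by
        rw [act_mul, hM, hM, Matrix.mulVec_mulVec, Matrix.SpecialLinearGroup.coe_mul] }
  have hρu : ∀ t, ρ (u t) = upperT t := fun t => huniq _ _ (huR t)
  have hρl : ∀ t, ρ (l t) = lowerT t := fun t => huniq _ _ (hlR t)
  refine ⟨ρ, ψ, fun N => ?_, ?_, hM⟩
  · exact mem_of_upper_lower (H := ρ.range) (fun a => ⟨u a, hρu a⟩) (fun a => ⟨l a, hρl a⟩) N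
  · refine MonoidHom.eq_of_eqOn_top fun g _ => ?_
    have hgen : g ∈ (S : Subgroup G) ⊔ cj g0 (S : Subgroup G) := (sup_cj_sylow h hg0M).ge (Subgroup.mem_top g)
    refine (sup_le (fun s hs => ?_) (fun x hx => ?_) :
      (S : Subgroup G) ⊔ cj g0 (S : Subgroup G) ≤ ((toPSL F).comp ρ).eqLocus π) hgen
    · obtain ⟨t, ht⟩ := hparam s hs
      show toPSL F (ρ s) = π s
      rw [ht, show ρ s = upperT t from huniq _ _ fun w => by rw [hθS s hs t ht, huR]]
    · obtain ⟨t, ht⟩ := hparam _ (mem_cj.1 hx)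
      show toPSL F (ρ x) = π x
      have hx' : π x = toPSL F (lowerT (-t)) := by
        rw [show x = g0 * (g0⁻¹ * x * g0) * g0⁻¹ by group, map_mul, map_mul, map_inv, hg0, ht,
          ← map_inv, ← map_mul, ← map_mul, ← weyl_conj, neg_neg]
      rw [hx', show ρ x = lowerT (-t) from huniq _ _ fun w => by
        rw [← hlR]
        congr 1
        simp only [hl, neg_neg]
        conv_lhs => rw [show x = g0 * (g0⁻¹ * x * g0) * g0⁻¹ by group]
        rw [act_mul, act_mul, hθS _ (mem_cj.1 hx) t ht, ← act_mul, ← act_mul]]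

end QAct

end CfsgLib.PushingUp44
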