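import Cfsg.Agent.PushingUp44.NatField
import Cfsg.Agent.Eq.Def_LocalEven

/-!
Sections of a group on which it acts quadratically with small fixed index are natural modules.
-/

set_option autoImplicit false

open Cfsg
open scoped MatrixGroups commutatorElement

namespace CfsgLib.PushingUp44

open CfsgLib.PushingUp (Hyp)

/-- Conjugation of a group on a normal subgroup, written additively. -/
def conjEnd {H : Type*} [Group H] (V : Subgroup H) [hV : V.Normal] : H →* AddMonoid.End (Additive V) where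
  toFun g :=
    { toFun := fun v => Additive.ofMul ⟨g * (v.toMul : H) * g⁻¹, hV.conj_mem _ v.toMul.2 g⟩
      map_zero' := Additive.toMul.injective (Subtype.ext (by simp))
      map_add' := fun a b => Additive.toMul.injective (Subtype.ext (by simp [mul_assoc])) }
  map_one' := AddMonoidHom.ext fun v => Additive.toMul.injective (Subtype.ext (by
    show 1 * (v.toMul : H) * 1⁻¹ = (v.toMul : H)
    group))
  map_mul' a b := AddMonoidHom.ext fun v => Additive.toMul.injective (Subtype.ext (by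
    show a * b * (v.toMul : H) * (a * b)⁻¹ = a * (b * (v.toMul : H) * b⁻¹) * a⁻¹
    group))

theorem coe_conjEnd {H : Type*} [Group H] (V : Subgroup H) [V.Normal] (g : H) (v : Additive V) :
    ((conjEnd V g v).toMul : H) = g * (v.toMul : H) * g⁻¹ := rfl

/-- Transitivity of `SL₂` on nonzero vectors. -/
theorem exists_mulVec_eq {F : Type*} [Field F] {v w : Fin 2 → F} (hv : v ≠ 0) (hw : w ≠ 0) :
    ∃ A : SL(2, F), (A : Matrix (Fin 2) (Fin 2) F).mulVec v = w := by
  have key : ∀ u : Fin 2 → F, u ≠ 0 →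
      ∃ A : SL(2, F), (A : Matrix (Fin 2) (Fin 2) F).mulVec ![1, 0] = u := by
    intro u hu
    by_cases h0 : u 0 = 0
    · have h1 : u 1 ≠ 0 := fun h1 => hu (funext fun i => by fin_cases i <;> assumption)
      refine ⟨⟨!![0, -(u 1)⁻¹; u 1, 0], by simp [Matrix.det_fin_two, h1]⟩, funext fun i => ?_⟩
      fin_cases i <;> simp [Matrix.mulVec, dotProduct, Fin.sum_univ_two, h0]
    · refine ⟨⟨!![u 0, 0; u 1, (u 0)⁻¹], by simp [Matrix.det_fin_two, h0]⟩, funext fun i => ?_⟩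
      fin_cases i <;> simp [Matrix.mulVec, dotProduct, Fin.sum_univ_two]
  obtain ⟨A, hA⟩ := key v hv
  obtain ⟨B, hB⟩ := key w hw
  refine ⟨B * A⁻¹, ?_⟩
  rw [← hA, Matrix.mulVec_mulVec, ← Matrix.SpecialLinearGroup.coe_mul, inv_mul_cancel_right]
  exact hB

variable {G : Type*} [Group G] {p : ℕ}

/-- A normal section on which `G` acts quadratically, with small fixed index and without fixed points. -/
structure QuadPair (S : Sylow p G) (n : ℕ) (M N : Subgroup G) : Prop where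
  norM : M.Normal
  norN : N.Normal
  le : N ≤ M
  comm : ∀ u ∈ M, ∀ v ∈ M, ⁅u, v⁆ ∈ N
  core : ∀ u ∈ M, ∀ x ∈ pCore p G, ⁅u, x⁆ ∈ N
  quad : ∀ u ∈ M, ∀ s ∈ (S : Subgroup G), ∀ s' ∈ (S : Subgroup G), ⁅⁅u, s⁆, s'⁆ ∈ N
  noFix : ∀ u ∈ M, (∀ g : G, ⁅u, g⁆ ∈ N) → u ∈ N
  index : (fixMod M N ((S : Subgroup G) : Set G)).relIndex M ≤ p ^ n
  nontrivial : ¬ M ≤ N

theorem comm_mem_iff {N : Subgroup G} [hN : N.Normal] {x u : G} :
    ⁅x, u⁆ ∈ N ↔ QuotientGroup.mk' N x * QuotientGroup.mk' N u * (QuotientGroup.mk' N x)⁻¹ =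
      QuotientGroup.mk' N u := by
  rw [← map_inv, ← map_mul, ← map_mul, ← mul_inv_eq_one, ← map_inv, ← map_mul, ← commutatorElement_def]
  exact (QuotientGroup.eq_one_iff _).symm

theorem comm_mem_iff' {N : Subgroup G} [hN : N.Normal] {x u : G} :
    ⁅u, x⁆ ∈ N ↔ QuotientGroup.mk' N x * QuotientGroup.mk' N u * (QuotientGroup.mk' N x)⁻¹ =
      QuotientGroup.mk' N u :=
  ⟨fun h => comm_mem_iff.1 (comm_symm_mem h), fun h => comm_symm_mem (comm_mem_iff.2 h)⟩

namespace QuadPair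

variable [Finite G] [hp : Fact p.Prime] {F : Type*} [Field F] [Fintype F] {S : Sylow p G}
  {π : G →* Matrix.ProjectiveSpecialLinearGroup (Fin 2) F} {n : ℕ} {M N : Subgroup G}

theorem exists_rho (P : QuadPair S n M N) (h : Hyp S π n) (hU : (S : Subgroup G).map π = upperSub F) :
    ∃ ρ : G →* SL(2, F), Function.Surjective ρ ∧ (toPSL F).comp ρ = π ∧
      (∀ x, x ∈ ρ.ker ↔ ∀ u ∈ M, ⁅x, u⁆ ∈ N) ∧
      (haveI := P.norN; IsNaturalSL2Module F (M.map (QuotientGroup.mk' N)) (⊤ : Subgroup (G ⧸ N))) ∧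
      (∀ L : Subgroup G, L.Normal → N ≤ L → L ≤ M → L = N ∨ L = M) ∧
      ∃ χ : G → (Fin 2 → F), (∀ u ∈ M, ∀ v ∈ M, χ (u * v) = χ u + χ v) ∧
        (∀ u ∈ M, χ u = 0 ↔ u ∈ N) ∧
        ∀ g : G, ∀ u ∈ M, χ (g * u * g⁻¹) = (ρ g : Matrix (Fin 2) (Fin 2) F).mulVec (χ u) := by
  classical
  haveI := P.norN
  haveI := P.norM
  set φ := QuotientGroup.mk' N with hφ
  set V := M.map φ with hV
  haveI : V.Normal := Subgroup.Normal.map inferInstance φ (QuotientGroup.mk'_surjective N)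
  have hcomm : ∀ a b : Additive V, a + b = b + a := fun a b => by
    obtain ⟨u, hu, hua⟩ := a.toMul.2
    obtain ⟨v, hv, hvb⟩ := b.toMul.2
    refine Additive.toMul.injective (Subtype.ext ?_)
    show (a.toMul : G ⧸ N) * (b.toMul : G ⧸ N) = (b.toMul : G ⧸ N) * (a.toMul : G ⧸ N)
    rw [← hua, ← hvb, ← commutatorElement_eq_one_iff_mul_comm, ← map_commutatorElement]
    exact (QuotientGroup.eq_one_iff _).2 (P.comm u hu v hv)
  letI : AddCommGroup (Additive V) := { (inferInstance : AddGroup (Additive V)) with add_comm := hcomm }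
  let θ : G →* AddMonoid.End (Additive V) := (conjEnd V).comp φ
  let ι : ∀ u, u ∈ M → Additive V := fun u hu => Additive.ofMul ⟨φ u, Subgroup.mem_map_of_mem φ hu⟩
  have hι : ∀ w : Additive V, ∃ u hu, ι u hu = w := fun w => by
    obtain ⟨u, hu, he⟩ := w.toMul.2
    exact ⟨u, hu, Additive.toMul.injective (Subtype.ext he)⟩
  have hfix : ∀ x u hu, θ x (ι u hu) = ι u hu ↔ ⁅x, u⁆ ∈ N := fun x u hu => by
    rw [comm_mem_iff]
    constructor
    · exact fun e => congrArg (fun z : Additive V => (z.toMul : G ⧸ N)) e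
    · exact fun e => Additive.toMul.injective (Subtype.ext e)
  have hzero : ∀ u hu, ι u hu = 0 ↔ u ∈ N := fun u hu => by
    rw [← QuotientGroup.eq_one_iff (N := N) u]
    constructor
    · exact fun e => congrArg (fun z : Additive V => (z.toMul : G ⧸ N)) e
    · exact fun e => Additive.toMul.injective (Subtype.ext e)
  have hA : ∀ u hu, ι u hu ∈ fixSub θ ((S : Subgroup G) : Set G) ↔ ∀ s ∈ (S : Subgroup G), ⁅u, s⁆ ∈ N :=
    fun u hu => ⟨fun hw s hs => comm_symm_mem ((hfix s u hu).1 (hw s hs)),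
      fun hw s hs => (hfix s u hu).2 (comm_symm_mem (hw s hs))⟩
  have hΘ : QAct h θ := by
    refine ⟨fun x hx w => ?_, fun s hs w => ?_, fun w hw => ?_, ?_, ?_⟩
    · obtain ⟨u, hu, rfl⟩ := hι w
      exact (hfix x u hu).2 (comm_symm_mem (P.core u hu x hx))
    · obtain ⟨u, hu, rfl⟩ := hι w
      have hmem : ⁅u, s⁆⁻¹ ∈ M := by
        rw [show ⁅u, s⁆⁻¹ = (s * u * s⁻¹) * u⁻¹ by simp [commutatorElement_def, mul_assoc]]
        exact mul_mem (P.norM.conj_mem u hu s) (inv_mem hu)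
      have e : θ s (ι u hu) - ι u hu = ι ⁅u, s⁆⁻¹ hmem := by
        refine Additive.toMul.injective (Subtype.ext ?_)
        show φ s * φ u * (φ s)⁻¹ / φ u = φ ⁅u, s⁆⁻¹
        rw [commutatorElement_inv, map_commutatorElement, commutatorElement_def, div_eq_mul_inv]
      rw [e]
      intro s' hs'
      have h1 := comm_mem_iff'.1 (P.quad u hu s hs s' hs')
      rw [hfix, comm_mem_iff, map_inv]
      · conv_rhs => rw [← h1]
        group
      exact hmem
    · obtain ⟨u, hu, rfl⟩ := hι w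
      exact (hzero u hu).2 (P.noFix u hu fun g => comm_symm_mem ((hfix g u hu).1 (hw g)))
    · set Fx := fixMod M N ((S : Subgroup G) : Set G) with hFx
      have hNF : N ≤ Fx := fun x hx => ⟨P.le hx, by rw [Subgroup.normalizer_eq_top_iff.2 P.norN]; trivial,
        fun s _ => by
          rw [show ⁅x, s⁆ = x * (s * x⁻¹ * s⁻¹) by simp [commutatorElement_def, mul_assoc]]
          exact mul_mem hx (P.norN.conj_mem _ (inv_mem hx) s)⟩
      have h1 : (Fx.map φ).relIndex V = Fx.relIndex M := by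
        rw [hV, Subgroup.relIndex_map_map, QuotientGroup.ker_mk', sup_eq_left.2 hNF, sup_eq_left.2 P.le]
      have h2 : Nat.card V = (Fx.map φ).relIndex V * Nat.card (Fx.map φ) := by
        rw [← Subgroup.relIndex_bot_left, ← Subgroup.relIndex_bot_left,
          mul_comm, Subgroup.relIndex_mul_relIndex _ _ _ bot_le (Subgroup.map_mono (fixMod_le _ _ _))]
      have h3 : Nat.card (Fx.map φ) ≤ Nat.card (fixSub θ ((S : Subgroup G) : Set G)) := by
        refine Nat.card_le_card_of_injective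
          (fun y => ⟨Additive.ofMul ⟨y.1, Subgroup.map_mono (fixMod_le _ _ _) y.2⟩, ?_⟩) fun a b hab => ?_
        · obtain ⟨u, hu, he⟩ := y.2
          have e : (Additive.ofMul ⟨y.1, Subgroup.map_mono (fixMod_le _ _ _) y.2⟩ : Additive V) = ι u hu.1 :=
            Additive.toMul.injective (Subtype.ext he.symm)
          rw [e]
          exact (hA u hu.1).2 hu.2.2
        · exact Subtype.ext (congrArg (fun z => ((z : fixSub θ ((S : Subgroup G) : Set G)).1.toMul : G ⧸ N)) hab)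
      show Nat.card V ≤ _
      rw [h2, h1]
      exact Nat.mul_le_mul P.index h3
    · obtain ⟨u, hu, huN⟩ := SetLike.not_le_iff_exists.1 P.nontrivial
      exact ⟨ι u hu, fun h0 => huN ((hzero u hu).1 h0)⟩
  obtain ⟨ρ, ψ, hρs, hρπ, hψ⟩ := hΘ.exists_rho hU
  have hker : ∀ x, x ∈ ρ.ker ↔ ∀ u ∈ M, ⁅x, u⁆ ∈ N := fun x => by
    constructor
    · intro hx u hu
      refine (hfix x u hu).1 (ψ.injective ?_)
      rw [hψ, MonoidHom.mem_ker.1 hx]
      simp
    · intro hx
      rw [MonoidHom.mem_ker]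
      refine Subtype.ext (Matrix.ext_iff_mulVec.2 fun y => ?_)
      obtain ⟨w, rfl⟩ := ψ.surjective y
      obtain ⟨u, hu, rfl⟩ := hι w
      rw [← hψ, (hfix x u hu).2 (hx u hu)]
      simp
  refine ⟨ρ, hρs, hρπ, hker, ?_, ?_, fun u => if hu : u ∈ M then ψ (ι u hu) else 0, ?_, ?_, ?_⟩
  · have hNk : N ≤ ρ.ker := fun x hx => (hker x).2 fun u _ => by
      rw [show ⁅x, u⁆ = x * (u * x⁻¹ * u⁻¹) by simp [commutatorElement_def, mul_assoc]]
      exact mul_mem hx (P.norN.conj_mem _ (inv_mem hx) u)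
    refine ⟨by rw [Subgroup.normalizer_eq_top_iff.2 inferInstance],
      (QuotientGroup.lift N ρ hNk).comp (Subgroup.subtype ⊤), ψ, fun y => ?_, ?_, fun l v => ?_⟩
    · obtain ⟨x, rfl⟩ := hρs y
      exact ⟨⟨φ x, trivial⟩, rfl⟩
    · ext ⟨z, hz⟩
      obtain ⟨x, rfl⟩ := QuotientGroup.mk'_surjective N z
      rw [MonoidHom.mem_ker, Subgroup.mem_subgroupOf, Subgroup.mem_centralizer_iff]
      show ρ x = 1 ↔ _
      rw [← MonoidHom.mem_ker, hker]
      constructor
      · rintro hx _ ⟨u, hu, rfl⟩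
        exact (mul_inv_eq_iff_eq_mul.1 (comm_mem_iff.1 (hx u hu))).symm
      · intro hx u hu
        rw [comm_mem_iff, mul_inv_eq_iff_eq_mul]
        exact (hx _ (Subgroup.mem_map_of_mem φ hu)).symm
    · obtain ⟨x, hx⟩ := QuotientGroup.mk'_surjective N (l : G ⧸ N)
      refine ⟨(θ x (Additive.ofMul v)).toMul, ?_, ?_⟩
      · show φ x * (v : G ⧸ N) * (φ x)⁻¹ = _
        rw [hφ, hx]
      · show ψ (θ x (Additive.ofMul v)) = _
        rw [hψ]
        congr 2
        show ρ x = QuotientGroup.lift N ρ hNk (l : G ⧸ N)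
        rw [← hx]
        rfl
  · intro L hL hNL hLM
    by_cases hLN : L ≤ N
    · exact Or.inl (le_antisymm hLN hNL)
    · obtain ⟨l, hl, hlN⟩ := SetLike.not_le_iff_exists.1 hLN
      refine Or.inr (le_antisymm hLM fun u hu => ?_)
      by_cases huN : u ∈ N
      · exact hNL huN
      have hv : ψ (ι l (hLM hl)) ≠ 0 := fun h0 =>
        hlN ((hzero l (hLM hl)).1 (ψ.injective (h0.trans ψ.map_zero.symm)))
      have hw : ψ (ι u hu) ≠ 0 := fun h0 => huN ((hzero u hu).1 (ψ.injective (h0.trans ψ.map_zero.symm)))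
      obtain ⟨A, hAv⟩ := exists_mulVec_eq hv hw
      obtain ⟨g, rfl⟩ := hρs A
      rw [← hψ] at hAv
      have h1 : φ (g * l * g⁻¹) = φ u := by
        rw [map_mul, map_mul, map_inv]
        exact congrArg (fun z : Additive V => (z.toMul : G ⧸ N)) (ψ.injective hAv)
      have h2 : (g * l * g⁻¹)⁻¹ * u ∈ L := hNL (QuotientGroup.eq.1 h1)
      have h3 := mul_mem (hL.conj_mem l hl g) h2
      rwa [mul_inv_cancel_left] at h3

  · intro u hu v hv
    simp only [dif_pos hu, dif_pos hv, dif_pos (mul_mem hu hv), ← map_add]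
    congr 1
  · intro u hu
    simp only [dif_pos hu]
    rw [← hzero u hu]
    exact ⟨fun e => ψ.injective (e.trans ψ.map_zero.symm), fun e => by rw [e, map_zero]⟩
  · intro g u hu
    simp only [dif_pos hu, dif_pos (P.norM.conj_mem u hu g), ← hψ]
    congr 1

omit [Finite G] hp in
/-- The property passes to an isomorphic section. -/
theorem transfer (P : QuadPair S n M N) {U W : Subgroup G} [hUn : U.Normal] [hWn : W.Normal] (hWU : W ≤ U)
    (hsup : U ≤ (U ⊓ M) ⊔ W) (hN : U ⊓ N ≤ W) (hno : ∀ u ∈ U, (∀ g : G, ⁅u, g⁆ ∈ W) → u ∈ W)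
    (hne : ¬ U ≤ W) [Finite G] : QuadPair S n U W := by
  haveI := P.norM
  haveI := P.norN
  have hW : ∀ w ∈ W, ∀ y : G, ⁅w, y⁆ ∈ W := fun w hw y => by
    rw [show ⁅w, y⁆ = w * (y * w⁻¹ * y⁻¹) by simp [commutatorElement_def, mul_assoc]]
    exact mul_mem hw (hWn.conj_mem _ (inv_mem hw) y)
  have hdec : ∀ u ∈ U, ∃ m ∈ U ⊓ M, ∃ w ∈ W, m * w = u := fun u hu =>
    exists_mul_of_mem_sup (by rw [Subgroup.normalizer_eq_top_iff.2 hWn]; exact le_top) (hsup hu)
  have hred : ∀ u ∈ U, ∀ y : G, (∀ m ∈ U ⊓ M, ⁅m, y⁆ ∈ W) → ⁅u, y⁆ ∈ W := fun u hu y hy => by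
    obtain ⟨m, hm, w, hw, rfl⟩ := hdec u hu
    rw [comm_mul_left]
    exact mul_mem (hWn.conj_mem _ (hW w hw y) m) (hy m hm)
  have hUc : ∀ u ∈ U, ∀ y : G, ⁅u, y⁆ ∈ U := fun u hu y => by
    rw [show ⁅u, y⁆ = u * (y * u⁻¹ * y⁻¹) by simp [commutatorElement_def, mul_assoc]]
    exact mul_mem hu (hUn.conj_mem _ (inv_mem hu) y)
  have hMc : ∀ u ∈ M, ∀ y : G, ⁅u, y⁆ ∈ M := fun u hu y => by
    rw [show ⁅u, y⁆ = u * (y * u⁻¹ * y⁻¹) by simp [commutatorElement_def, mul_assoc]]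
    exact mul_mem hu (P.norM.conj_mem _ (inv_mem hu) y)
  refine ⟨hUn, hWn, hWU, fun u hu v hv => hred u hu v fun m hm => comm_symm_mem (hred v hv m fun m' hm' =>
      hN ⟨hUc m' hm'.1 m, P.comm m' hm'.2 m hm.2⟩),
    fun u hu x hx => hred u hu x fun m hm => hN ⟨hUc m hm.1 x, P.core m hm.2 x hx⟩, ?_, hno, ?_, hne⟩
  · intro u hu s hs s' hs'
    obtain ⟨m, hm, w, hw, rfl⟩ := hdec u hu
    rw [comm_mul_left m w s, comm_mul_left]
    exact mul_mem (hWn.conj_mem _ (hN ⟨hUc _ (hUc m hm.1 s) s', P.quad m hm.2 s hs s' hs'⟩) _)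
      (hW _ (hWn.conj_mem _ (hW w hw s) m) s')
  · set F' := fixMod U W ((S : Subgroup G) : Set G) with hF'
    have hWF : W ≤ F' := fun x hx => ⟨hWU hx, by rw [Subgroup.normalizer_eq_top_iff.2 hWn]; trivial,
      fun s _ => hW x hx s⟩
    have hU : U = (U ⊓ M) ⊔ W := le_antisymm hsup (sup_le inf_le_left hWU)
    set X := U ⊓ M with hX
    calc F'.relIndex U = (F' ⊔ W).relIndex (X ⊔ W) := by rw [sup_eq_left.2 hWF, ← hU]
      _ = (F'.map (QuotientGroup.mk' W)).relIndex (X.map (QuotientGroup.mk' W)) := by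
        rw [Subgroup.relIndex_map_map, QuotientGroup.ker_mk']
      _ = F'.relIndex X := by
        rw [← Subgroup.relIndex_comap, Subgroup.comap_map_eq, QuotientGroup.ker_mk', sup_eq_left.2 hWF]
      _ ≤ (fixMod M N ((S : Subgroup G) : Set G) ⊓ U).relIndex X := by
        refine relIndex_anti_left ?_ _
        intro x hx
        refine ⟨hx.2, ?_, fun s hs => hN ⟨hUc x hx.2 s, hx.1.2.2 s hs⟩⟩
        rw [Subgroup.normalizer_eq_top_iff.2 hWn]; trivial
      _ = (fixMod M N ((S : Subgroup G) : Set G)).relIndex X := by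
        rw [← Subgroup.inf_relIndex_right (H := fixMod M N ((S : Subgroup G) : Set G) ⊓ U), inf_assoc,
          inf_eq_right.2 (inf_le_left : X ≤ U), Subgroup.inf_relIndex_right]
      _ ≤ _ := (relIndex_mono_right _ inf_le_right).trans P.index

/-- Two lifts of a homomorphism onto `PSL₂` are equal. -/
theorem lifts_eq (h : Hyp S π n) {ρ ρ' : G →* SL(2, F)} (h1 : (toPSL F).comp ρ = π)
    (h2 : (toPSL F).comp ρ' = π) : ρ = ρ' := by
  haveI := charP_field h
  have key : ∀ x : G, (∃ k, x ^ p ^ k = 1) → ρ x = ρ' x := by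
    rintro x ⟨k, hk⟩
    have e : toPSL F (ρ x) = toPSL F (ρ' x) := (DFunLike.congr_fun h1 x).trans (DFunLike.congr_fun h2 x).symm
    rw [QuotientGroup.mk'_eq_mk'] at e
    obtain ⟨z, hz, hzx⟩ := e
    have hc : Commute (ρ x) z := Subgroup.mem_center_iff.1 hz (ρ x)
    have h3 : z = 1 := center_pPower (p := p) hz k (by
      have h4 := congrArg (· ^ p ^ k) hzx
      rw [hc.mul_pow, ← map_pow, ← map_pow, hk, map_one, map_one, one_mul] at h4
      exact h4)
    rw [← hzx, h3, mul_one]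
  obtain ⟨g, hg⟩ := exists_not_mem_mSyl h
  have hle : (S : Subgroup G) ⊔ cj g (S : Subgroup G) ≤ ρ.eqLocus ρ' := by
    refine sup_le (fun s hs => key s ?_) fun s hs => key s ?_
    · obtain ⟨k, hk⟩ := S.isPGroup' ⟨s, hs⟩
      exact ⟨k, congrArg Subtype.val hk⟩
    · obtain ⟨t, ht, rfl⟩ := hs
      obtain ⟨k, hk⟩ := S.isPGroup' ⟨t, ht⟩
      refine ⟨k, ?_⟩
      rw [← map_pow, show t ^ p ^ k = 1 from congrArg Subtype.val hk, map_one]
  rw [sup_cj_sylow h hg] at hle
  exact MonoidHom.ext fun x => hle (Subgroup.mem_top x)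

end QuadPair

/-- An element of order prime to `p` centralising `[a, x]` and fixing `a` modulo a `p`-element. -/
theorem commute_of_coprime_comm {a x : G} (hx : Nat.Coprime (orderOf x) p) (hc : Commute ⁅a, x⁆ x)
    (hp' : ∃ k, ⁅a, x⁆ ^ p ^ k = 1) : Commute a x := by
  obtain ⟨k, hk⟩ := hp'
  refine commute_of_comm_one ?_
  have e : a * x * a⁻¹ = ⁅a, x⁆ * x := by simp [commutatorElement_def, mul_assoc]
  have h1 : ⁅a, x⁆ ^ orderOf x = 1 := by
    have h2 : (a * x * a⁻¹) ^ orderOf x = 1 := by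
      rw [conj_pow, pow_orderOf_eq_one, mul_one, mul_inv_cancel]
    rwa [e, hc.mul_pow, pow_orderOf_eq_one, mul_one] at h2
  have h3 := Nat.dvd_gcd (orderOf_dvd_of_pow_eq_one h1) (orderOf_dvd_of_pow_eq_one hk)
  rw [show Nat.gcd (orderOf x) (p ^ k) = 1 from hx.pow_right k, Nat.dvd_one, orderOf_eq_one_iff] at h3
  exact h3

end CfsgLib.PushingUp44
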